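import Mathlib
import Cfsg.Agent.S0577
import Cfsg.Agent.Helper11.FrobFixed
import Cfsg.Agent.Lead.Coprime

set_option autoImplicit false
set_option linter.style.haveILetI false

namespace Cfsg.Agent.Lead.Fpf

open Cfsg
open scoped Pointwise

universe u

variable {G : Type u} [Group G]

theorem inv_iff [Finite G] (φ : G ≃* G) (H : Subgroup G) (h : ∀ x ∈ H, φ x ∈ H) (x : G) :
    φ x ∈ H ↔ x ∈ H := by
  constructor
  · intro hx
    let f : H → H := fun a => ⟨φ a, h a a.2⟩
    have hinj : Function.Injective f := by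
      intro a b hab
      apply Subtype.ext
      apply φ.injective
      exact congrArg Subtype.val hab
    obtain ⟨a, ha⟩ := Finite.surjective_of_injective hinj ⟨φ x, hx⟩
    have h1 : φ (a : G) = φ x := congrArg Subtype.val ha
    rw [← φ.injective h1]
    exact a.2
  · exact h x

theorem map_eq [Finite G] (φ : G ≃* G) (H : Subgroup G) (h : ∀ x ∈ H, φ x ∈ H) :
    H.map φ.toMonoidHom = H := by
  ext x
  constructor
  · rintro ⟨a, ha, rfl⟩
    exact h a ha
  · intro hx
    have h1 : φ.symm x ∈ H := (inv_iff φ H h _).mp (by simpa using hx)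
    exact ⟨φ.symm x, h1, by simp⟩

theorem cent_inv [Finite G] (φ : G ≃* G) (H : Subgroup G) (h : ∀ x ∈ H, φ x ∈ H) (x : G)
    (hx : x ∈ Subgroup.centralizer (H : Set G)) : φ x ∈ Subgroup.centralizer (H : Set G) := by
  rw [Subgroup.mem_centralizer_iff] at hx ⊢
  intro a ha
  have ha' : φ.symm a ∈ H := by
    rw [← inv_iff φ H h]
    simpa using ha
  have h1 := hx (φ.symm a) ha'
  have h2 := congrArg φ h1
  simpa using h2

theorem normalizer_inv [Finite G] (φ : G ≃* G) (H : Subgroup G) (h : ∀ x ∈ H, φ x ∈ H) (x : G)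
    (hx : x ∈ Subgroup.normalizer (H : Set G)) : φ x ∈ Subgroup.normalizer (H : Set G) := by
  rw [Subgroup.mem_normalizer_iff] at hx ⊢
  intro a
  have h1 : φ x * a * (φ x)⁻¹ = φ (x * φ.symm a * x⁻¹) := by simp
  rw [h1, inv_iff φ H h, ← hx, ← inv_iff φ H h (φ.symm a)]
  simp

theorem comm_inj (φ : G ≃* G) (hφ : ∀ g, φ g = g → g = 1) (a b : G)
    (hab : (φ a)⁻¹ * a = (φ b)⁻¹ * b) : a = b := by
  have h1 : φ (b * a⁻¹) = b * a⁻¹ := by
    rw [map_mul, map_inv]
    have h2 : φ b * ((φ a)⁻¹ * a) * a⁻¹ = φ b * ((φ b)⁻¹ * b) * a⁻¹ := by rw [hab]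
    simpa [mul_assoc] using h2
  have h3 := hφ _ h1
  exact (mul_inv_eq_one.mp h3).symm

theorem comm_surj [Finite G] (φ : G ≃* G) (hφ : ∀ g, φ g = g → g = 1) (x : G) :
    ∃ g : G, (φ g)⁻¹ * g = x :=
  Finite.surjective_of_injective (f := fun g : G => (φ g)⁻¹ * g)
    (fun a b hab => comm_inj φ hφ a b hab) x

/-- restriction of an automorphism to an invariant subgroup -/
noncomputable def restr [Finite G] (φ : G ≃* G) (H : Subgroup G) (h : ∀ x ∈ H, φ x ∈ H) :
    H ≃* H :=
  MulEquiv.ofBijective ((φ.toMonoidHom.comp H.subtype).codRestrict H (fun a => h a a.2)) (by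
    have hinj : Function.Injective
        ((φ.toMonoidHom.comp H.subtype).codRestrict H (fun a => h a a.2)) := by
      intro a b hab
      apply Subtype.ext
      apply φ.injective
      exact congrArg Subtype.val hab
    exact ⟨hinj, Finite.surjective_of_injective hinj⟩)

theorem restr_apply [Finite G] (φ : G ≃* G) (H : Subgroup G) (h : ∀ x ∈ H, φ x ∈ H) (a : H) :
    ((restr φ H h a : H) : G) = φ a := rfl

theorem restr_pow [Finite G] (φ : G ≃* G) (H : Subgroup G) (h : ∀ x ∈ H, φ x ∈ H) (k : ℕ)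
    (a : H) : ((((restr φ H h) ^ k) a : H) : G) = (φ ^ k) a := by
  induction k generalizing a with
  | zero => simp
  | succ k ih =>
    rw [pow_succ, pow_succ, MulAut.mul_apply, MulAut.mul_apply, ih]
    rfl

/-- the induced automorphism on a quotient -/
noncomputable def quot (φ : G ≃* G) (M : Subgroup G) [M.Normal]
    (h : M.map φ.toMonoidHom = M) : G ⧸ M ≃* G ⧸ M :=
  QuotientGroup.congr M M φ h

theorem quot_mk (φ : G ≃* G) (M : Subgroup G) [M.Normal]
    (h : M.map φ.toMonoidHom = M) (g : G) :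
    quot φ M h (QuotientGroup.mk g) = QuotientGroup.mk (φ g) := rfl

theorem quot_pow (φ : G ≃* G) (M : Subgroup G) [M.Normal]
    (h : M.map φ.toMonoidHom = M) (k : ℕ) (g : G) :
    ((quot φ M h) ^ k) (QuotientGroup.mk g) = QuotientGroup.mk ((φ ^ k) g) := by
  induction k generalizing g with
  | zero => simp
  | succ k ih =>
    rw [pow_succ, pow_succ, MulAut.mul_apply, MulAut.mul_apply, quot_mk, ih]

theorem quot_fpf [Finite G] (φ : G ≃* G) (hφ : ∀ g, φ g = g → g = 1) (M : Subgroup G)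
    [M.Normal] (hM : ∀ x ∈ M, φ x ∈ M) (h : M.map φ.toMonoidHom = M) (x : G ⧸ M)
    (hx : quot φ M h x = x) : x = 1 := by
  induction x using QuotientGroup.induction_on with
  | H g =>
    rw [quot_mk] at hx
    have h1 : (φ g)⁻¹ * g ∈ M := QuotientGroup.eq.mp hx
    -- the commutator map on M is surjective
    have hsurj : Function.Surjective (fun m : M => (⟨(φ m)⁻¹ * m,
        M.mul_mem (M.inv_mem (hM m m.2)) m.2⟩ : M)) := by
      apply Finite.surjective_of_injective
      intro a b hab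
      apply Subtype.ext
      exact comm_inj φ hφ a b (congrArg Subtype.val hab)
    obtain ⟨m, hm⟩ := hsurj ⟨_, h1⟩
    have h2 : (φ (m : G))⁻¹ * m = (φ g)⁻¹ * g := congrArg Subtype.val hm
    have h3 : (m : G) = g := comm_inj φ hφ _ _ h2
    rw [← h3]
    exact (QuotientGroup.eq_one_iff _).mpr m.2

theorem exists_inv_sylow [Finite G] (φ : G ≃* G) (hφ : ∀ g, φ g = g → g = 1) (q : ℕ)
    [Fact q.Prime] : ∃ Q : Sylow q G, ∀ x ∈ Q, φ x ∈ Q := by
  obtain ⟨Q₀⟩ : Nonempty (Sylow q G) := inferInstance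
  -- the image of Q₀ under φ is a Sylow subgroup
  have hcard : Nat.card ((Q₀ : Subgroup G).map φ.toMonoidHom) =
      q ^ (Nat.card G).factorization q := by
    rw [Subgroup.card_map_of_injective φ.injective]
    exact Sylow.card_eq_multiplicity Q₀
  obtain ⟨x, hx⟩ := MulAction.exists_smul_eq G Q₀ (Sylow.ofCard _ hcard)
  have hx' : MulAut.conj x • (Q₀ : Subgroup G) = (Q₀ : Subgroup G).map φ.toMonoidHom := by
    have h0 : ((x • Q₀ : Sylow q G) : Subgroup G) = MulAut.conj x • (Q₀ : Subgroup G) := rfl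
    have := congrArg (fun S : Sylow q G => (S : Subgroup G)) hx
    rw [← h0]
    simpa [Sylow.coe_ofCard] using this
  obtain ⟨g, hg⟩ := comm_surj φ hφ x
  refine ⟨g • Q₀, ?_⟩
  intro s hs
  have hs' : s ∈ MulAut.conj g • (Q₀ : Subgroup G) := hs
  show φ s ∈ MulAut.conj g • (Q₀ : Subgroup G)
  rw [Lead.mem_conj_smul'] at hs' ⊢
  have h1 : φ (g⁻¹ * s * g) ∈ MulAut.conj x • (Q₀ : Subgroup G) := by
    rw [hx']
    exact Subgroup.mem_map_of_mem _ hs'
  rw [Lead.mem_conj_smul'] at h1
  have h2 : x⁻¹ * φ (g⁻¹ * s * g) * x = g⁻¹ * φ s * g := by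
    rw [← hg]
    simp [mul_assoc]
  rwa [h2] at h1

theorem hall_inv [Finite G] (φ : G ≃* G) (K : Subgroup G) [K.Normal]
    (hcop : (Nat.card K).Coprime K.index) (x : G) (hx : x ∈ K) : φ x ∈ K := by
  have h1 : x ^ Nat.card K = 1 := by
    have h0 : (⟨x, hx⟩ : K) ^ Nat.card K = 1 := pow_card_eq_one'
    have h := congrArg Subtype.val h0
    rw [Subgroup.coe_pow] at h
    exact h
  have h2 : (φ x) ^ Nat.card K = 1 := by rw [← map_pow, h1, map_one]
  have h3 : (QuotientGroup.mk (φ x) : G ⧸ K) ^ Nat.card K = 1 := by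
    rw [← QuotientGroup.mk_pow, h2]
    rfl
  have h4 : (QuotientGroup.mk (φ x) : G ⧸ K) ^ K.index = 1 := by
    rw [Subgroup.index_eq_card]
    exact pow_card_eq_one'
  have h5 := pow_gcd_eq_one.mpr ⟨h3, h4⟩
  rw [Nat.Coprime.gcd_eq_one hcop, pow_one] at h5
  exact (QuotientGroup.eq_one_iff _).mp h5


/-- **Thompson's theorem on fixed-point-free automorphisms of prime order**, modulo a
normal `q`-complement criterion `crit` for odd primes. -/
theorem core (p : ℕ) (hp : p.Prime)
    (crit : ∀ (H : Type u) [Group H] [Finite H] (φ : H ≃* H) (q : ℕ) [Fact q.Prime], q ≠ 2 →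
      ∀ Q : Sylow q H, (∀ x ∈ Q, φ x ∈ Q) →
      (∀ K : Subgroup H, K ≠ ⊤ → (∀ k ∈ K, φ k ∈ K) → HasNormalPComplement q K) →
      (∃ Z : Subgroup H, Z.Normal ∧ ((Q : Subgroup H) ≠ ⊥ → Z ≠ ⊥) ∧ (∀ z ∈ Z, φ z ∈ Z) ∧
        IsPGroup q Z) ∨ HasNormalPComplement q H) :
    ∀ n : ℕ, ∀ (G : Type u) [Group G] [Finite G], Nat.card G = n → ∀ φ : G ≃* G,
      (∀ g, φ g = g → g = 1) → φ ^ p = 1 → Group.IsNilpotent G := by
  intro n
  induction n using Nat.strong_induction_on with
  | _ n ih =>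
  intro G _ _ hn φ hφ hφp
  by_contra hnil
  have hsub : ∀ H : Subgroup G, H ≠ ⊤ → (∀ x ∈ H, φ x ∈ H) → Group.IsNilpotent H := by
    intro H hH hinv
    refine ih (Nat.card H) (hn ▸ S0001.card_lt_of_ne_top hH) H rfl (restr φ H hinv) ?_ ?_
    · intro a ha
      exact Subtype.ext (hφ a (congrArg Subtype.val ha))
    · refine MulEquiv.ext fun a => Subtype.ext ?_
      rw [restr_pow, hφp]
      rfl
  have hquot : ∀ M : Subgroup G, ∀ _ : M.Normal, M ≠ ⊥ → (∀ x ∈ M, φ x ∈ M) →
      Group.IsNilpotent (G ⧸ M) := by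
    intro M hMn hM hinv
    refine ih (Nat.card (G ⧸ M)) (hn ▸ S0001.card_quotient_lt hM) (G ⧸ M) rfl
      (quot φ M (map_eq φ M hinv)) (quot_fpf φ hφ M hinv (map_eq φ M hinv)) ?_
    refine MulEquiv.ext fun x => ?_
    induction x using QuotientGroup.induction_on with
    | H g =>
      rw [quot_pow, hφp]
      rfl
  -- Step A: G is solvable
  have hsolv : Group.IsSolvable G := by
    by_cases h2 : ∀ q : ℕ, q.Prime → q ∣ Nat.card G → q = 2
    · exfalso
      apply hnil
      have hcard :=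
        Nat.eq_prime_pow_of_unique_prime_dvd Nat.card_pos.ne' (fun {q} hq hd => h2 q hq hd)
      haveI : Fact (Nat.Prime 2) := ⟨Nat.prime_two⟩
      exact (IsPGroup.of_card hcard).isNilpotent
    · push Not at h2
      obtain ⟨q, hq, hqd, hq2⟩ := h2
      haveI : Fact q.Prime := ⟨hq⟩
      obtain ⟨Q, hQ⟩ := exists_inv_sylow φ hφ q
      have hQne : (Q : Subgroup G) ≠ ⊥ := Sylow.ne_bot_of_dvd_card Q hqd
      rcases crit G φ q hq2 Q hQ
        (fun K hK hKφ => S0577.npc_of_nilpotent q (hsub K hK hKφ)) with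
        ⟨Z, hZn, hZne, hZφ, hZq⟩ | hnpc
      · haveI := hZn
        haveI : Group.IsNilpotent (G ⧸ Z) := hquot Z hZn (hZne hQne) hZφ
        haveI : Group.IsNilpotent Z := hZq.isNilpotent
        exact Group.isSolvable_of_ker_le_range Z.subtype (QuotientGroup.mk' Z) (by simp)
      · obtain ⟨K, hKn, hKcop, k, hk⟩ := (S0072.npc_iff q).mp hnpc
        haveI := hKn
        have hKφ : ∀ x ∈ K, φ x ∈ K :=
          hall_inv φ K (by rw [hk]; exact Nat.Coprime.pow_right k hKcop)
        have hKtop : K ≠ ⊤ := by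
          rintro rfl
          rw [Subgroup.card_top] at hKcop
          exact hq.one_lt.ne' (Nat.eq_one_of_dvd_one
            (hKcop ▸ Nat.dvd_gcd hqd dvd_rfl))
        haveI : Group.IsNilpotent K := hsub K hKtop hKφ
        haveI : Group.IsNilpotent (G ⧸ K) :=
          (IsPGroup.of_card (by rw [← Subgroup.index_eq_card]; exact hk)).isNilpotent
        exact Group.isSolvable_of_ker_le_range K.subtype (QuotientGroup.mk' K) (by simp)
  -- Step B: the solvable case
  haveI : Nontrivial G := by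
    by_contra h
    rw [not_nontrivial_iff_subsingleton] at h
    exact hnil inferInstance
  obtain ⟨V, ⟨hVn, hVne, hVφ⟩, hVmin⟩ : ∃ V : Subgroup G,
      (V.Normal ∧ V ≠ ⊥ ∧ ∀ x ∈ V, φ x ∈ V) ∧
      ∀ M : Subgroup G, M.Normal → (∀ x ∈ M, φ x ∈ M) → M ≤ V → M = ⊥ ∨ M = V := by
    have hex : ∃ k, ∃ V : Subgroup G, (V.Normal ∧ V ≠ ⊥ ∧ ∀ x ∈ V, φ x ∈ V) ∧
        Nat.card V = k :=
      ⟨_, ⊤, ⟨inferInstance, top_ne_bot, fun x _ => Subgroup.mem_top _⟩, rfl⟩
    classical
    obtain ⟨V, hV, hVk⟩ := Nat.find_spec hex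
    refine ⟨V, hV, fun M hMn hMφ hMV => ?_⟩
    by_contra hcon
    push Not at hcon
    have hlt : Nat.card M < Nat.card V := S0001.card_lt_of_lt (lt_of_le_of_ne hMV hcon.2)
    exact Nat.find_min hex (hVk ▸ hlt) ⟨M, ⟨hMn, hcon.1, hMφ⟩, rfl⟩
  haveI := hVn
  have hVmap : V.map φ.toMonoidHom = V := map_eq φ V hVφ
  have hVcomm : ⁅V, V⁆ = ⊥ := by
    have hlt : ⁅V, V⁆ < V := Group.IsSolvable.commutator_lt_of_ne_bot hVne
    rcases hVmin ⁅V, V⁆ inferInstance (fun x hx => by
        have : φ.toMonoidHom x ∈ (⁅V, V⁆).map φ.toMonoidHom := Subgroup.mem_map_of_mem _ hx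
        rwa [Subgroup.map_commutator, hVmap] at this) hlt.le with h | h
    · exact h
    · exact absurd h hlt.ne
  have hVab : ∀ a ∈ V, ∀ b ∈ V, a * b = b * a := by
    have hle : V ≤ Subgroup.centralizer (V : Set G) :=
      Subgroup.commutator_eq_bot_iff_le_centralizer.mp hVcomm
    intro a ha b hb
    exact (Subgroup.mem_centralizer_iff.mp (hle hb) a ha)
  haveI : IsMulCommutative V := ⟨⟨fun a b => Subtype.ext (hVab a a.2 b b.2)⟩⟩
  obtain ⟨r, hr, hrV⟩ : ∃ r : ℕ, r.Prime ∧ ∀ v ∈ V, v ^ r = 1 := by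
    have hcard : Nat.card V ≠ 1 := fun h => hVne (Subgroup.card_eq_one.mp h)
    obtain ⟨r, hr, hrd⟩ := Nat.exists_prime_and_dvd hcard
    haveI : Fact r.Prime := ⟨hr⟩
    refine ⟨r, hr, ?_⟩
    let Ω : Subgroup G :=
      { carrier := {v | v ∈ V ∧ v ^ r = 1}
        one_mem' := ⟨V.one_mem, one_pow _⟩
        mul_mem' := fun {a b} ha hb => ⟨V.mul_mem ha.1 hb.1, by
          rw [(show Commute a b from hVab a ha.1 b hb.1).mul_pow, ha.2, hb.2, one_mul]⟩
        inv_mem' := fun {a} ha => ⟨V.inv_mem ha.1, by rw [inv_pow, ha.2, inv_one]⟩ }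
    have hΩn : Ω.Normal := ⟨fun a ha g => ⟨hVn.conj_mem a ha.1 g, by
      rw [conj_pow, ha.2, mul_one, mul_inv_cancel]⟩⟩
    have hΩφ : ∀ x ∈ Ω, φ x ∈ Ω := fun x hx =>
      ⟨hVφ x hx.1, by rw [← map_pow, hx.2, map_one]⟩
    have hΩne : Ω ≠ ⊥ := by
      obtain ⟨v, hv⟩ := exists_prime_orderOf_dvd_card' (G := V) r hrd
      intro hbot
      have hmem : (v : G) ∈ Ω := ⟨v.2, by
        have h0 : v ^ r = 1 := by rw [← hv]; exact pow_orderOf_eq_one v
        have h := congrArg Subtype.val h0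
        rw [Subgroup.coe_pow] at h
        exact h⟩
      rw [hbot, Subgroup.mem_bot] at hmem
      have hv1 : v = 1 := Subtype.ext hmem
      rw [hv1, orderOf_one] at hv
      exact hr.one_lt.ne hv
    rcases hVmin Ω hΩn hΩφ (fun x hx => hx.1) with h | h
    · exact absurd h hΩne
    · intro v hv
      have : v ∈ Ω := h ▸ hv
      exact this.2
  haveI : Fact r.Prime := ⟨hr⟩
  have hVr : IsPGroup r V := fun v => ⟨1, Subtype.ext (by
    rw [pow_one, Subgroup.coe_pow]
    exact hrV v v.2)⟩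
  haveI hGV : Group.IsNilpotent (G ⧸ V) := hquot V hVn hVne hVφ
  have htfae : Group.IsNilpotent G ↔
      ∀ (s : ℕ) (_hs : Fact s.Prime) (S : Sylow s G), (S : Subgroup G).Normal :=
    (Group.isNilpotent_of_finite_tfae (G := G)).out 0 3
  have hnotall : ¬ ∀ (s : ℕ) (_hs : Fact s.Prime) (S : Sylow s G), (S : Subgroup G).Normal :=
    fun h => hnil (htfae.mpr h)
  push Not at hnotall
  obtain ⟨s, hs, S₀, hS₀⟩ := hnotall
  haveI := hs
  obtain ⟨S, hSφ⟩ := exists_inv_sylow φ hφ s
  have hSnn : ¬ (S : Subgroup G).Normal := by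
    intro hS
    apply hS₀
    obtain ⟨g, hg⟩ := MulAction.exists_smul_eq G S S₀
    haveI := hS
    rw [← hg, Sylow.smul_eq_of_normal]
    exact hS
  have htfaeV : Group.IsNilpotent (G ⧸ V) ↔
      ∀ (s : ℕ) (_hs : Fact s.Prime) (S : Sylow s (G ⧸ V)), (S : Subgroup (G ⧸ V)).Normal :=
    (Group.isNilpotent_of_finite_tfae (G := G ⧸ V)).out 0 3
  have hSbar : ((S : Subgroup G).map (QuotientGroup.mk' V)).Normal := by
    have := htfaeV.mp hGV s hs (S.mapSurjective (QuotientGroup.mk'_surjective V))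
    rwa [Sylow.coe_mapSurjective] at this
  obtain ⟨T, hT⟩ : ∃ T : Subgroup G, T = V ⊔ S := ⟨_, rfl⟩
  have hTn : T.Normal := by
    have : T = ((S : Subgroup G).map (QuotientGroup.mk' V)).comap (QuotientGroup.mk' V) := by
      rw [QuotientGroup.comap_map_mk', hT]
    rw [this]
    exact hSbar.comap _
  have hTφ : ∀ x ∈ T, φ x ∈ T := by
    intro x hx
    have : φ.toMonoidHom x ∈ T.map φ.toMonoidHom := Subgroup.mem_map_of_mem _ hx
    rwa [hT, Subgroup.map_sup, hVmap, map_eq φ S hSφ, ← hT] at this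
  have hsr : s ≠ r := by
    intro hsr
    subst hsr
    have hVS : V ≤ S := hVr.le_sylow_of_normal S
    apply hSnn
    have : T = S := by rw [hT]; exact sup_eq_right.mpr hVS
    rw [← this]
    exact hTn
  have hTtop : T = ⊤ := by
    by_contra hT'
    haveI hTnil : Group.IsNilpotent T := hsub T hT' hTφ
    have hST : (S : Subgroup G) ≤ T := by rw [hT]; exact le_sup_right
    have htfaeT : Group.IsNilpotent T ↔
        ∀ (s : ℕ) (_hs : Fact s.Prime) (S' : Sylow s T), (S' : Subgroup T).Normal :=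
      (Group.isNilpotent_of_finite_tfae (G := T)).out 0 3
    have h1 : ((S.subtype hST : Sylow s T) : Subgroup T).Normal := htfaeT.mp hTnil s hs _
    haveI h2 : ((S.subtype hST : Sylow s T) : Subgroup T).Characteristic :=
      Sylow.characteristic_of_normal _ h1
    haveI := hTn
    have h3 : (((S.subtype hST : Sylow s T) : Subgroup T).map T.subtype).Normal :=
      ConjAct.normal_of_characteristic_of_normal
    apply hSnn
    have h4 : ((S.subtype hST : Sylow s T) : Subgroup T).map T.subtype = S := by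
      rw [Sylow.coe_subtype]
      exact Subgroup.map_subgroupOf_eq_of_le hST
    rwa [h4] at h3
  have hGsup : ∀ g : G, ∃ v ∈ V, ∃ t ∈ S, g = v * t := by
    intro g
    have hg : g ∈ V ⊔ (S : Subgroup G) := by rw [← hT, hTtop]; exact Subgroup.mem_top g
    obtain ⟨v, hv, t, ht, rfl⟩ := Subgroup.mem_sup_of_normal_left.mp hg
    exact ⟨v, hv, t, ht, rfl⟩
  obtain ⟨C, hC⟩ : ∃ C : Subgroup G, C = Subgroup.centralizer (V : Set G) := ⟨_, rfl⟩
  have hCn : C.Normal := by rw [hC]; infer_instance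
  obtain ⟨D, hD⟩ : ∃ D : Subgroup G, D = (S : Subgroup G) ⊓ C := ⟨_, rfl⟩
  have hDmem : ∀ d, d ∈ D ↔ d ∈ S ∧ d ∈ C := by
    intro d
    rw [hD]
    exact Subgroup.mem_inf
  have hDn : D.Normal := by
    constructor
    intro d hd g
    obtain ⟨v, hv, t, ht, rfl⟩ := hGsup g
    have hd' := (hDmem d).mp hd
    have hd1 : t * d * t⁻¹ ∈ D := (hDmem _).mpr
      ⟨(S : Subgroup G).mul_mem ((S : Subgroup G).mul_mem ht hd'.1)
        ((S : Subgroup G).inv_mem ht), hCn.conj_mem d hd'.2 t⟩
    have hd2 : v * (t * d * t⁻¹) * v⁻¹ = t * d * t⁻¹ := by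
      have h0 := ((hDmem _).mp hd1).2
      rw [hC] at h0
      have := Subgroup.mem_centralizer_iff.mp h0 v hv
      rw [this, mul_inv_cancel_right]
    have : v * t * d * (v * t)⁻¹ = v * (t * d * t⁻¹) * v⁻¹ := by group
    rw [this, hd2]
    exact hd1
  have hDφ : ∀ x ∈ D, φ x ∈ D := fun x hx =>
    (hDmem _).mpr ⟨hSφ x ((hDmem x).mp hx).1, by
      have h0 := ((hDmem x).mp hx).2
      rw [hC] at h0 ⊢
      exact cent_inv φ V hVφ x h0⟩
  have hDS : D ≤ S := fun d hd => ((hDmem d).mp hd).1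
  have hDbot : D = ⊥ := by
    by_contra hDne
    haveI := hDn
    haveI : Group.IsNilpotent (G ⧸ D) := hquot D hDn hDne hDφ
    apply hnil
    have hdisj : V ⊓ D = ⊥ :=
      disjoint_iff.mp (IsPGroup.disjoint_of_ne r s (Ne.symm hsr) V D hVr (S.isPGroup'.to_le hDS))
    let f : G →* (G ⧸ V) × (G ⧸ D) := (QuotientGroup.mk' V).prod (QuotientGroup.mk' D)
    have hf : Function.Injective f := by
      rw [← MonoidHom.ker_eq_bot_iff, eq_bot_iff]
      intro x hx
      rw [MonoidHom.mem_ker] at hx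
      have h1 : x ∈ V := (QuotientGroup.eq_one_iff x).mp (congrArg Prod.fst hx)
      have h2 : x ∈ D := (QuotientGroup.eq_one_iff x).mp (congrArg Prod.snd hx)
      rw [← hdisj]
      exact ⟨h1, h2⟩
    exact Group.nilpotent_of_mulEquiv (MonoidHom.ofInjective hf).symm
  have hV0 : ∀ v ∈ V, (∀ t ∈ S, t * v * t⁻¹ = v) → v = 1 := by
    obtain ⟨V₀, hV₀⟩ : ∃ V₀ : Subgroup G,
        V₀ = V ⊓ Subgroup.centralizer ((S : Subgroup G) : Set G) := ⟨_, rfl⟩
    have hV0mem : ∀ x, x ∈ V₀ ↔ x ∈ V ∧ x ∈ Subgroup.centralizer ((S : Subgroup G) : Set G) := by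
      intro x
      rw [hV₀]
      exact Subgroup.mem_inf
    have hcentral : ∀ x ∈ V₀, ∀ g : G, g * x * g⁻¹ = x := by
      intro x hx g
      obtain ⟨v, hv, t, ht, rfl⟩ := hGsup g
      have hx' := (hV0mem x).mp hx
      have h1 : t * x * t⁻¹ = x := by
        have := Subgroup.mem_centralizer_iff.mp hx'.2 t ht
        rw [this, mul_inv_cancel_right]
      have h2 : v * x * v⁻¹ = x := by
        rw [hVab v hv x hx'.1, mul_inv_cancel_right]
      calc v * t * x * (v * t)⁻¹ = v * (t * x * t⁻¹) * v⁻¹ := by group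
        _ = x := by rw [h1, h2]
    have hV0n : V₀.Normal := ⟨fun x hx g => by rw [hcentral x hx g]; exact hx⟩
    have hV0φ : ∀ x ∈ V₀, φ x ∈ V₀ := fun x hx =>
      (hV0mem _).mpr ⟨hVφ x ((hV0mem x).mp hx).1, cent_inv φ S hSφ x ((hV0mem x).mp hx).2⟩
    rcases hVmin V₀ hV0n hV0φ (fun x hx => ((hV0mem x).mp hx).1) with h | h
    · intro v hv hfix
      have hv0 : v ∈ V₀ := (hV0mem v).mpr ⟨hv, by
        rw [Subgroup.mem_centralizer_iff]
        intro t ht
        have h1 := hfix t ht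
        calc t * v = t * v * t⁻¹ * t := by group
          _ = v * t := by rw [h1]⟩
      rw [h, Subgroup.mem_bot] at hv0
      exact hv0
    · exfalso
      have hSD : (S : Subgroup G) ≤ D := by
        intro t ht
        refine (hDmem t).mpr ⟨ht, ?_⟩
        rw [hC, Subgroup.mem_centralizer_iff]
        intro v hv
        have hv0 : v ∈ V₀ := h ▸ hv
        exact (Subgroup.mem_centralizer_iff.mp ((hV0mem v).mp hv0).2 t ht).symm
      rw [hDbot] at hSD
      apply hSnn
      rw [le_bot_iff.mp hSD]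
      infer_instance
  -- the semidirect product with the automorphism group
  let inl : G →* SemidirectProduct G (MulAut G) (MonoidHom.id (MulAut G)) :=
    SemidirectProduct.inl
  have hconj : ∀ (ψ : MulAut G) (g : G),
      (SemidirectProduct.inr ψ : SemidirectProduct G (MulAut G) (MonoidHom.id (MulAut G))) *
        inl g * (SemidirectProduct.inr ψ)⁻¹ = inl (ψ g) := by
    intro ψ g
    rw [← map_inv]
    exact (SemidirectProduct.inl_aut ψ g).symm
  have hinl : Function.Injective inl := SemidirectProduct.inl_injective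
  have hnorm : ∀ (H : Subgroup G), (∀ x ∈ H, φ x ∈ H) →
      (SemidirectProduct.inr φ : SemidirectProduct G (MulAut G) (MonoidHom.id (MulAut G))) ∈
        Subgroup.normalizer ((H.map inl : Subgroup _) : Set _) := by
    intro H hH
    rw [Subgroup.mem_normalizer_iff]
    intro x
    constructor
    · rintro ⟨a, ha, rfl⟩
      rw [hconj]
      exact Subgroup.mem_map_of_mem _ (hH a ha)
    · intro hx
      obtain ⟨b, hb, hbx⟩ := hx
      have hx' : x = inl (φ.symm b) := by
        have h1 := hconj φ (φ.symm b)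
        rw [MulEquiv.apply_symm_apply] at h1
        have h2 := h1.trans hbx
        exact (mul_left_cancel (mul_right_cancel h2)).symm
      rw [hx']
      exact Subgroup.mem_map_of_mem _ ((inv_iff φ H hH _).mp (by simpa using hb))
  haveI : Finite (SemidirectProduct G (MulAut G) (MonoidHom.id (MulAut G))) :=
    Finite.of_equiv _ SemidirectProduct.equivProd.symm
  obtain ⟨v', hv'V, hv'1, hv'fix⟩ := Helper11.frob_fixed_point (V.map inl)
    ((S : Subgroup G).map inl) (SemidirectProduct.inr φ) p hp.pos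
    (by rw [← map_pow, hφp, map_one])
    (by
      refine le_trans (Subgroup.map_mono
        (?_ : (S : Subgroup G) ≤ Subgroup.normalizer (V : Set G))) (Subgroup.le_normalizer_map inl)
      rw [Subgroup.normalizer_eq_top]
      exact le_top)
    (hnorm V hVφ) (hnorm S hSφ)
    (by
      rintro n ⟨t, ht, rfl⟩ i hi0 hip hcomm
      rw [← map_pow] at hcomm
      have h1 : inl ((φ ^ i) t) = inl t := by
        rw [← hconj]
        show SemidirectProduct.inr (φ ^ i) * inl t * (SemidirectProduct.inr (φ ^ i))⁻¹ = inl t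
        rw [← hcomm, mul_inv_cancel_right]
      have h2 : (φ ^ i) t = t := hinl h1
      have hcop : Nat.Coprime i p :=
        Nat.Coprime.symm ((Nat.Prime.coprime_iff_not_dvd hp).mpr
          (Nat.not_dvd_of_pos_of_lt hi0 hip))
      obtain ⟨j, -, hj⟩ := Nat.exists_mul_mod_eq_one_of_coprime hcop hp.one_lt
      have h3 : ∀ j : ℕ, ((φ ^ i) ^ j) t = t := by
        intro j
        induction j with
        | zero => simp
        | succ j ihj => rw [pow_succ, MulAut.mul_apply, h2, ihj]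
      have h4 : (φ ^ i) ^ j = φ := by
        rw [← pow_mul, pow_eq_pow_mod (i * j) hφp, hj, pow_one]
      have h5 : φ t = t := by
        have := h3 j
        rwa [h4] at this
      rw [hφ t h5, map_one])
    (by
      rintro v' ⟨v, hv, rfl⟩ hfix
      have hv1 : v = 1 := hV0 v hv (fun t ht => by
        have := hfix (inl t) (Subgroup.mem_map_of_mem _ ht)
        rw [← map_inv, ← map_mul, ← map_mul] at this
        exact hinl this)
      rw [hv1, map_one])
    (by
      rw [Subgroup.card_map_of_injective hinl, Subgroup.card_map_of_injective hinl]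
      exact IsPGroup.coprime_card_of_ne s r hsr _ _ S.isPGroup' hVr)
    (by
      intro h
      exact hVne ((Subgroup.map_eq_bot_iff_of_injective V hinl).mp h))
  obtain ⟨v, hv, rfl⟩ := hv'V
  have h1 : inl (φ v) = inl v := by rw [← hconj]; exact hv'fix
  have h2 := hφ v (hinl h1)
  exact hv'1 (by rw [h2, map_one])

end Cfsg.Agent.Lead.Fpf
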