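import Mathlib
import Cfsg.Agent.S0653
import Cfsg.Agent.S0072
import Cfsg.Agent.Lead.Coprime
import Cfsg.Agent.Lead.SylowSub

set_option autoImplicit false
set_option linter.style.haveILetI false

namespace Cfsg.Agent.Lead.Th

open Cfsg
open Cfsg.Agent.S0653 (calA JA)
open scoped Pointwise

universe u

variable {G : Type u} [Group G]

/-- the Thompson subgroup of the statement, in terms of `S0653.JA` -/
theorem thompsonSubgroupOf_eq (p : ℕ) (P : Subgroup G) :
    Cfsg.thompsonSubgroupOf p P = JA p P := by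
  unfold Cfsg.thompsonSubgroupOf Cfsg.thompsonSubgroup S0653.JA
  apply le_antisymm
  · rw [Subgroup.map_le_iff_le_comap]
    apply sSup_le
    intro A' hA'
    rw [← Subgroup.map_le_iff_le_comap]
    apply le_sSup
    obtain ⟨⟨hc, hexp⟩, hmax⟩ := hA'
    haveI := hc
    refine ⟨Subgroup.map_subtype_le A', inferInstance, ?_, ?_⟩
    · rintro _ ⟨a, ha, rfl⟩
      have h2 := congrArg Subtype.val (hexp a ha)
      rw [Subgroup.coe_pow] at h2
      exact h2
    · intro A'' h1 h2 h3
      haveI := h2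
      have := hmax (A''.subgroupOf P) ⟨inferInstance, fun a ha => Subtype.ext (by
        rw [Subgroup.coe_pow]
        exact h3 _ (Subgroup.mem_subgroupOf.mp ha))⟩
      rw [Cfsg.Agent.S0650.card_subgroupOf h1] at this
      rw [Subgroup.card_map_of_injective P.subtype_injective]
      exact this
  · apply sSup_le
    intro A hA
    obtain ⟨hAP, hc, hexp, hmax⟩ := hA
    haveI := hc
    have h1 : A.subgroupOf P ∈ Cfsg.maxElementaryAbelianSubgroups p ↥P := by
      refine ⟨⟨inferInstance, fun a ha => Subtype.ext (by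
        rw [Subgroup.coe_pow]
        exact hexp _ (Subgroup.mem_subgroupOf.mp ha))⟩, ?_⟩
      intro B' hB'
      haveI := hB'.1
      have := hmax (B'.map P.subtype) (Subgroup.map_subtype_le B') inferInstance (by
        rintro _ ⟨b, hb, rfl⟩
        have h2 := congrArg Subtype.val (hB'.2 b hb)
        rw [Subgroup.coe_pow] at h2
        exact h2)
      rw [Subgroup.card_map_of_injective P.subtype_injective] at this
      rw [Cfsg.Agent.S0650.card_subgroupOf hAP]
      exact this
    have h2 := Subgroup.map_mono (f := P.subtype) (le_sSup h1)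
    rw [Subgroup.map_subgroupOf_eq_of_le hAP] at h2
    exact h2

theorem card_map_injOn {G' : Type*} [Group G'] (f : G →* G') (A : Subgroup G)
    (hf : ∀ x ∈ A, f x = 1 → x = 1) : Nat.card (A.map f) = Nat.card A := by
  have hinj : Function.Injective (f.subgroupMap A) := by
    rw [injective_iff_map_eq_one]
    intro a ha
    apply Subtype.ext
    exact hf a a.2 (congrArg Subtype.val ha)
  exact (Nat.card_congr (Equiv.ofBijective _ ⟨hinj, f.subgroupMap_surjective A⟩)).symm

theorem injOn_of_ker {G' : Type*} [Group G'] (f : G →* G') (P : Subgroup G)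
    (hf : ∀ x ∈ P, f x = 1 → x = 1) {x y : G} (hx : x ∈ P) (hy : y ∈ P) (h : f x = f y) :
    x = y := by
  have h1 : f (x * y⁻¹) = 1 := by rw [map_mul, map_inv, h, mul_inv_cancel]
  exact mul_inv_eq_one.mp (hf _ (P.mul_mem hx (P.inv_mem hy)) h1)

theorem preimage_data {G' : Type*} [Group G'] (n : ℕ) (f : G →* G') (P : Subgroup G)
    (hf : ∀ x ∈ P, f x = 1 → x = 1) (A' : Subgroup G') (hA'P : A' ≤ P.map f)
    (hA'c : IsMulCommutative A') (hA'n : ∀ a ∈ A', a ^ n = 1) :
    ∃ B : Subgroup G, B ≤ P ∧ B.map f = A' ∧ IsMulCommutative B ∧ ∀ b ∈ B, b ^ n = 1 := by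
  obtain ⟨B, hB⟩ : ∃ B : Subgroup G, B = P ⊓ A'.comap f := ⟨_, rfl⟩
  have hBP : B ≤ P := hB ▸ inf_le_left
  have hBf : ∀ b ∈ B, f b ∈ A' := by
    intro b hb
    rw [hB] at hb
    exact (Subgroup.mem_inf.mp hb).2
  refine ⟨B, hBP, ?_, ?_, ?_⟩
  · apply le_antisymm
    · rintro _ ⟨b, hb, rfl⟩
      exact hBf b hb
    · intro a' ha'
      obtain ⟨x, hx, rfl⟩ := hA'P ha'
      exact ⟨x, hB ▸ Subgroup.mem_inf.mpr ⟨hx, ha'⟩, rfl⟩
  · refine .of_setLike_mul_comm ?_
    intro x hx y hy
    apply injOn_of_ker f P hf (P.mul_mem (hBP hx) (hBP hy)) (P.mul_mem (hBP hy) (hBP hx))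
    rw [map_mul, map_mul]
    exact setLike_mul_comm (hBf x hx) (hBf y hy)
  · intro b hb
    apply injOn_of_ker f P hf (P.pow_mem (hBP hb) n) P.one_mem
    rw [map_pow, map_one]
    exact hA'n _ (hBf b hb)

theorem calA_map_injOn {G' : Type*} [Group G'] (n : ℕ) (f : G →* G') (P : Subgroup G)
    (hf : ∀ x ∈ P, f x = 1 → x = 1) {A : Subgroup G} (hA : A ∈ calA n P) :
    A.map f ∈ calA n (P.map f) := by
  obtain ⟨hAP, hAc, hAn, hAmax⟩ := hA
  haveI := hAc
  refine ⟨Subgroup.map_mono hAP, inferInstance, ?_, ?_⟩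
  · rintro _ ⟨a, ha, rfl⟩
    rw [← map_pow, hAn a ha, map_one]
  · intro A' hA'P hA'c hA'n
    obtain ⟨B, hBP, hBmap, hBc, hBn⟩ := preimage_data n f P hf A' hA'P hA'c hA'n
    have h3 := hAmax B hBP hBc hBn
    rw [card_map_injOn f A (fun x hx => hf x (hAP hx)), ← hBmap,
      card_map_injOn f B (fun x hx => hf x (hBP hx))]
    exact h3

theorem calA_comap_injOn {G' : Type*} [Group G'] (n : ℕ) (f : G →* G') (P : Subgroup G)
    (hf : ∀ x ∈ P, f x = 1 → x = 1) {A' : Subgroup G'} (hA' : A' ∈ calA n (P.map f)) :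
    ∃ A ∈ calA n P, A.map f = A' := by
  obtain ⟨hA'P, hA'c, hA'n, hA'max⟩ := hA'
  obtain ⟨B, hBP, hBmap, hBc, hBn⟩ := preimage_data n f P hf A' hA'P hA'c hA'n
  refine ⟨B, ⟨hBP, hBc, hBn, ?_⟩, hBmap⟩
  intro C hCP hCc hCn
  haveI := hCc
  have h1 := hA'max (C.map f) (Subgroup.map_mono hCP) inferInstance (by
    rintro _ ⟨c, hc, rfl⟩
    rw [← map_pow, hCn c hc, map_one])
  rw [card_map_injOn f C (fun x hx => hf x (hCP hx)), ← hBmap,
    card_map_injOn f B (fun x hx => hf x (hBP hx))] at h1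
  exact h1

theorem JA_map_injOn {G' : Type*} [Group G'] (n : ℕ) (f : G →* G') (P : Subgroup G)
    (hf : ∀ x ∈ P, f x = 1 → x = 1) : (JA n P).map f = JA n (P.map f) := by
  apply le_antisymm
  · rw [Subgroup.map_le_iff_le_comap]
    apply sSup_le
    intro A hA
    rw [← Subgroup.map_le_iff_le_comap]
    exact le_sSup (calA_map_injOn n f P hf hA)
  · apply sSup_le
    intro A' hA'
    obtain ⟨A, hA, rfl⟩ := calA_comap_injOn n f P hf hA'
    exact Subgroup.map_mono (le_sSup hA)

theorem Z_map_injOn {G' : Type*} [Group G'] (f : G →* G') (P : Subgroup G)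
    (hf : ∀ x ∈ P, f x = 1 → x = 1) :
    (P ⊓ Subgroup.centralizer (P : Set G)).map f =
      P.map f ⊓ Subgroup.centralizer ((P.map f : Subgroup G') : Set G') := by
  ext y
  constructor
  · rintro ⟨z, hz, rfl⟩
    obtain ⟨hzP, hzc⟩ := Subgroup.mem_inf.mp hz
    refine Subgroup.mem_inf.mpr ⟨Subgroup.mem_map_of_mem f hzP, ?_⟩
    rw [Subgroup.mem_centralizer_iff]
    rintro _ ⟨x, hx, rfl⟩
    rw [← map_mul, ← map_mul, Subgroup.mem_centralizer_iff.mp hzc x hx]
  · intro hy
    obtain ⟨hy1, hy2⟩ := Subgroup.mem_inf.mp hy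
    obtain ⟨z, hz, rfl⟩ := hy1
    refine ⟨z, Subgroup.mem_inf.mpr ⟨hz, ?_⟩, rfl⟩
    rw [Subgroup.mem_centralizer_iff]
    intro x hx
    apply injOn_of_ker f P hf (P.mul_mem hx hz) (P.mul_mem hz hx)
    rw [map_mul, map_mul]
    exact Subgroup.mem_centralizer_iff.mp hy2 (f x) (Subgroup.mem_map_of_mem f hx)

theorem normalizer_le_normalizer_JA [Finite G] (n : ℕ) (P : Subgroup G) :
    Subgroup.normalizer (P : Set G) ≤ Subgroup.normalizer (JA n P : Set G) := by
  intro g hg
  apply Cfsg.Agent.S0650.mem_normalizer_of_conj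
  intro x hx
  have h1 : (MulAut.conj g).toMonoidHom x ∈ (JA n P).map (MulAut.conj g).toMonoidHom :=
    Subgroup.mem_map_of_mem _ hx
  rw [S0653.JA_map, S0653.map_conj_eq_of_mem_normalizer P hg] at h1
  exact h1

theorem normalizer_le_normalizer_Z [Finite G] (P : Subgroup G) :
    Subgroup.normalizer (P : Set G) ≤
      Subgroup.normalizer ((P ⊓ Subgroup.centralizer (P : Set G) : Subgroup G) : Set G) := by
  intro g hg
  apply Cfsg.Agent.S0650.mem_normalizer_of_conj
  intro x hx
  obtain ⟨hx1, hx2⟩ := Subgroup.mem_inf.mp hx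
  refine Subgroup.mem_inf.mpr ⟨(Subgroup.mem_normalizer_iff.mp hg x).mp hx1, ?_⟩
  rw [Subgroup.mem_centralizer_iff]
  intro y hy
  have hy' : g⁻¹ * y * g ∈ P := by
    refine (Subgroup.mem_normalizer_iff.mp hg (g⁻¹ * y * g)).mpr ?_
    have : g * (g⁻¹ * y * g) * g⁻¹ = y := by group
    rw [this]
    exact hy
  have h1 := Subgroup.mem_centralizer_iff.mp hx2 _ hy'
  calc y * (g * x * g⁻¹) = g * ((g⁻¹ * y * g) * x) * g⁻¹ := by group
    _ = g * (x * (g⁻¹ * y * g)) * g⁻¹ := by rw [h1]
    _ = g * x * g⁻¹ * y := by group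

theorem JA_le (n : ℕ) (P : Subgroup G) : JA n P ≤ P := S0653.JA_le n P

theorem JA_ne_bot [Finite G] {p : ℕ} [Fact p.Prime] (P : Subgroup G) (hP : IsPGroup p P)
    (hne : P ≠ ⊥) : JA p P ≠ ⊥ := by
  haveI : Nontrivial P := (Subgroup.nontrivial_iff_ne_bot P).mpr hne
  obtain ⟨k, hk0, hk⟩ := hP.nontrivial_iff_card.mp inferInstance
  have hdvd : p ∣ Nat.card P := by rw [hk]; exact dvd_pow_self p hk0.ne'
  obtain ⟨x, hx⟩ := exists_prime_orderOf_dvd_card' (G := P) p hdvd
  have hx1 : (x : G) ≠ 1 := by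
    intro h
    have : x = 1 := Subtype.ext h
    rw [this, orderOf_one] at hx
    exact (Fact.out : p.Prime).one_lt.ne hx
  have hxp : (x : G) ^ p = 1 := by
    have h0 : x ^ p = 1 := by rw [← hx]; exact pow_orderOf_eq_one x
    have h := congrArg Subtype.val h0
    rw [Subgroup.coe_pow] at h
    exact h
  obtain ⟨A, hA⟩ := S0653.calA_nonempty p P
  have hB := hA.2.2.2 (Subgroup.zpowers (x : G)) (by
      rw [Subgroup.zpowers_le]; exact x.2) inferInstance (by
      intro a ha
      obtain ⟨j, rfl⟩ := Subgroup.mem_zpowers_iff.mp ha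
      rw [← zpow_natCast, ← zpow_mul, mul_comm, zpow_mul, zpow_natCast, hxp, one_zpow])
  intro hbot
  have hAbot : A = ⊥ := le_bot_iff.mp (hbot ▸ le_sSup hA)
  rw [hAbot, Subgroup.card_bot] at hB
  have h1 : Subgroup.zpowers (x : G) = ⊥ :=
    Subgroup.card_eq_one.mp (le_antisymm hB Nat.card_pos)
  rw [Subgroup.zpowers_eq_bot] at h1
  exact hx1 h1

theorem Z_ne_bot [Finite G] {p : ℕ} [Fact p.Prime] (P : Subgroup G) (hP : IsPGroup p P)
    (hne : P ≠ ⊥) : P ⊓ Subgroup.centralizer (P : Set G) ≠ ⊥ := by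
  haveI : Nontrivial P := (Subgroup.nontrivial_iff_ne_bot _).mpr hne
  haveI := hP.center_nontrivial
  obtain ⟨z, hz⟩ := exists_ne (1 : Subgroup.center P)
  have hz1 : ((z : P) : G) ≠ 1 := by
    intro h
    apply hz
    apply Subtype.ext
    apply Subtype.ext
    exact h
  intro hbot
  have hmem : ((z : P) : G) ∈ P ⊓ Subgroup.centralizer (P : Set G) := by
    refine Subgroup.mem_inf.mpr ⟨(z : P).2, ?_⟩
    rw [Subgroup.mem_centralizer_iff]
    intro a ha
    have := Subgroup.mem_center_iff.mp z.2 ⟨a, ha⟩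
    exact congrArg Subtype.val this
  rw [hbot, Subgroup.mem_bot] at hmem
  exact hz1 hmem

/-! ### normal `p`-complements -/

theorem npc_of_surjective {H K : Type*} [Group H] [Group K] [Finite H] [Finite K] (p : ℕ)
    [Fact p.Prime] (f : H →* K) (hf : Function.Surjective f)
    (h : HasNormalPComplement p H) : HasNormalPComplement p K := by
  rw [S0072.npc_iff] at h ⊢
  obtain ⟨N, hN, hcop, k, hk⟩ := h
  refine ⟨N.map f, hN.map f hf, ?_, ?_⟩
  · exact Nat.Coprime.coprime_dvd_left
      (Subgroup.card_dvd_of_surjective (f.subgroupMap N) (f.subgroupMap_surjective N)) hcop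
  · have hdvd : (N.map f).index ∣ N.index := Subgroup.index_map_dvd N hf
    rw [hk] at hdvd
    obtain ⟨j, -, hj⟩ := (Nat.dvd_prime_pow (Fact.out : p.Prime)).mp hdvd
    exact ⟨j, hj⟩

theorem npc_mono [Finite G] {p : ℕ} [Fact p.Prime] {A B : Subgroup G} (h : A ≤ B)
    (hB : HasNormalPComplement p ↥B) : HasNormalPComplement p ↥A :=
  S0072.npc_of_injective p (Subgroup.inclusion h) (Subgroup.inclusion_injective h) hB

theorem npc_of_conj_le [Finite G] {p : ℕ} [Fact p.Prime] {A B : Subgroup G} (g : G)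
    (h : ∀ x ∈ A, g * x * g⁻¹ ∈ B) (hB : HasNormalPComplement p ↥B) :
    HasNormalPComplement p ↥A := by
  let f : A →* B := ((MulAut.conj g).toMonoidHom.comp A.subtype).codRestrict B
    (fun a => h a a.2)
  refine S0072.npc_of_injective p f ?_ hB
  intro a b hab
  have h1 : (MulAut.conj g) (a : G) = (MulAut.conj g) (b : G) := congrArg Subtype.val hab
  exact Subtype.ext ((MulAut.conj g).injective h1)

theorem npc_of_top [Finite G] {p : ℕ} [Fact p.Prime]
    (h : HasNormalPComplement p ↥(⊤ : Subgroup G)) : HasNormalPComplement p G :=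
  npc_of_surjective p (⊤ : Subgroup G).subtype (fun g => ⟨⟨g, trivial⟩, rfl⟩) h

theorem npc_of_eq_top [Finite G] {p : ℕ} [Fact p.Prime] {N : Subgroup G} (hN : N = ⊤)
    (h : HasNormalPComplement p ↥N) : HasNormalPComplement p G := by
  subst hN
  exact npc_of_top h

theorem npc_of_pgroup [Finite G] {p : ℕ} [Fact p.Prime] (h : IsPGroup p G) :
    HasNormalPComplement p G := by
  rw [S0072.npc_iff]
  obtain ⟨k, hk⟩ := IsPGroup.iff_card.mp h
  exact ⟨⊥, inferInstance, by simp, k, by rw [Subgroup.index_bot, hk]⟩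

theorem npc_of_quot [Finite G] {p : ℕ} [Fact p.Prime] (L : Subgroup G) [L.Normal]
    (hL : (Nat.card L).Coprime p) (h : HasNormalPComplement p (G ⧸ L)) :
    HasNormalPComplement p G := by
  rw [S0072.npc_iff] at h ⊢
  obtain ⟨N, hN, hcop, k, hk⟩ := h
  refine ⟨N.comap (QuotientGroup.mk' L), hN.comap _, ?_, k, ?_⟩
  · have h1 := S0001.card_map_mk_mul_card (M := L) (A := N.comap (QuotientGroup.mk' L)) (by
      intro x hx
      rw [Subgroup.mem_comap]
      have : QuotientGroup.mk' L x = 1 := (QuotientGroup.eq_one_iff x).mpr hx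
      rw [this]
      exact N.one_mem)
    rw [Subgroup.map_comap_eq_self_of_surjective (QuotientGroup.mk'_surjective L)] at h1
    rw [← h1]
    exact Nat.Coprime.mul_left hcop hL
  · rw [Subgroup.index_comap_of_surjective _ (QuotientGroup.mk'_surjective L), hk]

/-! ### quotients by normal `p'`-subgroups -/

theorem exists_mul_mem_normalizer_of_sup [Finite G] {p : ℕ} [Fact p.Prime] (L Y : Subgroup G)
    [L.Normal] (hL : (Nat.card L).Coprime p) (hY : IsPGroup p Y) (x : G)
    (hx : x ∈ Subgroup.normalizer ((Y ⊔ L : Subgroup G) : Set G)) :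
    ∃ l ∈ L, l * x ∈ Subgroup.normalizer (Y : Set G) := by
  have hYL : Y ≤ Subgroup.normalizer (L : Set G) := by
    rw [Subgroup.normalizer_eq_top]
    exact le_top
  have hcop : (Nat.card Y).Coprime (Nat.card L) := by
    obtain ⟨k, hk⟩ := IsPGroup.iff_card.mp hY
    rw [hk]
    exact Nat.Coprime.pow_left k (Nat.Coprime.symm hL)
  haveI : Group.IsNilpotent Y := hY.isNilpotent
  have hB : MulAut.conj x • Y ≤ Y ⊔ L := Lead.conj_smul_le_of_mem_normalizer hx le_sup_left
  obtain ⟨n, hn, hconj⟩ := Lead.conj_in_sup L Y (MulAut.conj x • Y) hYL hcop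
    (Or.inl inferInstance) hB (S0001.card_conj_smul x Y)
  refine ⟨n, hn, ?_⟩
  rw [Lead.mem_normalizer_iff_conj_smul, S0001.conj_mul_smul]
  exact hconj

theorem normalizer_map_mk [Finite G] {p : ℕ} [Fact p.Prime] (L Y : Subgroup G) [L.Normal]
    (hL : (Nat.card L).Coprime p) (hY : IsPGroup p Y) :
    Subgroup.normalizer ((Y.map (QuotientGroup.mk' L) : Subgroup (G ⧸ L)) : Set (G ⧸ L)) ≤
      (Subgroup.normalizer (Y : Set G)).map (QuotientGroup.mk' L) := by
  intro xb hxb
  obtain ⟨x, rfl⟩ := QuotientGroup.mk'_surjective L xb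
  have hx : x ∈ Subgroup.normalizer ((Y ⊔ L : Subgroup G) : Set G) := by
    have h1 : x ∈ (Subgroup.normalizer
        ((Y.map (QuotientGroup.mk' L) : Subgroup (G ⧸ L)) : Set (G ⧸ L))).comap
        (QuotientGroup.mk' L) := hxb
    rw [Subgroup.comap_normalizer_eq_of_surjective _ (QuotientGroup.mk'_surjective L),
      QuotientGroup.comap_map_mk', sup_comm] at h1
    exact h1
  obtain ⟨l, hl, hlx⟩ := exists_mul_mem_normalizer_of_sup L Y hL hY x hx
  refine ⟨l * x, hlx, ?_⟩
  rw [map_mul]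
  have : QuotientGroup.mk' L l = 1 := (QuotientGroup.eq_one_iff l).mpr hl
  rw [this, one_mul]

theorem centralizer_map_mk [Finite G] {p : ℕ} [Fact p.Prime] (L Z : Subgroup G) [L.Normal]
    (hL : (Nat.card L).Coprime p) (hZ : IsPGroup p Z) :
    Subgroup.centralizer ((Z.map (QuotientGroup.mk' L) : Subgroup (G ⧸ L)) : Set (G ⧸ L)) ≤
      (Subgroup.centralizer (Z : Set G)).map (QuotientGroup.mk' L) := by
  intro xb hxb
  have hxn : xb ∈ Subgroup.normalizer
      ((Z.map (QuotientGroup.mk' L) : Subgroup (G ⧸ L)) : Set (G ⧸ L)) :=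
    Subgroup.centralizer_le_normalizer _ hxb
  obtain ⟨y, hy, rfl⟩ := normalizer_map_mk L Z hL hZ hxn
  have hy : y ∈ Subgroup.normalizer (Z : Set G) := hy
  refine ⟨y, Subgroup.mem_centralizer_iff.mpr ?_, rfl⟩
  intro z hz
  have hc1 : y * z * y⁻¹ * z⁻¹ ∈ Z :=
    Z.mul_mem ((Subgroup.mem_normalizer_iff.mp hy z).mp hz) (Z.inv_mem hz)
  have hc2 : y * z * y⁻¹ * z⁻¹ ∈ L := by
    rw [← QuotientGroup.eq_one_iff]
    have h1 := Subgroup.mem_centralizer_iff.mp hxb (QuotientGroup.mk' L z)
      (Subgroup.mem_map_of_mem _ hz)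
    show (QuotientGroup.mk' L) (y * z * y⁻¹ * z⁻¹) = 1
    rw [map_mul, map_mul, map_mul, map_inv, map_inv, ← h1]
    group
  have hcop : (Nat.card Z).Coprime (Nat.card L) := by
    obtain ⟨k, hk⟩ := IsPGroup.iff_card.mp hZ
    rw [hk]
    exact Nat.Coprime.pow_left k (Nat.Coprime.symm hL)
  have hc : y * z * y⁻¹ * z⁻¹ = 1 := by
    have : y * z * y⁻¹ * z⁻¹ ∈ Z ⊓ L := Subgroup.mem_inf.mpr ⟨hc1, hc2⟩
    rwa [Lead.inf_eq_bot_of_coprime hcop, Subgroup.mem_bot] at this
  calc z * y = (y * z * y⁻¹ * z⁻¹)⁻¹ * (y * z) := by group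
    _ = y * z := by rw [hc, inv_one, one_mul]

/-! ### passing to subgroups and conjugates -/

theorem subApp [Finite G] {p : ℕ} [Fact p.Prime]
    (hmain : ∀ (H : Type u) [Group H] [Finite H], Nat.card H < Nat.card G → ∀ S : Sylow p H,
      HasNormalPComplement p ↥(Subgroup.normalizer (JA p (S : Subgroup H) : Set H)) →
      HasNormalPComplement p ↥(Subgroup.centralizer
        (((S : Subgroup H) ⊓ Subgroup.centralizer ((S : Subgroup H) : Set H) : Subgroup H) :
          Set H)) →
      HasNormalPComplement p H)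
    (H : Subgroup G) (hH : Nat.card H < Nat.card G) (S : Sylow p H)
    (h1 : HasNormalPComplement p
      ↥(Subgroup.normalizer (JA p ((S : Subgroup H).map H.subtype) : Set G)))
    (h2 : HasNormalPComplement p ↥(Subgroup.centralizer
      ((((S : Subgroup H).map H.subtype) ⊓
        Subgroup.centralizer (((S : Subgroup H).map H.subtype : Subgroup G) : Set G) :
          Subgroup G) : Set G))) :
    HasNormalPComplement p ↥H := by
  have hinj : ∀ x ∈ (S : Subgroup H), H.subtype x = 1 → x = 1 := fun x _ hx =>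
    Subtype.ext hx
  apply hmain H hH S
  · have hJ : (JA p (S : Subgroup H)).map H.subtype = JA p ((S : Subgroup H).map H.subtype) :=
      JA_map_injOn p H.subtype _ hinj
    let f : ↥(Subgroup.normalizer (JA p (S : Subgroup H) : Set H)) →*
        ↥(Subgroup.normalizer (JA p ((S : Subgroup H).map H.subtype) : Set G)) :=
      (H.subtype.comp (Subgroup.normalizer (JA p (S : Subgroup H) : Set H)).subtype).codRestrict _
        (fun x => by
          rw [← hJ]
          exact Subgroup.le_normalizer_map H.subtype (Subgroup.mem_map_of_mem _ x.2))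
    refine S0072.npc_of_injective p f ?_ h1
    intro a b hab
    have h3 := congrArg Subtype.val hab
    exact Subtype.ext (Subtype.ext h3)
  · have hZ := Z_map_injOn H.subtype (S : Subgroup H) hinj
    let f : ↥(Subgroup.centralizer (((S : Subgroup H) ⊓
          Subgroup.centralizer ((S : Subgroup H) : Set H) : Subgroup H) : Set H)) →*
        ↥(Subgroup.centralizer ((((S : Subgroup H).map H.subtype) ⊓
          Subgroup.centralizer (((S : Subgroup H).map H.subtype : Subgroup G) : Set G) :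
            Subgroup G) : Set G)) :=
      (H.subtype.comp (Subgroup.centralizer (((S : Subgroup H) ⊓
          Subgroup.centralizer ((S : Subgroup H) : Set H) : Subgroup H) : Set H)).subtype).codRestrict _
        (fun x => by
          rw [← hZ, Subgroup.mem_centralizer_iff]
          rintro _ ⟨z, hz, rfl⟩
          have := Subgroup.mem_centralizer_iff.mp x.2 z hz
          exact congrArg Subtype.val this)
    refine S0072.npc_of_injective p f ?_ h2
    intro a b hab
    have h3 := congrArg Subtype.val hab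
    exact Subtype.ext (Subtype.ext h3)

theorem conj_mem_normalizer_of_map [Finite G] (H : Subgroup G) (g x : G)
    (hx : x ∈ Subgroup.normalizer ((H.map (MulAut.conj g).toMonoidHom : Subgroup G) : Set G)) :
    g⁻¹ * x * g ∈ Subgroup.normalizer (H : Set G) := by
  apply Cfsg.Agent.S0650.mem_normalizer_of_conj
  intro h hh
  have h1 : g * h * g⁻¹ ∈ H.map (MulAut.conj g).toMonoidHom := ⟨h, hh, rfl⟩
  obtain ⟨h', hh', he⟩ := (Subgroup.mem_normalizer_iff.mp hx _).mp h1
  have he' : g * h' * g⁻¹ = x * (g * h * g⁻¹) * x⁻¹ := he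
  have : g⁻¹ * x * g * h * (g⁻¹ * x * g)⁻¹ = h' := by
    calc g⁻¹ * x * g * h * (g⁻¹ * x * g)⁻¹ = g⁻¹ * (x * (g * h * g⁻¹) * x⁻¹) * g := by group
      _ = g⁻¹ * (g * h' * g⁻¹) * g := by rw [he']
      _ = h' := by group
  rw [this]
  exact hh'

theorem conj_mem_centralizer_of_map (H : Subgroup G) (g x : G)
    (hx : x ∈ Subgroup.centralizer ((H.map (MulAut.conj g).toMonoidHom : Subgroup G) : Set G)) :
    g⁻¹ * x * g ∈ Subgroup.centralizer (H : Set G) := by
  rw [Subgroup.mem_centralizer_iff] at hx ⊢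
  intro h hh
  have h1 := hx (g * h * g⁻¹) ⟨h, hh, rfl⟩
  calc h * (g⁻¹ * x * g) = g⁻¹ * ((g * h * g⁻¹) * x) * g := by group
    _ = g⁻¹ * (x * (g * h * g⁻¹)) * g := by rw [h1]
    _ = g⁻¹ * x * g * h := by group

theorem hyp_conj [Finite G] {p : ℕ} [Fact p.Prime] (P : Subgroup G) (g : G)
    (hJ : HasNormalPComplement p ↥(Subgroup.normalizer (JA p P : Set G)))
    (hZ : HasNormalPComplement p ↥(Subgroup.centralizer
      ((P ⊓ Subgroup.centralizer (P : Set G) : Subgroup G) : Set G))) :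
    HasNormalPComplement p
        ↥(Subgroup.normalizer (JA p (P.map (MulAut.conj g).toMonoidHom) : Set G)) ∧
      HasNormalPComplement p ↥(Subgroup.centralizer
        ((P.map (MulAut.conj g).toMonoidHom ⊓
          Subgroup.centralizer ((P.map (MulAut.conj g).toMonoidHom : Subgroup G) : Set G) :
            Subgroup G) : Set G)) := by
  constructor
  · refine npc_of_conj_le g⁻¹ ?_ hJ
    intro x hx
    rw [← S0653.JA_map] at hx
    rw [inv_inv]
    exact conj_mem_normalizer_of_map _ g x hx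
  · refine npc_of_conj_le g⁻¹ ?_ hZ
    intro x hx
    rw [← Z_map_injOn (MulAut.conj g).toMonoidHom P
      (fun y _ hy => (MulAut.conj g).injective (hy.trans (map_one _).symm))] at hx
    rw [inv_inv]
    exact conj_mem_centralizer_of_map _ g x hx

end Cfsg.Agent.Lead.Th
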