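import Mathlib
import Cfsg.Agent.Lead.ThA
import Cfsg.Agent.Helper11.FrobFixed

set_option autoImplicit false
set_option linter.style.haveILetI false

namespace Cfsg.Agent.Lead.Th

open Cfsg
open Cfsg.Agent.S0653 (calA JA)
open scoped Pointwise
open scoped IsMulCommutative

universe u

variable {G : Type u} [Group G]

/-- A coprime automorphism of an abelian `p`-group that is trivial on the elements of order
dividing `p` is trivial. -/
theorem coprime_centralizes_of_omega {p : ℕ} (V : Subgroup G)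
    (hVc : ∀ a ∈ V, ∀ b ∈ V, a * b = b * a) (hVp : ∀ v ∈ V, ∃ n : ℕ, v ^ (p ^ n) = 1)
    (x : G) (hxV : ∀ v ∈ V, x * v * x⁻¹ ∈ V) (r : ℕ) (hr : r.Coprime p) (hxr : x ^ r = 1)
    (hΩ : ∀ v ∈ V, v ^ p = 1 → x * v * x⁻¹ = v) : ∀ v ∈ V, x * v * x⁻¹ = v := by
  have key : ∀ n : ℕ, ∀ v ∈ V, v ^ (p ^ n) = 1 → x * v * x⁻¹ = v := by
    intro n
    induction n with
    | zero =>
      intro v hv h
      rw [pow_zero, pow_one] at h
      rw [h, mul_one, mul_inv_cancel]
    | succ n ih =>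
      intro v hv h
      have hu : x * v ^ p * x⁻¹ = v ^ p := ih (v ^ p) (V.pow_mem hv p) (by
        rw [← pow_mul, ← pow_succ']
        exact h)
      obtain ⟨w, hw⟩ : ∃ w, w = v⁻¹ * (x * v * x⁻¹) := ⟨_, rfl⟩
      have hwV : w ∈ V := hw ▸ V.mul_mem (V.inv_mem hv) (hxV v hv)
      have hwp : w ^ p = 1 := by
        rw [hw, (show Commute v⁻¹ (x * v * x⁻¹) from hVc _ (V.inv_mem hv) _ (hxV v hv)).mul_pow,
          conj_pow, hu, inv_pow, inv_mul_cancel]
      have hxw : x * w * x⁻¹ = w := hΩ w hwV hwp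
      have hxv : x * v * x⁻¹ = v * w := by rw [hw, mul_inv_cancel_left]
      have hk : ∀ k : ℕ, x ^ k * v * (x ^ k)⁻¹ = v * w ^ k := by
        intro k
        induction k with
        | zero => simp
        | succ k ihk =>
          calc x ^ (k + 1) * v * (x ^ (k + 1))⁻¹ = x * (x ^ k * v * (x ^ k)⁻¹) * x⁻¹ := by
                rw [pow_succ']
                simp only [mul_inv_rev, mul_assoc]
            _ = x * (v * w ^ k) * x⁻¹ := by rw [ihk]
            _ = (x * v * x⁻¹) * (x * w * x⁻¹) ^ k := by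
                rw [conj_pow]
                simp only [mul_assoc, inv_mul_cancel_left]
            _ = v * w ^ (k + 1) := by rw [hxv, hxw, pow_succ', mul_assoc]
      have h1 := hk r
      rw [hxr, one_mul, inv_one, mul_one] at h1
      have h2 : w ^ r = 1 := by
        have h3 : v * w ^ r = v * 1 := by rw [mul_one]; exact h1.symm
        exact mul_left_cancel h3
      have hw1 : w = 1 := by
        have h5 := pow_gcd_eq_one.mpr ⟨h2, hwp⟩
        rw [Nat.Coprime.gcd_eq_one hr, pow_one] at h5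
        exact h5
      rw [hxv, hw1, mul_one]
  intro v hv
  obtain ⟨n, hn⟩ := hVp v hv
  exact key n v hv hn

theorem quad_conj {R : Type*} [Ring R] (β τ τ' : R) (hτ : τ * τ' = 1) (hτ' : τ' * τ = 1)
    (h0 : (β - 1) * (β - 1) = 0) : (τ' * β * τ - 1) * (τ' * β * τ - 1) = 0 := by
  have e1 : τ' * β * τ - 1 = τ' * (β - 1) * τ := by
    rw [mul_sub, sub_mul, mul_one, hτ']
  rw [e1]
  calc τ' * (β - 1) * τ * (τ' * (β - 1) * τ) = τ' * ((β - 1) * (τ * τ') * (β - 1)) * τ := by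
        simp only [mul_assoc]
    _ = 0 := by rw [hτ, mul_one, h0, mul_zero, zero_mul]

theorem quad_inv {R : Type*} [Ring R] (x x' : R) (h : x * x' = 1)
    (hq : (x - 1) * (x - 1) = 0) : x + x' = 1 + 1 := by
  have e : (x - 1) * (x - 1) * x' = x * (x * x') - (x * x') - (x * x') + x' := by noncomm_ring
  rw [hq, zero_mul, h, mul_one] at e
  calc x + x' = (x - 1 - 1 + x') + (1 + 1) := by abel
    _ = 0 + (1 + 1) := by rw [← e]
    _ = 1 + 1 := zero_add _

theorem quad_ring {R : Type*} [Ring R] (β β' τ τ' : R)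
    (hβ : β * β' = 1) (hβ' : β' * β = 1) (hτ : τ * τ' = 1) (hτ' : τ' * τ = 1)
    (h0 : (β - 1) * (β - 1) = 0)
    (hcomm : (τ' * β * τ * β') * τ = τ * (τ' * β * τ * β')) :
    (τ' * β * τ * β' - 1) * (τ' * β * τ * β' - 1) +
      (τ' * β * τ * β' - 1) * (τ' * β * τ * β' - 1) = 0 := by
  obtain ⟨σ, hσdef⟩ : ∃ σ, σ = τ' * β * τ * β' := ⟨_, rfl⟩
  obtain ⟨σ', hσ'def⟩ : ∃ σ', σ' = β * τ' * β' * τ := ⟨_, rfl⟩
  rw [← hσdef] at hcomm ⊢
  have hβa : ∀ x : R, β * (β' * x) = x := fun x => by rw [← mul_assoc, hβ, one_mul]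
  have hβ'a : ∀ x : R, β' * (β * x) = x := fun x => by rw [← mul_assoc, hβ', one_mul]
  have hτa : ∀ x : R, τ * (τ' * x) = x := fun x => by rw [← mul_assoc, hτ, one_mul]
  have hτ'a : ∀ x : R, τ' * (τ * x) = x := fun x => by rw [← mul_assoc, hτ', one_mul]
  have hσ : σ * σ' = 1 := by
    rw [hσdef, hσ'def]
    simp only [mul_assoc, hβ'a, hτa, hβa, hτ']
  have hσ' : σ' * σ = 1 := by
    rw [hσdef, hσ'def]
    simp only [mul_assoc, hτa, hβ'a, hτ'a, hβ]
  have hσa : ∀ x : R, σ * (σ' * x) = x := fun x => by rw [← mul_assoc, hσ, one_mul]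
  have hb : β + β' = 1 + 1 := quad_inv β β' hβ h0
  have hb' : β' = 1 + 1 - β := eq_sub_of_add_eq' hb
  have hσβ : σ * β = τ' * β * τ := by
    rw [hσdef]
    simp only [mul_assoc, hβ', mul_one]
  have q1 : (σ * β - 1) * (σ * β - 1) = 0 := by
    rw [hσβ]
    exact quad_conj β τ τ' hτ hτ' h0
  have E1 : σ * β + β' * σ' = 1 + 1 :=
    quad_inv (σ * β) (β' * σ') (by simp only [mul_assoc, hβa, hσ]) q1
  have hc' : σ * τ' = τ' * σ := by
    calc σ * τ' = (τ' * τ) * σ * τ' := by rw [hτ', one_mul]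
      _ = τ' * (τ * σ) * τ' := by simp only [mul_assoc]
      _ = τ' * (σ * τ) * τ' := by rw [hcomm]
      _ = τ' * σ * (τ * τ') := by simp only [mul_assoc]
      _ = τ' * σ := by rw [hτ, mul_one]
  have hσσβ : σ * σ * β = τ' * (τ' * β * τ) * τ := by
    calc σ * σ * β = σ * (σ * β) := by rw [mul_assoc]
      _ = σ * τ' * (β * τ) := by rw [hσβ]; simp only [mul_assoc]
      _ = τ' * (σ * β) * τ := by rw [hc']; simp only [mul_assoc]
      _ = τ' * (τ' * β * τ) * τ := by rw [hσβ]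
  have q2 : (σ * σ * β - 1) * (σ * σ * β - 1) = 0 := by
    rw [hσσβ]
    exact quad_conj _ τ τ' hτ hτ' (quad_conj β τ τ' hτ hτ' h0)
  have E2 : σ * σ * β + β' * σ' * σ' = 1 + 1 :=
    quad_inv (σ * σ * β) (β' * σ' * σ') (by simp only [mul_assoc, hβa, hσa, hσ]) q2
  rw [hb'] at E1 E2
  have key : (σ * σ * β + (1 + 1 - β) * σ' * σ') - σ * (σ * β + (1 + 1 - β) * σ') -
      (σ * β + (1 + 1 - β) * σ') * σ' = -(σ * σ' + σ * σ') := by noncomm_ring
  rw [E2, E1, hσ, mul_add, mul_one, add_mul, one_mul] at key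
  have k2 : σ + σ + (σ' + σ') = 1 + 1 + (1 + 1) := by
    calc σ + σ + (σ' + σ') = (1 + 1) - (1 + 1 - (σ + σ) - (σ' + σ')) := by abel
      _ = (1 + 1) - -(1 + 1) := by rw [key]
      _ = 1 + 1 + (1 + 1) := by abel
  have k3 : σ * σ + σ * σ + (1 + 1) = σ + σ + (σ + σ) := by
    have := congrArg (· * σ) k2
    simp only [add_mul, hσ', one_mul] at this
    exact this
  calc (σ - 1) * (σ - 1) + (σ - 1) * (σ - 1)
      = (σ * σ + σ * σ + (1 + 1)) - (σ + σ + (σ + σ)) := by noncomm_ring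
    _ = 0 := by rw [k3]; exact sub_self _

theorem eq_one_of_quad {R : Type*} [Ring R] (p : ℕ) (hp : p.Prime) (hp2 : p ≠ 2)
    (hchar : ∀ x : R, p • x = 0) (σ : R)
    (h2 : (σ - 1) * (σ - 1) + (σ - 1) * (σ - 1) = 0) (m : ℕ)
    (hm : m.Coprime p) (hσm : σ ^ m = 1) : σ = 1 := by
  obtain ⟨N, hN⟩ : ∃ N, N = σ - 1 := ⟨_, rfl⟩
  rw [← hN] at h2
  have hNN : N * N = 0 := by
    obtain ⟨k, hk⟩ := hp.eq_two_or_odd'.resolve_left hp2
    have h3 : (2 * k + 1) • (N * N) = 0 := hk ▸ hchar _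
    have h4 : 2 • (N * N) = 0 := by rw [two_nsmul]; exact h2
    rw [add_smul, one_smul, mul_comm 2 k, mul_smul, h4, smul_zero, zero_add] at h3
    exact h3
  have hσ : σ = 1 + N := by rw [hN]; abel
  have hpow : ∀ j : ℕ, σ ^ j = 1 + j • N := by
    intro j
    induction j with
    | zero => simp
    | succ j ih =>
      rw [pow_succ, ih, hσ, mul_add, mul_one, add_mul, one_mul, smul_mul_assoc, hNN, smul_zero,
        add_zero, add_smul, one_smul]
      abel
  have hσp : σ ^ p = 1 := by rw [hpow, hchar, add_zero]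
  have h5 := pow_gcd_eq_one.mpr ⟨hσm, hσp⟩
  rw [Nat.Coprime.gcd_eq_one hm, pow_one] at h5
  exact h5


theorem sq_sub_one_eq_zero {R : Type*} [Ring R] (β : R) (h : β * β + 1 = β + β) :
    (β - 1) * (β - 1) = 0 := by
  calc (β - 1) * (β - 1) = (β * β + 1) - (β + β) := by noncomm_ring
    _ = 0 := by rw [h]; exact sub_self _

/-- the conjugation action of `G` on a normal abelian subgroup, as ring elements -/
noncomputable def conjEndN (W : Subgroup G) [hW : W.Normal] [IsMulCommutative W] :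
    G →* AddMonoid.End (Additive ↥W) :=
  (Helper11.conjEnd W).comp
    { toFun := fun g => ⟨g, Subgroup.mem_normalizer_iff.mpr (fun h =>
        ⟨fun hh => hW.conj_mem h hh g, fun hh => by
          have := hW.conj_mem _ hh g⁻¹
          simpa [mul_assoc] using this⟩)⟩
      map_one' := rfl
      map_mul' := fun _ _ => rfl }

theorem conjEndN_apply (W : Subgroup G) [hW : W.Normal] [IsMulCommutative W] (g : G)
    (v : Additive ↥W) :
    (((Additive.toMul (conjEndN W g v) : W)) : G) = g * ((Additive.toMul v : W) : G) * g⁻¹ :=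
  rfl

theorem conjEndN_eq (W : Subgroup G) [hW : W.Normal] [IsMulCommutative W] (x y : G)
    (h : ∀ w ∈ W, x * w * x⁻¹ = y * w * y⁻¹) : conjEndN W x = conjEndN W y := by
  refine DFunLike.ext _ _ (fun v => ?_)
  apply Helper11.additive_subgroup_ext
  rw [conjEndN_apply, conjEndN_apply]
  exact h _ (Additive.toMul v : W).2

theorem conjEndN_eq_one (W : Subgroup G) [hW : W.Normal] [IsMulCommutative W] (x : G)
    (h : ∀ w ∈ W, x * w * x⁻¹ = w) : conjEndN W x = 1 := by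
  rw [← map_one (conjEndN W)]
  apply conjEndN_eq
  intro w hw
  rw [h w hw, one_mul, inv_one, mul_one]

theorem conjEndN_of_eq_one (W : Subgroup G) [hW : W.Normal] [IsMulCommutative W] (x : G)
    (h : conjEndN W x = 1) (w : G) (hw : w ∈ W) : x * w * x⁻¹ = w := by
  have h1 := conjEndN_apply W x (Additive.ofMul ⟨w, hw⟩)
  rw [h] at h1
  exact h1.symm

/-- **Quadratic action.** If `b` acts quadratically on the normal elementary abelian
`p`-subgroup `W` (`p` odd), and `K` is `b`-invariant, acts on `W` as an abelian group of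
exponent prime to `p`, then `[K, b]` centralizes `W`. -/
theorem quadratic_centralizes {p : ℕ} [Fact p.Prime] (hp2 : p ≠ 2) (W : Subgroup G)
    [hW : W.Normal]
    (hWc : ∀ a ∈ W, ∀ b ∈ W, a * b = b * a) (hWp : ∀ w ∈ W, w ^ p = 1)
    (b : G) (hb : ∀ w ∈ W, b * (b * w * b⁻¹ * w⁻¹) * b⁻¹ = b * w * b⁻¹ * w⁻¹)
    (K : Subgroup G) (hbK : ∀ k ∈ K, b * k * b⁻¹ ∈ K)
    (hKab : ∀ x ∈ K, ∀ y ∈ K, ∀ w ∈ W, (x * y) * w * (x * y)⁻¹ = (y * x) * w * (y * x)⁻¹)
    (m : ℕ) (hm : m.Coprime p) (hKm : ∀ k ∈ K, ∀ w ∈ W, k ^ m * w * (k ^ m)⁻¹ = w) :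
    ∀ k ∈ K, ∀ w ∈ W, (k⁻¹ * b * k * b⁻¹) * w * (k⁻¹ * b * k * b⁻¹)⁻¹ = w := by
  haveI : IsMulCommutative W := .of_setLike_mul_comm hWc
  intro k hk
  have hk₁ : k⁻¹ * b * k * b⁻¹ ∈ K := by
    have : k⁻¹ * b * k * b⁻¹ = k⁻¹ * (b * k * b⁻¹) := by group
    rw [this]
    exact K.mul_mem (K.inv_mem hk) (hbK k hk)
  have hquad : conjEndN W b * conjEndN W b + 1 = conjEndN W b + conjEndN W b := by
    refine DFunLike.ext _ _ (fun v => ?_)
    apply Helper11.additive_subgroup_ext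
    obtain ⟨w, hw⟩ : ∃ w : G, w = ((Additive.toMul v : W) : G) := ⟨_, rfl⟩
    have hwW : w ∈ W := hw ▸ (Additive.toMul v : W).2
    show b * (b * ((Additive.toMul v : W) : G) * b⁻¹) * b⁻¹ * ((Additive.toMul v : W) : G) =
      (b * ((Additive.toMul v : W) : G) * b⁻¹) * (b * ((Additive.toMul v : W) : G) * b⁻¹)
    rw [← hw]
    have hc : b * w * b⁻¹ ∈ W := hW.conj_mem w hwW b
    have h1 : b * (b * w * b⁻¹) * b⁻¹ = (b * w * b⁻¹) * w⁻¹ * (b * w * b⁻¹) := by
      have := hb w hwW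
      calc b * (b * w * b⁻¹) * b⁻¹ = (b * (b * w * b⁻¹ * w⁻¹) * b⁻¹) * (b * w * b⁻¹) := by group
        _ = (b * w * b⁻¹ * w⁻¹) * (b * w * b⁻¹) := by rw [this]
    have hcw : (b * w * b⁻¹) * w = w * (b * w * b⁻¹) := hWc _ hc w hwW
    calc b * (b * w * b⁻¹) * b⁻¹ * w = (b * w * b⁻¹) * w⁻¹ * ((b * w * b⁻¹) * w) := by
          rw [h1]; simp only [mul_assoc]
      _ = (b * w * b⁻¹) * w⁻¹ * (w * (b * w * b⁻¹)) := by rw [hcw]
      _ = (b * w * b⁻¹) * (b * w * b⁻¹) := by simp only [mul_assoc, inv_mul_cancel_left]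
  have h0 : (conjEndN W b - 1) * (conjEndN W b - 1) = 0 := sq_sub_one_eq_zero _ hquad
  have hchar : ∀ x : AddMonoid.End (Additive ↥W), p • x = 0 := by
    intro x
    refine DFunLike.ext _ _ (fun v => ?_)
    apply Helper11.additive_subgroup_ext
    show ((((Additive.toMul (x v) : W)) ^ p : W) : G) = 1
    rw [Subgroup.coe_pow]
    exact hWp _ (Additive.toMul (x v) : W).2
  have hσ : conjEndN W k⁻¹ * conjEndN W b * conjEndN W k * conjEndN W b⁻¹ =
      conjEndN W (k⁻¹ * b * k * b⁻¹) := by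
    simp only [map_mul]
  have hcomm : (conjEndN W k⁻¹ * conjEndN W b * conjEndN W k * conjEndN W b⁻¹) * conjEndN W k =
      conjEndN W k * (conjEndN W k⁻¹ * conjEndN W b * conjEndN W k * conjEndN W b⁻¹) := by
    rw [hσ, ← map_mul, ← map_mul]
    exact conjEndN_eq W _ _ (hKab _ hk₁ k hk)
  have h2 := quad_ring (conjEndN W b) (conjEndN W b⁻¹) (conjEndN W k) (conjEndN W k⁻¹)
    (by rw [← map_mul, mul_inv_cancel, map_one]) (by rw [← map_mul, inv_mul_cancel, map_one])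
    (by rw [← map_mul, mul_inv_cancel, map_one]) (by rw [← map_mul, inv_mul_cancel, map_one])
    h0 hcomm
  rw [hσ] at h2
  have h3 : conjEndN W (k⁻¹ * b * k * b⁻¹) = 1 :=
    eq_one_of_quad p (Fact.out) hp2 hchar _ h2 m hm (by
      rw [← map_pow]
      exact conjEndN_eq_one W _ (hKm _ hk₁))
  exact conjEndN_of_eq_one W _ h3

/-- **Thompson replacement, packaged**: there is a largest elementary abelian subgroup not
contained in `U` and normalized by `W`. -/
theorem exists_quadratic [Finite G] {p : ℕ} [Fact p.Prime] (hp2 : p ≠ 2) (P : Subgroup G)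
    (hP : IsPGroup p P) (U W : Subgroup G) [W.Normal] (hWP : W ≤ P)
    (hWc : ∀ a ∈ W, ∀ b ∈ W, a * b = b * a) (hWp : ∀ w ∈ W, w ^ p = 1)
    (hWU : ∀ w ∈ W, ∀ u ∈ U, u * w = w * u)
    (A₀ : Subgroup G) (hA₀ : A₀ ∈ calA p P) (hA₀U : ¬ A₀ ≤ U) :
    ∃ A ∈ calA p P, ¬ A ≤ U ∧ W ≤ Subgroup.normalizer (A : Set G) := by
  obtain ⟨A, hA, hmax⟩ := Set.exists_max_image {A : Subgroup G | A ∈ calA p P ∧ ¬ A ≤ U}
    (fun A => Nat.card (A ⊓ W : Subgroup G)) (Set.toFinite _) ⟨A₀, hA₀, hA₀U⟩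
  refine ⟨A, hA.1, hA.2, ?_⟩
  by_contra hnot
  obtain ⟨hAP, hAc, hAn, hAmax⟩ := hA.1
  have hBA : ⁅W, W⁆ ≤ A := by
    rw [Subgroup.commutator_le]
    intro x hx y hy
    rw [commutatorElement_def, hWc x hx y hy, mul_inv_cancel_right, mul_inv_cancel]
    exact A.one_mem
  obtain ⟨As, hAsP, hAsc, hAscard, hAsN, hlt, hexp⟩ :=
    S0653.replacement_in_G hp2 P hP W hWP A hAP hAc hBA hnot
  have hAs : As ∈ calA p P := ⟨hAsP, hAsc, hexp p hAn, fun A' h1 h2 h3 => by
    rw [hAscard]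
    exact hAmax A' h1 h2 h3⟩
  have hAsU : As ≤ U := by
    by_contra h
    exact absurd (hmax As ⟨hAs, h⟩) (not_le.mpr hlt)
  have hWAs : W ≤ As := by
    intro w hw
    exact S0653.mem_of_centralizes hAs (hWP hw) (hWp w hw) (fun a ha => hWU w hw a (hAsU ha))
  exact hnot (hWAs.trans hAsN)

end Cfsg.Agent.Lead.Th
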