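import Mathlib
import Cfsg.Agent.Lead.ThB
import Cfsg.Agent.S4303
import Cfsg.Agent.S0045

set_option autoImplicit false
set_option linter.style.haveILetI false
set_option maxHeartbeats 1600000

namespace Cfsg.Agent.Lead.Th

open Cfsg
open Cfsg.Agent.S0653 (calA JA)
open scoped Pointwise

universe u

variable {G : Type u} [Group G]

theorem comm_iff' {H : Type*} [Group H] (a b : H) : a⁻¹ * b * a * b⁻¹ = 1 ↔ a * b = b * a := by
  constructor
  · intro h
    have h1 : a⁻¹ * b * a = b := by rw [← mul_inv_eq_one]; exact h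
    calc a * b = a * (a⁻¹ * b * a) := by rw [h1]
      _ = b * a := by group
  · intro h
    calc a⁻¹ * b * a * b⁻¹ = a⁻¹ * (b * a) * b⁻¹ := by group
      _ = a⁻¹ * (a * b) * b⁻¹ := by rw [h]
      _ = 1 := by group

/-- `Ω₁(Z(U))` -/
def omegaZ (p : ℕ) (U : Subgroup G) : Subgroup G where
  carrier := {z | z ∈ U ∧ z ∈ Subgroup.centralizer (U : Set G) ∧ z ^ p = 1}
  one_mem' := ⟨U.one_mem, Subgroup.one_mem _, one_pow _⟩
  mul_mem' := fun {a b} ha hb => ⟨U.mul_mem ha.1 hb.1, Subgroup.mul_mem _ ha.2.1 hb.2.1, by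
    rw [(show Commute a b from (Subgroup.mem_centralizer_iff.mp hb.2.1 a ha.1)).mul_pow,
      ha.2.2, hb.2.2, one_mul]⟩
  inv_mem' := fun {a} ha => ⟨U.inv_mem ha.1, Subgroup.inv_mem _ ha.2.1, by
    rw [inv_pow, ha.2.2, inv_one]⟩

theorem mem_omegaZ {p : ℕ} {U : Subgroup G} {z : G} :
    z ∈ omegaZ p U ↔ z ∈ U ∧ z ∈ Subgroup.centralizer (U : Set G) ∧ z ^ p = 1 := Iff.rfl

theorem omegaZ_normal (p : ℕ) (U : Subgroup G) [hU : U.Normal] : (omegaZ p U).Normal := by
  constructor
  intro z hz g
  obtain ⟨h1, h2, h3⟩ := hz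
  exact ⟨hU.conj_mem z h1 g,
    (inferInstance : (Subgroup.centralizer (U : Set G)).Normal).conj_mem z h2 g, by
      rw [conj_pow, h3, mul_one, mul_inv_cancel]⟩

/-- **Thompson's normal `p`-complement theorem** (`p` odd). -/
theorem thompson_main {p : ℕ} [Fact p.Prime] (hp2 : p ≠ 2) :
    ∀ n : ℕ, ∀ (G : Type u) [Group G] [Finite G], Nat.card G = n → ∀ P : Sylow p G,
      HasNormalPComplement p ↥(Subgroup.normalizer (JA p (P : Subgroup G) : Set G)) →
      HasNormalPComplement p ↥(Subgroup.centralizer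
        (((P : Subgroup G) ⊓ Subgroup.centralizer ((P : Subgroup G) : Set G) : Subgroup G) :
          Set G)) →
      HasNormalPComplement p G := by
  intro n
  induction n using Nat.strong_induction_on with
  | _ n ih =>
  intro G _ _ hn P hJ hZ
  by_contra hnot
  have hpp : p.Prime := Fact.out
  have hmain : ∀ (H : Type u) [Group H] [Finite H], Nat.card H < Nat.card G → ∀ S : Sylow p H,
      HasNormalPComplement p ↥(Subgroup.normalizer (JA p (S : Subgroup H) : Set H)) →
      HasNormalPComplement p ↥(Subgroup.centralizer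
        (((S : Subgroup H) ⊓ Subgroup.centralizer ((S : Subgroup H) : Set H) : Subgroup H) :
          Set H)) →
      HasNormalPComplement p H :=
    fun H _ _ hlt S h1 h2 => ih (Nat.card H) (hn ▸ hlt) H rfl S h1 h2
  -- the hypotheses hold for every Sylow subgroup
  have hypAll : ∀ P' : Sylow p G,
      HasNormalPComplement p ↥(Subgroup.normalizer (JA p (P' : Subgroup G) : Set G)) ∧
      HasNormalPComplement p ↥(Subgroup.centralizer
        (((P' : Subgroup G) ⊓ Subgroup.centralizer ((P' : Subgroup G) : Set G) : Subgroup G) :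
          Set G)) := by
    intro P'
    obtain ⟨g, hg⟩ := MulAction.exists_smul_eq G P P'
    have hP' : (P' : Subgroup G) = (P : Subgroup G).map (MulAut.conj g).toMonoidHom := by
      rw [← hg, show ((g • P : Sylow p G) : Subgroup G) = MulAut.conj g • (P : Subgroup G)
        from rfl]
      ext x
      rw [Lead.mem_conj_smul']
      constructor
      · intro hx
        exact ⟨g⁻¹ * x * g, hx, by simp [mul_assoc]⟩
      · rintro ⟨y, hy, rfl⟩
        have : g⁻¹ * (MulAut.conj g).toMonoidHom y * g = y := by simp [mul_assoc]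
        rw [this]
        exact hy
    rw [hP']
    exact hyp_conj (P : Subgroup G) g hJ hZ
  -- Step 1: a maximal bad p-subgroup
  obtain ⟨v, hv⟩ : ∃ v : Subgroup G → ℕ,
      v = fun Y : Subgroup G => (Nat.card (Subgroup.normalizer (Y : Set G))).factorization p :=
    ⟨_, rfl⟩
  have hvdef : ∀ Y : Subgroup G,
      v Y = (Nat.card (Subgroup.normalizer (Y : Set G))).factorization p := fun Y => by rw [hv]
  have hbad : ∃ X : Subgroup G, IsPGroup p X ∧ X ≠ ⊥ ∧
      ¬ HasNormalPComplement p ↥(Subgroup.normalizer (X : Set G)) := by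
    by_contra h
    push Not at h
    exact hnot ((S0072.result p).mpr (fun Q hQ hQne => h Q hQ hQne))
  obtain ⟨U, hU, hUmax⟩ := Set.exists_max_image {X : Subgroup G | IsPGroup p X ∧ X ≠ ⊥ ∧
      ¬ HasNormalPComplement p ↥(Subgroup.normalizer (X : Set G))}
    (fun X => v X * (Nat.card G + 1) + Nat.card X) (Set.toFinite _) hbad
  obtain ⟨hUp, hUne, hUbad⟩ := hU
  have hMax : ∀ Y : Subgroup G, IsPGroup p Y → Y ≠ ⊥ →
      (v U < v Y ∨ (v U ≤ v Y ∧ Nat.card U < Nat.card Y)) →
      HasNormalPComplement p ↥(Subgroup.normalizer (Y : Set G)) := by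
    intro Y hYp hYne hlt
    by_contra hYbad
    have h1 : v Y * (Nat.card G + 1) + Nat.card Y ≤ v U * (Nat.card G + 1) + Nat.card U :=
      hUmax Y ⟨hYp, hYne, hYbad⟩
    have hUle : Nat.card U ≤ Nat.card G := Subgroup.card_le_card_group U
    rcases hlt with h | ⟨h, h'⟩
    · have h2 : (v U + 1) * (Nat.card G + 1) ≤ v Y * (Nat.card G + 1) :=
        Nat.mul_le_mul_right _ h
      rw [Nat.add_mul, one_mul] at h2
      omega
    · have h2 : v U * (Nat.card G + 1) ≤ v Y * (Nat.card G + 1) := Nat.mul_le_mul_right _ h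
      omega
  -- the normalizer of U is G
  have hUnorm : Subgroup.normalizer (U : Set G) = ⊤ := by
    by_contra hNtop
    obtain ⟨N, hN⟩ : ∃ N : Subgroup G, N = Subgroup.normalizer (U : Set G) := ⟨_, rfl⟩
    rw [← hN] at hNtop hUbad
    have hNlt : Nat.card N < Nat.card G := S0001.card_lt_of_ne_top hNtop
    obtain ⟨S₀⟩ : Nonempty (Sylow p N) := inferInstance
    obtain ⟨S, hS⟩ : ∃ S : Subgroup G, S = (S₀ : Subgroup N).map N.subtype := ⟨_, rfl⟩
    have hScard : Nat.card S = p ^ (Nat.card N).factorization p := by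
      rw [hS]
      exact Lead.card_sylow_map N S₀
    have hSp : IsPGroup p S := IsPGroup.of_card hScard
    have hUN : U ≤ N := hN ▸ Subgroup.le_normalizer
    have hUS : U ≤ S := by
      haveI : (U.subgroupOf N).Normal := by
        rw [hN]
        exact Subgroup.normal_in_normalizer
      have hp'' : IsPGroup p (U.subgroupOf N) := hUp.comap_subtype
      have h1 : U.subgroupOf N ≤ S₀ := IsPGroup.le_sylow_of_normal hp'' S₀
      intro x hx
      rw [hS]
      exact ⟨⟨x, hUN hx⟩, h1 (Subgroup.mem_subgroupOf.mpr hx), rfl⟩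
    have hSne : S ≠ ⊥ := ne_bot_of_le_ne_bot hUne hUS
    have hyps : HasNormalPComplement p ↥(Subgroup.normalizer (JA p S : Set G)) ∧
        HasNormalPComplement p ↥(Subgroup.centralizer
          ((S ⊓ Subgroup.centralizer (S : Set G) : Subgroup G) : Set G)) := by
      by_cases hfull : Nat.card S = p ^ (Nat.card G).factorization p
      · have h1 := hypAll (Sylow.ofCard S hfull)
        rw [Sylow.coe_ofCard] at h1
        exact h1
      · obtain ⟨P', hSP'⟩ := hSp.exists_le_sylow
        have hne : S ≠ (P' : Subgroup G) := by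
          intro h
          apply hfull
          rw [h]
          exact P'.card_eq_multiplicity
        have hlt : S < (P' : Subgroup G) := lt_of_le_of_ne hSP' hne
        obtain ⟨x, hxP', hxS, hxN⟩ := Lead.exists_mem_normalizer_not_mem P'.isPGroup' hlt
        obtain ⟨S₁, hS₁⟩ : ∃ S₁ : Subgroup G,
            S₁ = (P' : Subgroup G) ⊓ Subgroup.normalizer (S : Set G) := ⟨_, rfl⟩
        have hS₁p : IsPGroup p S₁ := P'.isPGroup'.to_le (hS₁ ▸ inf_le_left)
        have hSS₁ : S < S₁ := by
          refine lt_of_le_of_ne (hS₁ ▸ le_inf hSP' Subgroup.le_normalizer) ?_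
          intro h
          apply hxS
          rw [h, hS₁]
          exact Subgroup.mem_inf.mpr ⟨hxP', hxN⟩
        have hS₁N : S₁ ≤ Subgroup.normalizer (S : Set G) := hS₁ ▸ inf_le_right
        have hvlt : ∀ Y : Subgroup G, S₁ ≤ Subgroup.normalizer (Y : Set G) → v U < v Y := by
          intro Y hY
          obtain ⟨k, hk⟩ := IsPGroup.iff_card.mp hS₁p
          have h1 : Nat.card S < Nat.card S₁ := S0001.card_lt_of_lt hSS₁
          rw [hScard, hk] at h1
          have h2 : (Nat.card N).factorization p < k :=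
            (Nat.pow_lt_pow_iff_right hpp.one_lt).mp h1
          have h3 : p ^ k ∣ Nat.card (Subgroup.normalizer (Y : Set G)) :=
            hk ▸ Subgroup.card_dvd_of_le hY
          have h4 : k ≤ (Nat.card (Subgroup.normalizer (Y : Set G))).factorization p :=
            (hpp.pow_dvd_iff_le_factorization Nat.card_pos.ne').mp h3
          rw [hvdef, hvdef, ← hN]
          omega
        constructor
        · exact hMax _ (hSp.to_le (JA_le p S)) (JA_ne_bot S hSp hSne)
            (Or.inl (hvlt _ (hS₁N.trans (normalizer_le_normalizer_JA p S))))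
        · exact npc_mono (Subgroup.centralizer_le_normalizer _)
            (hMax _ (hSp.to_le inf_le_left) (Z_ne_bot S hSp hSne)
              (Or.inl (hvlt _ (hS₁N.trans (normalizer_le_normalizer_Z S)))))
    have hNnpc : HasNormalPComplement p ↥N :=
      subApp hmain N hNlt S₀ (by rw [← hS]; exact hyps.1) (by rw [← hS]; exact hyps.2)
    exact hUbad hNnpc
  have hUn : U.Normal := Subgroup.normalizer_eq_top_iff.mp hUnorm
  haveI := hUn
  have hU3 : ∀ Y : Subgroup G, IsPGroup p Y →
      (P : Subgroup G) ≤ Subgroup.normalizer (Y : Set G) → Nat.card U < Nat.card Y →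
      HasNormalPComplement p ↥(Subgroup.normalizer (Y : Set G)) := by
    intro Y hYp hPY hlt
    have hYne : Y ≠ ⊥ := by
      rintro rfl
      rw [Subgroup.card_bot] at hlt
      have := Nat.card_pos (α := U)
      omega
    refine hMax Y hYp hYne (Or.inr ⟨?_, hlt⟩)
    have h3 : p ^ (Nat.card G).factorization p ∣ Nat.card (Subgroup.normalizer (Y : Set G)) := by
      rw [← P.card_eq_multiplicity]
      exact Subgroup.card_dvd_of_le hPY
    have h4 := (hpp.pow_dvd_iff_le_factorization Nat.card_pos.ne').mp h3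
    rw [hvdef, hvdef, hUnorm, Subgroup.card_top]
    exact h4
  have hU2 : ∀ Y : Subgroup G, Y.Normal → IsPGroup p Y → Y ≤ U := by
    intro Y hYn hYp
    by_contra hYU
    haveI := hYn
    have hsup : IsPGroup p (Y ⊔ U : Subgroup G) := hYp.to_sup_of_normal_right hUp
    have hlt : U < Y ⊔ U := by
      refine lt_of_le_of_ne le_sup_right ?_
      intro h
      apply hYU
      rw [h]
      exact le_sup_left
    have h1 := hU3 (Y ⊔ U) hsup (by rw [Subgroup.normalizer_eq_top]; exact le_top)
      (S0001.card_lt_of_lt hlt)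
    exact hnot (npc_of_eq_top (Subgroup.normalizer_eq_top (Y ⊔ U)) h1)
  have hUP : U ≤ (P : Subgroup G) := hUp.le_sylow_of_normal P
  have hUneP : U ≠ (P : Subgroup G) := by
    intro h
    have h1 : Subgroup.normalizer (JA p (P : Subgroup G) : Set G) = ⊤ := by
      rw [eq_top_iff]
      calc ⊤ = Subgroup.normalizer ((P : Subgroup G) : Set G) := by rw [← h]; exact hUnorm.symm
        _ ≤ _ := normalizer_le_normalizer_JA p _
    exact hnot (npc_of_eq_top h1 hJ)
  have hkerU : ∀ (B : Subgroup (G ⧸ U)), U ≤ B.comap (QuotientGroup.mk' U) := by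
    intro B x hx
    rw [Subgroup.mem_comap]
    have : QuotientGroup.mk' U x = 1 := (QuotientGroup.eq_one_iff x).mpr hx
    rw [this]
    exact B.one_mem
  have hUmap : U.map (QuotientGroup.mk' U) = ⊥ := by
    rw [eq_bot_iff]
    rintro _ ⟨u, hu, rfl⟩
    exact (QuotientGroup.eq_one_iff u).mpr hu
  have hπs : Function.Surjective (QuotientGroup.mk' U) := QuotientGroup.mk'_surjective U
  -- Step 1b: G/U has a normal p-complement
  obtain ⟨K, hKn, hUK, m, hmcop, hKcard, k, hKidx, hKm⟩ : ∃ K : Subgroup G, K.Normal ∧ U ≤ K ∧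
      ∃ m : ℕ, m.Coprime p ∧ Nat.card K = m * Nat.card U ∧ ∃ k : ℕ, K.index = p ^ k ∧
        m = Nat.card (K.map (QuotientGroup.mk' U)) := by
    have hlt : Nat.card (G ⧸ U) < Nat.card G := S0001.card_quotient_lt hUne
    have hPbar_ne : (P : Subgroup G).map (QuotientGroup.mk' U) ≠ ⊥ := by
      intro h
      apply hUneP
      apply le_antisymm hUP
      intro x hx
      have : QuotientGroup.mk' U x ∈ (P : Subgroup G).map (QuotientGroup.mk' U) :=
        Subgroup.mem_map_of_mem _ hx
      rw [h, Subgroup.mem_bot] at this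
      exact (QuotientGroup.eq_one_iff x).mp this
    have hPbar_p : IsPGroup p ((P : Subgroup G).map (QuotientGroup.mk' U)) :=
      P.isPGroup'.map _
    have hkey : ∀ Yb : Subgroup (G ⧸ U), Yb ≤ (P : Subgroup G).map (QuotientGroup.mk' U) →
        Yb ≠ ⊥ →
        (P : Subgroup G).map (QuotientGroup.mk' U) ≤ Subgroup.normalizer (Yb : Set (G ⧸ U)) →
        HasNormalPComplement p ↥(Subgroup.normalizer (Yb : Set (G ⧸ U))) := by
      intro Yb hYbP hYbne hPYb
      obtain ⟨Y, hY⟩ : ∃ Y : Subgroup G, Y = Yb.comap (QuotientGroup.mk' U) := ⟨_, rfl⟩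
      have hUY : U ≤ Y := hY ▸ hkerU Yb
      have hYP : Y ≤ (P : Subgroup G) := by
        rw [hY]
        calc Yb.comap (QuotientGroup.mk' U)
            ≤ ((P : Subgroup G).map (QuotientGroup.mk' U)).comap (QuotientGroup.mk' U) :=
              Subgroup.comap_mono hYbP
          _ = U ⊔ (P : Subgroup G) := QuotientGroup.comap_map_mk' U _
          _ = (P : Subgroup G) := sup_eq_right.mpr hUP
      have hYmap : Y.map (QuotientGroup.mk' U) = Yb := by
        rw [hY]
        exact Subgroup.map_comap_eq_self_of_surjective hπs Yb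
      have hYlt : Nat.card U < Nat.card Y := by
        apply S0001.card_lt_of_lt
        refine lt_of_le_of_ne hUY ?_
        intro h
        apply hYbne
        rw [← hYmap, ← h]
        exact hUmap
      have hnormeq : Subgroup.normalizer (Y : Set G) =
          (Subgroup.normalizer (Yb : Set (G ⧸ U))).comap (QuotientGroup.mk' U) := by
        rw [hY]
        exact (Subgroup.comap_normalizer_eq_of_surjective _ hπs).symm
      have hPY : (P : Subgroup G) ≤ Subgroup.normalizer (Y : Set G) := by
        rw [hnormeq]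
        intro x hx
        exact hPYb (Subgroup.mem_map_of_mem _ hx)
      have h1 := hU3 Y (P.isPGroup'.to_le hYP) hPY hYlt
      let f : ↥(Subgroup.normalizer (Y : Set G)) →*
          ↥(Subgroup.normalizer (Yb : Set (G ⧸ U))) :=
        ((QuotientGroup.mk' U).comp (Subgroup.normalizer (Y : Set G)).subtype).codRestrict _
          (fun x => hnormeq.le x.2)
      refine npc_of_surjective p f ?_ h1
      rintro ⟨yb, hyb⟩
      obtain ⟨y, rfl⟩ := hπs yb
      exact ⟨⟨y, hnormeq.ge hyb⟩, rfl⟩
    have hnpcQ : HasNormalPComplement p (G ⧸ U) := by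
      refine ih (Nat.card (G ⧸ U)) (hn ▸ hlt) (G ⧸ U) rfl (P.mapSurjective hπs) ?_ ?_
      · rw [Sylow.coe_mapSurjective]
        exact hkey _ (JA_le p _) (JA_ne_bot _ hPbar_p hPbar_ne)
          ((Subgroup.le_normalizer).trans (normalizer_le_normalizer_JA p _))
      · rw [Sylow.coe_mapSurjective]
        exact npc_mono (Subgroup.centralizer_le_normalizer _)
          (hkey _ inf_le_left (Z_ne_bot _ hPbar_p hPbar_ne)
            ((Subgroup.le_normalizer).trans (normalizer_le_normalizer_Z _)))
    obtain ⟨Kb, hKbn, hKbcop, k, hKbidx⟩ := (S0072.npc_iff p).mp hnpcQ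
    refine ⟨Kb.comap (QuotientGroup.mk' U), hKbn.comap _, hkerU Kb, Nat.card Kb, hKbcop, ?_, k,
      ?_, ?_⟩
    · have h1 := S0001.card_map_mk_mul_card (M := U) (A := Kb.comap (QuotientGroup.mk' U))
        (hkerU Kb)
      rw [Subgroup.map_comap_eq_self_of_surjective hπs] at h1
      exact h1.symm
    · rw [Subgroup.index_comap_of_surjective _ hπs, hKbidx]
    · rw [Subgroup.map_comap_eq_self_of_surjective hπs]
  haveI := hKn
  have hKpow : ∀ x ∈ K, x ^ m ∈ U := by
    intro x hx
    rw [← QuotientGroup.eq_one_iff]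
    have h1 : (⟨QuotientGroup.mk' U x, Subgroup.mem_map_of_mem _ hx⟩ :
        K.map (QuotientGroup.mk' U)) ^ m = 1 := by
      rw [hKm]
      exact pow_card_eq_one'
    have h2 := congrArg Subtype.val h1
    rw [Subgroup.coe_pow] at h2
    show QuotientGroup.mk' U (x ^ m) = 1
    rw [map_pow]
    exact h2
  -- Step 2: no nontrivial normal p'-subgroup
  have hOp' : ∀ L : Subgroup G, L.Normal → (Nat.card L).Coprime p → L = ⊥ := by
    intro L hLn hLcop
    by_contra hLne
    haveI := hLn
    have hlt : Nat.card (G ⧸ L) < Nat.card G := S0001.card_quotient_lt hLne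
    have hinj : ∀ x ∈ (P : Subgroup G), QuotientGroup.mk' L x = 1 → x = 1 := by
      intro x hx h
      have hxL : x ∈ L := (QuotientGroup.eq_one_iff x).mp h
      have hcop : (Nat.card (P : Subgroup G)).Coprime (Nat.card L) := by
        obtain ⟨j, hj⟩ := IsPGroup.iff_card.mp P.isPGroup'
        rw [hj]
        exact Nat.Coprime.pow_left j (Nat.Coprime.symm hLcop)
      have : x ∈ (P : Subgroup G) ⊓ L := Subgroup.mem_inf.mpr ⟨hx, hxL⟩
      rwa [Lead.inf_eq_bot_of_coprime hcop, Subgroup.mem_bot] at this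
    have hnpcQ : HasNormalPComplement p (G ⧸ L) := by
      refine ih (Nat.card (G ⧸ L)) (hn ▸ hlt) (G ⧸ L) rfl
        (P.mapSurjective (QuotientGroup.mk'_surjective L)) ?_ ?_
      · rw [Sylow.coe_mapSurjective, ← JA_map_injOn p (QuotientGroup.mk' L) (P : Subgroup G) hinj]
        have h1 : HasNormalPComplement p
            ↥((Subgroup.normalizer (JA p (P : Subgroup G) : Set G)).map (QuotientGroup.mk' L)) :=
          npc_of_surjective p ((QuotientGroup.mk' L).subgroupMap _)
            ((QuotientGroup.mk' L).subgroupMap_surjective _) hJ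
        exact npc_mono (normalizer_map_mk L _ hLcop (P.isPGroup'.to_le (JA_le p _))) h1
      · rw [Sylow.coe_mapSurjective, ← Z_map_injOn (QuotientGroup.mk' L) (P : Subgroup G) hinj]
        have h1 : HasNormalPComplement p ↥((Subgroup.centralizer
            (((P : Subgroup G) ⊓ Subgroup.centralizer ((P : Subgroup G) : Set G) : Subgroup G) :
              Set G)).map (QuotientGroup.mk' L)) :=
          npc_of_surjective p ((QuotientGroup.mk' L).subgroupMap _)
            ((QuotientGroup.mk' L).subgroupMap_surjective _) hZ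
        exact npc_mono (centralizer_map_mk L _ hLcop (P.isPGroup'.to_le inf_le_left)) h1
    exact hnot (npc_of_quot L hLcop hnpcQ)
  -- the centralizer of U lies in U
  have hCU : Subgroup.centralizer (U : Set G) ≤ U := by
    obtain ⟨C, hC⟩ : ∃ C : Subgroup G, C = Subgroup.centralizer (U : Set G) := ⟨_, rfl⟩
    rw [← hC]
    have hCn : C.Normal := by rw [hC]; infer_instance
    haveI := hCn
    obtain ⟨D, hD⟩ : ∃ D : Subgroup G, D = C ⊓ K := ⟨_, rfl⟩
    have hDn : D.Normal := by rw [hD]; infer_instance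
    have hDC : D ≤ C := hD ▸ inf_le_left
    have hDK : D ≤ K := hD ▸ inf_le_right
    have hDU : D ≤ U := by
      have hp' : IsPGroup p (U.subgroupOf D) := hUp.comap_subtype
      have hidx : (U.subgroupOf D).index ∣ m := by
        show U.relIndex D ∣ m
        have h1 := Subgroup.relIndex_ker (K := D) (QuotientGroup.mk' U)
        rw [QuotientGroup.ker_mk'] at h1
        rw [h1, hKm]
        exact Subgroup.card_dvd_of_le (Subgroup.map_mono hDK)
      have hcop : (Nat.card (U.subgroupOf D)).Coprime (U.subgroupOf D).index := by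
        obtain ⟨j, hj⟩ := IsPGroup.iff_card.mp hp'
        rw [hj]
        exact Nat.Coprime.pow_left j
          (Nat.Coprime.coprime_dvd_right hidx (Nat.Coprime.symm hmcop))
      obtain ⟨T₀, hT₀⟩ := Subgroup.exists_right_complement'_of_coprime hcop
      obtain ⟨m₁, hm₁⟩ : ∃ m₁, m₁ = Nat.card T₀ := ⟨_, rfl⟩
      have hm₁idx : m₁ = (U.subgroupOf D).index := by
        rw [hm₁]
        exact S0001.card_of_compl hT₀
      have hm₁cop : m₁.Coprime p := by
        rw [hm₁idx]
        exact Nat.Coprime.coprime_dvd_left hidx hmcop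
      have hchar : ∀ d : D, d ^ m₁ = 1 → d ∈ T₀ := by
        intro d hd
        obtain ⟨⟨z, t⟩, hzt⟩ := hT₀.2 d
        have hzt' : (z : D) * (t : D) = d := hzt
        have hzc : Commute (z : D) (t : D) := by
          apply Subtype.ext
          show ((z : D) : G) * ((t : D) : G) = ((t : D) : G) * ((z : D) : G)
          have htC : ((t : D) : G) ∈ Subgroup.centralizer (U : Set G) := hC ▸ hDC (t : D).2
          exact Subgroup.mem_centralizer_iff.mp htC _ (Subgroup.mem_subgroupOf.mp z.2)
        have ht1 : (t : D) ^ m₁ = 1 := by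
          have h0 : t ^ m₁ = 1 := by rw [hm₁]; exact pow_card_eq_one'
          have h1 := congrArg Subtype.val h0
          rw [Subgroup.coe_pow] at h1
          exact h1
        have hz1 : (z : D) ^ m₁ = 1 := by
          rw [← hzt', hzc.mul_pow, ht1, mul_one] at hd
          exact hd
        obtain ⟨j, hj⟩ := hp' z
        have hj' : (z : D) ^ (p ^ j) = 1 := by
          have h1 := congrArg Subtype.val hj
          rw [Subgroup.coe_pow] at h1
          exact h1
        have hz : (z : D) = 1 := by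
          have h5 := pow_gcd_eq_one.mpr ⟨hz1, hj'⟩
          rw [Nat.Coprime.gcd_eq_one (Nat.Coprime.pow_right j hm₁cop), pow_one] at h5
          exact h5
        rw [← hzt', hz, one_mul]
        exact t.2
      obtain ⟨T, hT⟩ : ∃ T : Subgroup G, T = T₀.map D.subtype := ⟨_, rfl⟩
      have hTn : T.Normal := by
        constructor
        intro x hx g
        rw [hT] at hx ⊢
        obtain ⟨t, ht, rfl⟩ := hx
        have hmem : g * (t : G) * g⁻¹ ∈ D := hDn.conj_mem _ t.2 g
        refine ⟨⟨g * (t : G) * g⁻¹, hmem⟩, hchar _ ?_, rfl⟩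
        apply Subtype.ext
        rw [Subgroup.coe_pow]
        show (g * (t : G) * g⁻¹) ^ m₁ = 1
        rw [conj_pow]
        have h1 : (⟨t, ht⟩ : T₀) ^ m₁ = 1 := by rw [hm₁]; exact pow_card_eq_one'
        have h2 : (t : D) ^ m₁ = 1 := by
          have h3 := congrArg Subtype.val h1
          rw [Subgroup.coe_pow] at h3
          exact h3
        have h4 : (t : G) ^ m₁ = 1 := by
          have h3 := congrArg Subtype.val h2
          rw [Subgroup.coe_pow] at h3
          exact h3
        rw [h4, mul_one, mul_inv_cancel]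
      have hTcard : Nat.card T = m₁ := by
        rw [hT, Subgroup.card_map_of_injective D.subtype_injective, hm₁]
      have hTbot : T = ⊥ := hOp' T hTn (hTcard ▸ hm₁cop)
      have h1 : (U.subgroupOf D).index = 1 := by
        rw [← hm₁idx, ← hTcard, hTbot, Subgroup.card_bot]
      have h2 : U.subgroupOf D = ⊤ := Subgroup.index_eq_one.mp h1
      exact Subgroup.subgroupOf_eq_top.mp h2
    have hCp : IsPGroup p C := by
      intro c
      have h1 : (c : G) ^ (p ^ k) ∈ K := by
        rw [← hKidx]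
        exact Subgroup.pow_index_mem K (c : G)
      have h2 : (c : G) ^ (p ^ k) ∈ D := hD ▸ Subgroup.mem_inf.mpr ⟨C.pow_mem c.2 _, h1⟩
      obtain ⟨j, hj⟩ := hUp ⟨_, hDU h2⟩
      refine ⟨k + j, Subtype.ext ?_⟩
      have h3 := congrArg Subtype.val hj
      rw [Subgroup.coe_pow] at h3 ⊢
      rw [pow_add, pow_mul]
      exact h3
    exact hU2 C hCn hCp
  -- Step 3: P is a maximal subgroup
  have hPM : ∀ H : Subgroup G, (P : Subgroup G) ≤ H → H ≠ ⊤ → H = (P : Subgroup G) := by
    intro H hPH hHtop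
    have hHlt : Nat.card H < Nat.card G := S0001.card_lt_of_ne_top hHtop
    have hmapP : ((P.subtype hPH : Sylow p H) : Subgroup H).map H.subtype = (P : Subgroup G) := by
      rw [Sylow.coe_subtype]
      exact Subgroup.map_subgroupOf_eq_of_le hPH
    have hHnpc : HasNormalPComplement p ↥H :=
      subApp hmain H hHlt (P.subtype hPH) (by rw [hmapP]; exact hJ) (by rw [hmapP]; exact hZ)
    obtain ⟨M₀, hM₀n, hM₀cop, j, hM₀idx⟩ := (S0072.npc_iff p).mp hHnpc
    obtain ⟨M, hM⟩ : ∃ M : Subgroup G, M = M₀.map H.subtype := ⟨_, rfl⟩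
    have hMcard : Nat.card M = Nat.card M₀ := by
      rw [hM]
      exact Subgroup.card_map_of_injective H.subtype_injective
    have hUH : U ≤ H := hUP.trans hPH
    have hcopMU : (Nat.card U).Coprime (Nat.card M) := by
      obtain ⟨i, hi⟩ := IsPGroup.iff_card.mp hUp
      rw [hi, hMcard]
      exact Nat.Coprime.pow_left i (Nat.Coprime.symm hM₀cop)
    have hMC : M ≤ Subgroup.centralizer (U : Set G) := by
      intro x hx
      refine Subgroup.mem_centralizer_iff.mpr ?_
      intro u hu
      have hc1 : u * x * u⁻¹ * x⁻¹ ∈ U := by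
        have : u * x * u⁻¹ * x⁻¹ = u * (x * u⁻¹ * x⁻¹) := by group
        rw [this]
        exact U.mul_mem hu (hUn.conj_mem _ (U.inv_mem hu) x)
      have hc2 : u * x * u⁻¹ * x⁻¹ ∈ M := by
        have h1 : u * x * u⁻¹ ∈ M := by
          rw [hM] at hx ⊢
          obtain ⟨x₀, hx₀, rfl⟩ := hx
          exact ⟨⟨u, hUH hu⟩ * x₀ * ⟨u, hUH hu⟩⁻¹, hM₀n.conj_mem x₀ hx₀ _, rfl⟩
        exact M.mul_mem h1 (M.inv_mem hx)
      have hc : u * x * u⁻¹ * x⁻¹ = 1 := by
        have : u * x * u⁻¹ * x⁻¹ ∈ U ⊓ M := Subgroup.mem_inf.mpr ⟨hc1, hc2⟩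
        rwa [Lead.inf_eq_bot_of_coprime hcopMU, Subgroup.mem_bot] at this
      calc u * x = (u * x * u⁻¹ * x⁻¹) * (x * u) := by group
        _ = x * u := by rw [hc, one_mul]
    have hMU : M ≤ U := hMC.trans hCU
    have hMbot : M = ⊥ := by
      have h1 : M = U ⊓ M := (inf_eq_right.mpr hMU).symm
      rw [h1, Lead.inf_eq_bot_of_coprime hcopMU]
    have hM₀bot : M₀ = ⊥ := by
      rw [hM] at hMbot
      exact (Subgroup.map_eq_bot_iff_of_injective M₀ H.subtype_injective).mp hMbot
    have hHp : IsPGroup p H := by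
      apply IsPGroup.of_card (n := j)
      rw [← hM₀idx, hM₀bot, Subgroup.index_bot]
    exact P.is_maximal' hHp hPH
  have hCZP : Subgroup.centralizer (((P : Subgroup G) ⊓
      Subgroup.centralizer ((P : Subgroup G) : Set G) : Subgroup G) : Set G) =
      (P : Subgroup G) := by
    apply hPM
    · intro x hx
      refine Subgroup.mem_centralizer_iff.mpr ?_
      intro z hz
      exact (Subgroup.mem_centralizer_iff.mp (Subgroup.mem_inf.mp hz).2 x hx).symm
    · intro h
      exact hnot (npc_of_eq_top h hZ)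
  -- Step 4: structure of K
  have hKP : K ⊓ (P : Subgroup G) = U := by
    have hle : U ≤ K ⊓ (P : Subgroup G) := le_inf hUK hUP
    have hp' : IsPGroup p (K ⊓ (P : Subgroup G) : Subgroup G) := P.isPGroup'.to_le inf_le_right
    obtain ⟨a, ha⟩ := IsPGroup.iff_card.mp hp'
    obtain ⟨i, hi⟩ := IsPGroup.iff_card.mp hUp
    have hdvd : p ^ a ∣ m * p ^ i := by
      rw [← ha, ← hi, ← hKcard]
      exact Subgroup.card_dvd_of_le inf_le_left
    have hdvd' : p ^ a ∣ p ^ i :=
      (Nat.Coprime.dvd_mul_left (Nat.Coprime.pow_left a (Nat.Coprime.symm hmcop))).mp hdvd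
    have hcardle : Nat.card (K ⊓ (P : Subgroup G) : Subgroup G) ≤ Nat.card U := by
      rw [ha, hi]
      exact Nat.le_of_dvd (pow_pos hpp.pos i) hdvd'
    exact (Subgroup.eq_of_le_of_card_ge hle hcardle).symm
  have hKneU : K ≠ U := by
    intro h
    apply hnot
    apply npc_of_pgroup
    obtain ⟨i, hi⟩ := IsPGroup.iff_card.mp hUp
    apply IsPGroup.of_card (n := i + k)
    rw [← Subgroup.card_mul_index K, hKidx, h, hi, pow_add]
  have hPK : (P : Subgroup G) ⊔ K = ⊤ := by
    by_contra h
    have h1 := hPM _ le_sup_left h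
    have hKleP : K ≤ (P : Subgroup G) := by
      rw [← h1]
      exact le_sup_right
    exact hKneU (by rw [← hKP]; exact (inf_eq_left.mpr hKleP).symm)
  have hLPM : ∀ R : Subgroup G, U ≤ R → R ≤ K →
      (P : Subgroup G) ≤ Subgroup.normalizer (R : Set G) → R = U ∨ R = K := by
    intro R hUR hRK hPR
    by_cases h : (P : Subgroup G) ⊔ R = (P : Subgroup G)
    · left
      have hRP : R ≤ (P : Subgroup G) := by
        rw [← h]
        exact le_sup_right
      exact le_antisymm (by rw [← hKP]; exact le_inf hRK hRP) hUR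
    · right
      have htop : (P : Subgroup G) ⊔ R = ⊤ := by
        by_contra h'
        exact h (hPM _ le_sup_left h')
      apply le_antisymm hRK
      intro x hx
      have hx' : x ∈ ((P : Subgroup G) ⊔ R : Subgroup G) := htop ▸ Subgroup.mem_top x
      have hset := Subgroup.coe_mul_of_left_le_normalizer_right (P : Subgroup G) R hPR
      have hx'' : x ∈ ((P : Subgroup G) : Set G) * (R : Set G) := by
        rw [← hset]
        exact hx'
      obtain ⟨a, ha, r, hr, rfl⟩ := Set.mem_mul.mp hx''
      have haK : a ∈ K := by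
        have : a = (a * r) * r⁻¹ := by group
        rw [this]
        exact K.mul_mem hx (K.inv_mem (hRK hr))
      have haU : a ∈ U := by
        rw [← hKP]
        exact Subgroup.mem_inf.mpr ⟨haK, ha⟩
      exact R.mul_mem (hUR haU) hr
  have hKab : ⁅K, K⁆ ≤ U := by
    have hm1 : m ≠ 1 := by
      intro h
      apply hKneU
      have : Nat.card K ≤ Nat.card U := by rw [hKcard, h, one_mul]
      exact (Subgroup.eq_of_le_of_card_ge hUK this).symm
    obtain ⟨q, hq, hqm⟩ := Nat.exists_prime_and_dvd hm1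
    haveI : Fact q.Prime := ⟨hq⟩
    obtain ⟨Kb, hKb⟩ : ∃ Kb : Subgroup (G ⧸ U), Kb = K.map (QuotientGroup.mk' U) := ⟨_, rfl⟩
    obtain ⟨Pb, hPb⟩ : ∃ Pb : Subgroup (G ⧸ U),
        Pb = (P : Subgroup G).map (QuotientGroup.mk' U) := ⟨_, rfl⟩
    have hKbcard : Nat.card Kb = m := by rw [hKb, hKm]
    have hm0 : m ≠ 0 := by
      rw [← hKbcard]
      exact Nat.card_pos.ne'
    have hKbn : Kb.Normal := by
      rw [hKb]
      exact hKn.map _ hπs
    haveI := hKbn
    have hPbp : IsPGroup p Pb := by
      rw [hPb]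
      exact P.isPGroup'.map _
    haveI : Group.IsNilpotent Pb := hPbp.isNilpotent
    have hcop : (Nat.card Pb).Coprime (Nat.card Kb) := by
      obtain ⟨i, hi⟩ := IsPGroup.iff_card.mp hPbp
      rw [hi, hKbcard]
      exact Nat.Coprime.pow_left i (Nat.Coprime.symm hmcop)
    obtain ⟨Qb, -, hQbK, hPQb, hQbcard⟩ := S4303.exists_invariant_sylow Pb Kb
      (by rw [Subgroup.normalizer_eq_top]; exact le_top) hcop inferInstance q _ ⊥ rfl bot_le
      IsPGroup.of_bot (by rw [Subgroup.normalizer_eq_top]; exact le_top)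
    have hQbne : Qb ≠ ⊥ := by
      intro h
      rw [h, Subgroup.card_bot, hKbcard] at hQbcard
      have h1 : 1 ≤ m.factorization q := (hq.dvd_iff_one_le_factorization hm0).mp hqm
      have h2 := Nat.one_lt_pow (n := m.factorization q) (by omega) hq.one_lt
      omega
    obtain ⟨R, hR⟩ : ∃ R : Subgroup G, R = Qb.comap (QuotientGroup.mk' U) := ⟨_, rfl⟩
    have hUR : U ≤ R := hR ▸ hkerU Qb
    have hRK : R ≤ K := by
      rw [hR]
      calc Qb.comap (QuotientGroup.mk' U) ≤ Kb.comap (QuotientGroup.mk' U) :=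
            Subgroup.comap_mono hQbK
        _ = U ⊔ K := by rw [hKb]; exact QuotientGroup.comap_map_mk' U K
        _ = K := sup_eq_right.mpr hUK
    have hPR : (P : Subgroup G) ≤ Subgroup.normalizer (R : Set G) := by
      rw [hR, ← Subgroup.comap_normalizer_eq_of_surjective _ hπs]
      intro x hx
      exact hPQb (hPb ▸ Subgroup.mem_map_of_mem _ hx)
    have hRmap : R.map (QuotientGroup.mk' U) = Qb := by
      rw [hR]
      exact Subgroup.map_comap_eq_self_of_surjective hπs Qb
    have hRK' : R = K := by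
      rcases hLPM R hUR hRK hPR with h | h
      · exfalso
        apply hQbne
        rw [← hRmap, h, hUmap]
      · exact h
    have hQK : Qb = Kb := by rw [← hRmap, hRK', hKb]
    have hKbq : IsPGroup q Kb := by
      rw [← hQK]
      exact IsPGroup.of_card hQbcard
    have hKbne : Kb ≠ ⊥ := hQK ▸ hQbne
    have hcomm : ⁅Kb, Kb⁆ ≠ Kb := S0072.commutator_ne_self_of_isPGroup Kb hKbq hKbne
    obtain ⟨R₂, hR₂⟩ : ∃ R₂ : Subgroup G, R₂ = ⁅K, K⁆ ⊔ U := ⟨_, rfl⟩
    have hR₂n : R₂.Normal := by rw [hR₂]; infer_instance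
    haveI := hR₂n
    have hR₂K : R₂ ≤ K := by
      rw [hR₂]
      exact sup_le (Subgroup.commutator_le_right K K) hUK
    have hR₂map : R₂.map (QuotientGroup.mk' U) = ⁅Kb, Kb⁆ := by
      rw [hR₂, Subgroup.map_sup, hUmap, sup_bot_eq, Subgroup.map_commutator, hKb]
    rcases hLPM R₂ (hR₂ ▸ le_sup_right) hR₂K
      (by rw [Subgroup.normalizer_eq_top]; exact le_top) with h | h
    · rw [← h, hR₂]
      exact le_sup_left
    · exfalso
      apply hcomm
      rw [← hR₂map, h, hKb]
  -- Step 5: W = Ω₁(Z(U))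
  obtain ⟨W, hWdef⟩ : ∃ W : Subgroup G, W = omegaZ p U := ⟨_, rfl⟩
  have hWmem : ∀ z, z ∈ W ↔ z ∈ U ∧ z ∈ Subgroup.centralizer (U : Set G) ∧ z ^ p = 1 := by
    intro z
    rw [hWdef]
    exact mem_omegaZ
  have hWn : W.Normal := by
    rw [hWdef]
    exact omegaZ_normal p U
  haveI := hWn
  have hWU : W ≤ U := fun w hw => ((hWmem w).mp hw).1
  have hUW : ∀ w ∈ W, ∀ u ∈ U, u * w = w * u := fun w hw u hu =>
    Subgroup.mem_centralizer_iff.mp ((hWmem w).mp hw).2.1 u hu
  have hWc : ∀ a ∈ W, ∀ b ∈ W, a * b = b * a := fun a ha b hb => hUW b hb a (hWU ha)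
  have hWp : ∀ w ∈ W, w ^ p = 1 := fun w hw => ((hWmem w).mp hw).2.2
  have hCW : Subgroup.centralizer (W : Set G) ≤ U := by
    obtain ⟨CW, hCWdef⟩ : ∃ CW : Subgroup G, CW = Subgroup.centralizer (W : Set G) := ⟨_, rfl⟩
    rw [← hCWdef]
    have hCWn : CW.Normal := by rw [hCWdef]; infer_instance
    haveI := hCWn
    have hUCW : U ≤ CW := by
      intro u hu
      rw [hCWdef]
      refine Subgroup.mem_centralizer_iff.mpr ?_
      intro w hw
      exact (hUW w hw u hu).symm
    obtain ⟨M, hMdef⟩ : ∃ M : Subgroup G, M = CW ⊓ K := ⟨_, rfl⟩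
    have hMn : M.Normal := by rw [hMdef]; infer_instance
    haveI := hMn
    have hMcases := hLPM M (hMdef ▸ le_inf hUCW hUK) (hMdef ▸ inf_le_right)
      (by rw [Subgroup.normalizer_eq_top]; exact le_top)
    have hMU : M = U := by
      rcases hMcases with h | h
      · exact h
      · exfalso
        have hKCW : K ≤ CW := by
          rw [← h, hMdef]
          exact inf_le_left
        have hxcent : ∀ x ∈ K, x ^ (Nat.card U) ∈ (P : Subgroup G) := by
          intro x hx
          obtain ⟨y, hy⟩ : ∃ y, y = x ^ (Nat.card U) := ⟨_, rfl⟩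
          rw [← hy]
          have hyK : y ∈ K := hy ▸ K.pow_mem hx _
          have hym : y ^ m = 1 := by
            rw [hy, ← pow_mul, mul_comm, pow_mul]
            have h0 := hKpow x hx
            have h1 : (⟨x ^ m, h0⟩ : U) ^ Nat.card U = 1 := pow_card_eq_one'
            have h2 := congrArg Subtype.val h1
            rw [Subgroup.coe_pow] at h2
            exact h2
          have hcent := coprime_centralizes_of_omega (p := p)
            (U ⊓ Subgroup.centralizer (U : Set G))
            (fun a ha b hb => Subgroup.mem_centralizer_iff.mp (Subgroup.mem_inf.mp hb).2 a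
              (Subgroup.mem_inf.mp ha).1)
            (fun v hv => by
              obtain ⟨j, hj⟩ := hUp ⟨v, (Subgroup.mem_inf.mp hv).1⟩
              refine ⟨j, ?_⟩
              have h3 := congrArg Subtype.val hj
              rw [Subgroup.coe_pow] at h3
              exact h3)
            y (fun v hv => (inferInstance :
              (U ⊓ Subgroup.centralizer (U : Set G)).Normal).conj_mem v hv y)
            m hmcop hym
            (fun v hv hvp => by
              have hvW : v ∈ W := (hWmem v).mpr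
                ⟨(Subgroup.mem_inf.mp hv).1, (Subgroup.mem_inf.mp hv).2, hvp⟩
              have hyC : y ∈ Subgroup.centralizer (W : Set G) := hCWdef ▸ hKCW hyK
              have h3 := Subgroup.mem_centralizer_iff.mp hyC v hvW
              rw [← h3, mul_inv_cancel_right])
          rw [← hCZP]
          refine Subgroup.mem_centralizer_iff.mpr ?_
          intro z hz
          have hzV : z ∈ U ⊓ Subgroup.centralizer (U : Set G) := by
            have hzCU : z ∈ Subgroup.centralizer (U : Set G) := by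
              refine Subgroup.mem_centralizer_iff.mpr ?_
              intro u hu
              exact Subgroup.mem_centralizer_iff.mp (Subgroup.mem_inf.mp hz).2 u (hUP hu)
            exact Subgroup.mem_inf.mpr ⟨hCU hzCU, hzCU⟩
          have h4 := hcent z hzV
          calc z * y = (y * z * y⁻¹) * y := by rw [h4]
            _ = y * z := by group
        have hKp : IsPGroup p K := by
          intro x
          have h1 : (x : G) ^ Nat.card U ∈ U := by
            have h0 : (x : G) ^ Nat.card U ∈ K ⊓ (P : Subgroup G) :=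
              Subgroup.mem_inf.mpr ⟨K.pow_mem x.2 _, hxcent x x.2⟩
            rw [hKP] at h0
            exact h0
          obtain ⟨i, hi⟩ := IsPGroup.iff_card.mp hUp
          obtain ⟨j, hj⟩ := hUp ⟨_, h1⟩
          refine ⟨i + j, Subtype.ext ?_⟩
          have h3 := congrArg Subtype.val hj
          rw [Subgroup.coe_pow] at h3 ⊢
          rw [pow_add, pow_mul, ← hi]
          exact h3
        exact hKneU (le_antisymm (hU2 K hKn hKp) hUK)
    have hCWp : IsPGroup p CW := by
      intro c
      have h1 : (c : G) ^ (p ^ k) ∈ K := by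
        rw [← hKidx]
        exact Subgroup.pow_index_mem K (c : G)
      have h2 : (c : G) ^ (p ^ k) ∈ U := by
        rw [← hMU, hMdef]
        exact Subgroup.mem_inf.mpr ⟨CW.pow_mem c.2 _, h1⟩
      obtain ⟨j, hj⟩ := hUp ⟨_, h2⟩
      refine ⟨k + j, Subtype.ext ?_⟩
      have h3 := congrArg Subtype.val hj
      rw [Subgroup.coe_pow] at h3 ⊢
      rw [pow_add, pow_mul]
      exact h3
    exact hU2 CW hCWn hCWp
  -- Step 6: a quadratic element outside U
  have hexA₀ : ∃ A₀ ∈ calA p (P : Subgroup G), ¬ A₀ ≤ U := by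
    by_contra h
    push Not at h
    have hJeq : JA p U = JA p (P : Subgroup G) := by
      obtain ⟨A₁, hA₁⟩ := S0653.calA_nonempty p (P : Subgroup G)
      apply le_antisymm
      · exact S0653.JA_mono hUP hA₁ (h A₁ hA₁)
      · apply sSup_le
        intro A hA
        exact le_sSup (S0653.calA_of_le hUP hA (h A hA))
    have h1 : Subgroup.normalizer (JA p (P : Subgroup G) : Set G) = ⊤ := by
      rw [eq_top_iff, ← hJeq]
      calc ⊤ = Subgroup.normalizer (U : Set G) := hUnorm.symm
        _ ≤ _ := normalizer_le_normalizer_JA p U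
    exact hnot (npc_of_eq_top h1 hJ)
  obtain ⟨A₀, hA₀, hA₀U⟩ := hexA₀
  obtain ⟨A, hA, hAU, hWA⟩ := exists_quadratic hp2 (P : Subgroup G) P.isPGroup' U W
    (hWU.trans hUP) hWc hWp hUW A₀ hA₀ hA₀U
  obtain ⟨b, hbA, hbU⟩ := SetLike.not_le_iff_exists.mp hAU
  -- Step 7: b centralizes K/U
  have hbquad : ∀ w ∈ W, b * (b * w * b⁻¹ * w⁻¹) * b⁻¹ = b * w * b⁻¹ * w⁻¹ := by
    intro w hw
    have hAc : ∀ x ∈ A, ∀ y ∈ A, x * y = y * x := fun x hx y hy => by
      haveI := hA.2.1
      exact setLike_mul_comm hx hy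
    have hc : b * w * b⁻¹ * w⁻¹ ∈ A := by
      have h1 : w * b⁻¹ * w⁻¹ ∈ A :=
        (Subgroup.mem_normalizer_iff.mp (hWA hw) b⁻¹).mp (A.inv_mem hbA)
      have : b * w * b⁻¹ * w⁻¹ = b * (w * b⁻¹ * w⁻¹) := by group
      rw [this]
      exact A.mul_mem hbA h1
    rw [hAc b hbA _ hc, mul_inv_cancel_right]
  have hKW : ∀ x ∈ K, ∀ y ∈ K, ∀ w ∈ W,
      (x * y) * w * (x * y)⁻¹ = (y * x) * w * (y * x)⁻¹ := by
    intro x hx y hy w hw
    have hc : (y * x)⁻¹ * (x * y) ∈ U := by
      have h2 := hKab (Subgroup.commutator_mem_commutator (K.inv_mem hx) (K.inv_mem hy))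
      rw [commutatorElement_def, inv_inv, inv_inv] at h2
      have : (y * x)⁻¹ * (x * y) = x⁻¹ * y⁻¹ * x * y := by group
      rw [this]
      exact h2
    have h1 := hUW w hw _ hc
    calc (x * y) * w * (x * y)⁻¹
        = (y * x) * (((y * x)⁻¹ * (x * y)) * w) * (x * y)⁻¹ := by group
      _ = (y * x) * (w * ((y * x)⁻¹ * (x * y))) * (x * y)⁻¹ := by rw [h1]
      _ = (y * x) * w * (y * x)⁻¹ := by group
  have hKmW : ∀ x ∈ K, ∀ w ∈ W, x ^ m * w * (x ^ m)⁻¹ = w := by
    intro x hx w hw
    rw [hUW w hw _ (hKpow x hx), mul_inv_cancel_right]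
  have hQ := quadratic_centralizes hp2 W hWc hWp b hbquad K
    (fun x hx => hKn.conj_mem x hx b) hKW m hmcop hKmW
  have hbK : ∀ x ∈ K, x⁻¹ * b * x * b⁻¹ ∈ U := by
    intro x hx
    apply hCW
    refine Subgroup.mem_centralizer_iff.mpr ?_
    intro w hw
    have h1 := hQ x hx w hw
    calc w * (x⁻¹ * b * x * b⁻¹)
        = ((x⁻¹ * b * x * b⁻¹) * w * (x⁻¹ * b * x * b⁻¹)⁻¹) * (x⁻¹ * b * x * b⁻¹) := by rw [h1]
      _ = (x⁻¹ * b * x * b⁻¹) * w := by group
  obtain ⟨Cb, hCb⟩ : ∃ Cb : Subgroup G, Cb = (Subgroup.centralizer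
      ((K.map (QuotientGroup.mk' U) : Subgroup (G ⧸ U)) : Set (G ⧸ U))).comap
      (QuotientGroup.mk' U) := ⟨_, rfl⟩
  have hCbn : Cb.Normal := by
    haveI : (K.map (QuotientGroup.mk' U)).Normal := hKn.map _ hπs
    rw [hCb]
    infer_instance
  have hCbmem : ∀ x, x ∈ Cb ↔ ∀ y ∈ K, y⁻¹ * x * y * x⁻¹ ∈ U := by
    intro x
    rw [hCb, Subgroup.mem_comap, Subgroup.mem_centralizer_iff]
    constructor
    · intro h y hy
      have h1 := h _ (Subgroup.mem_map_of_mem (QuotientGroup.mk' U) hy)
      have h2 := (comm_iff' (QuotientGroup.mk' U y) (QuotientGroup.mk' U x)).mpr h1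
      rw [← QuotientGroup.eq_one_iff]
      show QuotientGroup.mk' U (y⁻¹ * x * y * x⁻¹) = 1
      rw [map_mul, map_mul, map_mul, map_inv, map_inv]
      exact h2
    · rintro h _ ⟨y, hy, rfl⟩
      have h1 : QuotientGroup.mk' U (y⁻¹ * x * y * x⁻¹) = 1 :=
        (QuotientGroup.eq_one_iff _).mpr (h y hy)
      rw [map_mul, map_mul, map_mul, map_inv, map_inv] at h1
      exact (comm_iff' _ _).mp h1
  obtain ⟨D, hD⟩ : ∃ D : Subgroup G, D = (P : Subgroup G) ⊓ Cb := ⟨_, rfl⟩
  have hDn : D.Normal := by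
    apply S0045.normal_of_sup_top D (P : Subgroup G) K hPK
    · intro a ha x hx
      rw [hD] at hx ⊢
      obtain ⟨hx1, hx2⟩ := Subgroup.mem_inf.mp hx
      exact Subgroup.mem_inf.mpr ⟨(P : Subgroup G).mul_mem ((P : Subgroup G).mul_mem ha hx1)
        ((P : Subgroup G).inv_mem ha), hCbn.conj_mem x hx2 a⟩
    · intro y hy x hx
      rw [hD] at hx ⊢
      obtain ⟨hx1, hx2⟩ := Subgroup.mem_inf.mp hx
      refine Subgroup.mem_inf.mpr ⟨?_, hCbn.conj_mem x hx2 y⟩
      have h1 := (hCbmem x).mp hx2 y⁻¹ (K.inv_mem hy)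
      rw [inv_inv] at h1
      have : y * x * y⁻¹ = (y * x * y⁻¹ * x⁻¹) * x := by group
      rw [this]
      exact (P : Subgroup G).mul_mem (hUP h1) hx1
  have hDU : D ≤ U := hU2 D hDn (P.isPGroup'.to_le (hD ▸ inf_le_left))
  have hbD : b ∈ D := by
    rw [hD]
    exact Subgroup.mem_inf.mpr ⟨hA.1 hbA, (hCbmem b).mpr hbK⟩
  exact hbU (hDU hbD)

end Cfsg.Agent.Lead.Th
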