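import Mathlib

set_option autoImplicit false

namespace Cfsg.Agent.Lead

/-- `N/C` theorem in index form: `|N_G(P) : C_G(P)|` divides `|Aut P|`. -/
theorem relIndex_centralizer_dvd_card_mulAut {G : Type*} [Group G] [Finite G] (P : Subgroup G) :
    (Subgroup.centralizer (P : Set G)).relIndex (Subgroup.normalizer (P : Set G)) ∣
      Nat.card (MulAut P) := by
  have key := Subgroup.card_dvd_of_injective _
    (QuotientGroup.kerLift_injective P.normalizerMonoidHom)
  rw [Subgroup.normalizerMonoidHom_ker, ← Subgroup.index, ← Subgroup.relIndex] at key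
  exact key

theorem normalizer_le_centralizer_of_coprime {G : Type*} [Group G] [Finite G] (P : Subgroup G)
    (h : (Nat.card (Subgroup.normalizer (P : Set G))).Coprime (Nat.card (MulAut P))) :
    Subgroup.normalizer (P : Set G) ≤ Subgroup.centralizer (P : Set G) := by
  apply Subgroup.relIndex_eq_one.mp
  exact Nat.eq_one_of_dvd_coprimes h (Subgroup.relIndex_dvd_card _ _)
    (relIndex_centralizer_dvd_card_mulAut P)

theorem card_mulAut_of_prime_card {P : Type*} [Group P] [Finite P] {p : ℕ} [Fact p.Prime]
    (h : Nat.card P = p) : Nat.card (MulAut P) = p - 1 := by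
  haveI := isCyclic_of_prime_card h
  rw [IsCyclic.card_mulAut, h, Nat.totient_prime Fact.out]

/-- Burnside's transfer theorem in a simple group: a Sylow subgroup central in its normaliser is
trivial or the whole group. -/
theorem simple_sylow_card {G : Type*} [Group G] [Finite G] [IsSimpleGroup G] {p : ℕ}
    [Fact p.Prime] (P : Sylow p G)
    (hNC : Subgroup.normalizer ((P : Subgroup G) : Set G) ≤ Subgroup.centralizer (P : Set G)) :
    Nat.card P = 1 ∨ Nat.card P = Nat.card G := by
  have hc := MonoidHom.ker_transferSylow_isComplement' P hNC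
  have h1 := hc.card_mul_card
  rcases IsSimpleGroup.eq_bot_or_eq_top_of_normal _
    (MonoidHom.normal_ker (MonoidHom.transferSylow P hNC)) with h | h
  · right
    rw [h, Subgroup.card_bot, one_mul] at h1
    exact h1
  · left
    rw [h, Subgroup.card_top] at h1
    exact Nat.eq_of_mul_eq_mul_left (Nat.card_pos (α := G)) (by rw [h1, mul_one])

/-- In a simple group a Sylow subgroup that is neither trivial nor everything is not unique. -/
theorem simple_card_sylow_ne_one {G : Type*} [Group G] [Finite G] [IsSimpleGroup G] {p : ℕ}
    [Fact p.Prime] (P : Sylow p G) (h1 : Nat.card P ≠ 1) (h2 : Nat.card P ≠ Nat.card G) :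
    Nat.card (Sylow p G) ≠ 1 := by
  intro h
  haveI : Subsingleton (Sylow p G) := (Nat.card_eq_one_iff_unique.mp h).1
  have hn := Sylow.normal_of_subsingleton P
  rcases IsSimpleGroup.eq_bot_or_eq_top_of_normal _ hn with h' | h'
  · apply h1
    have : Nat.card (P : Subgroup G) = 1 := by rw [h', Subgroup.card_bot]
    exact this
  · apply h2
    have : Nat.card (P : Subgroup G) = Nat.card G := by rw [h', Subgroup.card_top]
    exact this

/-- order of the normaliser of a Sylow subgroup from the number of Sylow subgroups. -/
theorem card_normalizer_mul_card_sylow {G : Type*} [Group G] [Finite G] {p : ℕ} [Fact p.Prime]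
    (P : Sylow p G) :
    Nat.card (Subgroup.normalizer ((P : Subgroup G) : Set G)) * Nat.card (Sylow p G) =
      Nat.card G := by
  rw [P.card_eq_index_normalizer]
  exact Subgroup.card_mul_index _

end Cfsg.Agent.Lead

namespace Cfsg.Agent.Lead

/-- `|Aut T|` divides `(|T| - 1)!`: automorphisms permute the non-identity elements faithfully. -/
theorem card_mulAut_dvd_factorial (T : Type*) [Group T] [Finite T] :
    Nat.card (MulAut T) ∣ (Nat.card T - 1).factorial := by
  let φ : MulAut T →* Equiv.Perm (({1}ᶜ : Set T)) :=
    { toFun := fun f =>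
        { toFun := fun x => ⟨f x.1, by
            have hx : x.1 ≠ 1 := x.2
            simpa using hx⟩
          invFun := fun x => ⟨f.symm x.1, by
            have hx : x.1 ≠ 1 := x.2
            simpa using hx⟩
          left_inv := fun x => by simp
          right_inv := fun x => by simp }
      map_one' := by ext x; rfl
      map_mul' := fun f g => by ext x; rfl }
  have hinj : Function.Injective φ := by
    intro f g hfg
    ext x
    by_cases hx : x = 1
    · rw [hx, map_one, map_one]
    · have := congrArg (fun σ : Equiv.Perm (({1}ᶜ : Set T)) => (σ ⟨x, hx⟩ : T)) hfg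
      exact this
  have h1 := Subgroup.card_dvd_of_injective φ hinj
  rw [Nat.card_perm, Nat.card_coe_set_eq] at h1
  have h2 := Set.ncard_add_ncard_compl ({1} : Set T)
  rw [Set.ncard_singleton] at h2
  have h3 : (({1}ᶜ : Set T)).ncard = Nat.card T - 1 := by omega
  rw [h3] at h1
  exact h1

end Cfsg.Agent.Lead
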