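import Mathlib
import Cfsg.Agent.S0035
import Cfsg.Agent.Lead.Coprime

set_option autoImplicit false
set_option linter.style.haveILetI false

/-!
# Frobenius groups acting on abelian groups: the averaging argument
-/

namespace Cfsg.Agent.Lead.FrobAvg

open Cfsg

/-- conjugation action of a subgroup `F` of the normalizer of `V` on `V` -/
def conjAut {G : Type*} [Group G] (V F : Subgroup G)
    (hFV : F ≤ Subgroup.normalizer (V : Set G)) : F →* MulAut V where
  toFun f :=
    { toFun := fun v => ⟨(f : G) * v * (f : G)⁻¹,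
        (Subgroup.mem_normalizer_iff.mp (hFV f.2) v).mp v.2⟩
      invFun := fun v => ⟨(f : G)⁻¹ * v * (f : G), by
        refine (Subgroup.mem_normalizer_iff.mp (hFV f.2) _).mpr ?_
        have e : (f : G) * ((f : G)⁻¹ * v * (f : G)) * (f : G)⁻¹ = v := by group
        rw [e]
        exact v.2⟩
      left_inv := fun v => Subtype.ext (by
        show (f : G)⁻¹ * ((f : G) * v * (f : G)⁻¹) * (f : G) = v
        group)
      right_inv := fun v => Subtype.ext (by
        show (f : G) * ((f : G)⁻¹ * v * (f : G)) * (f : G)⁻¹ = v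
        group)
      map_mul' := fun v w => Subtype.ext (by
        show (f : G) * ((v : G) * w) * (f : G)⁻¹ = ((f : G) * v * (f : G)⁻¹) * ((f : G) * w * (f : G)⁻¹)
        group) }
  map_one' := by
    ext v
    show ((1 : F) : G) * v * ((1 : F) : G)⁻¹ = v
    simp
  map_mul' f g := by
    ext v
    show ((f * g : F) : G) * v * ((f * g : F) : G)⁻¹ = (f : G) * ((g : G) * v * (g : G)⁻¹) * (f : G)⁻¹
    rw [Subgroup.coe_mul]
    group

theorem conjAut_apply {G : Type*} [Group G] (V F : Subgroup G)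
    (hFV : F ≤ Subgroup.normalizer (V : Set G)) (f : F) (v : V) :
    ((conjAut V F hFV f v : V) : G) = (f : G) * v * (f : G)⁻¹ := rfl

/-- **Frobenius averaging**: if `H` normalizes `K` and acts fixed-point-freely on it, and `K H`
acts on the abelian group `A` such that neither `K` nor `H` has nontrivial fixed points, then
`A` has exponent dividing `|K|`. -/
theorem frob_avg {Γ A : Type*} [Group Γ] [CommGroup A] (ψ : Γ →* MulAut A) (K H : Subgroup Γ)
    [Finite K] [Finite H]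
    (hHK : ∀ h ∈ H, ∀ k ∈ K, h * k * h⁻¹ ∈ K)
    (hfpf : ∀ h ∈ H, h ≠ 1 → ∀ k ∈ K, h * k = k * h → k = 1)
    (hCK : ∀ a : A, (∀ k ∈ K, ψ k a = a) → a = 1)
    (hCH : ∀ a : A, (∀ h ∈ H, ψ h a = a) → a = 1)
    (a : A) : a ^ Nat.card K = 1 := by
  classical
  haveI : Fintype K := Fintype.ofFinite K
  haveI : Fintype H := Fintype.ofFinite H
  -- products over `H` are fixed by `H`, hence trivial
  have hH1 : ∀ x : A, ∏ h : H, ψ (h : Γ) x = 1 := by
    intro x
    apply hCH
    intro h' hh'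
    rw [map_prod]
    have e := Equiv.prod_comp (Equiv.mulLeft (⟨h', hh'⟩ : H)) (fun h : H => ψ (h : Γ) x)
    rw [← e]
    refine Finset.prod_congr rfl (fun h _ => ?_)
    simp only [Equiv.coe_mulLeft, Subgroup.coe_mul, map_mul, MulAut.mul_apply]
  have hK1 : ∀ x : A, ∏ k : K, ψ (k : Γ) x = 1 := by
    intro x
    apply hCK
    intro k' hk'
    rw [map_prod]
    have e := Equiv.prod_comp (Equiv.mulLeft (⟨k', hk'⟩ : K)) (fun k : K => ψ (k : Γ) x)
    rw [← e]
    refine Finset.prod_congr rfl (fun k _ => ?_)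
    simp only [Equiv.coe_mulLeft, Subgroup.coe_mul, map_mul, MulAut.mul_apply]
  have hS : ∏ k : K, ∏ h : H, ψ ((k : Γ) * h * (k : Γ)⁻¹) a = 1 := by
    refine Finset.prod_eq_one (fun k _ => ?_)
    have e : ∏ h : H, ψ ((k : Γ) * h * (k : Γ)⁻¹) a =
        ψ (k : Γ) (∏ h : H, ψ (h : Γ) (ψ (k : Γ)⁻¹ a)) := by
      rw [map_prod]
      refine Finset.prod_congr rfl (fun h _ => ?_)
      simp only [map_mul, MulAut.mul_apply]
    rw [e, hH1, map_one]
  rw [Finset.prod_comm] at hS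
  rw [Fintype.prod_eq_single (1 : H)] at hS
  · simpa [Finset.prod_const, Finset.card_univ, Nat.card_eq_fintype_card] using hS
  · intro h hh1
    have hh1' : (h : Γ) ≠ 1 := fun e => hh1 (Subtype.ext e)
    -- the bijection `k ↦ k h k⁻¹ h⁻¹` of `K`
    have hmem : ∀ k : K, (k : Γ) * h * (k : Γ)⁻¹ * (h : Γ)⁻¹ ∈ K := by
      intro k
      have h1 := hHK h h.2 (k : Γ)⁻¹ (K.inv_mem k.2)
      have h2 := K.mul_mem k.2 h1
      have e : (k : Γ) * ((h : Γ) * (k : Γ)⁻¹ * (h : Γ)⁻¹) = (k : Γ) * h * (k : Γ)⁻¹ * (h : Γ)⁻¹ := by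
        group
      rw [e] at h2
      exact h2
    have hbij : Function.Bijective (fun k : K => (⟨(k : Γ) * h * (k : Γ)⁻¹ * (h : Γ)⁻¹, hmem k⟩ : K)) := by
      refine Finite.injective_iff_bijective.mp ?_
      intro k k' hkk
      have h1 : (k : Γ) * h * (k : Γ)⁻¹ * (h : Γ)⁻¹ = (k' : Γ) * h * (k' : Γ)⁻¹ * (h : Γ)⁻¹ :=
        congrArg Subtype.val hkk
      have h2 : (k : Γ) * h * (k : Γ)⁻¹ = (k' : Γ) * h * (k' : Γ)⁻¹ := mul_right_cancel h1
      have h3 : (h : Γ) * ((k' : Γ)⁻¹ * k) = ((k' : Γ)⁻¹ * k) * h := by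
        have e1 : (h : Γ) * ((k' : Γ)⁻¹ * k) = (k' : Γ)⁻¹ * ((k' : Γ) * h * (k' : Γ)⁻¹) * k := by
          group
        rw [e1, ← h2]
        group
      have h4 := hfpf h h.2 hh1' _ (K.mul_mem (K.inv_mem k'.2) k.2) h3
      exact Subtype.ext (inv_mul_eq_one.mp h4).symm
    have e2 : ∏ k : K, ψ ((k : Γ) * h * (k : Γ)⁻¹) a = ∏ k : K, ψ (k : Γ) (ψ (h : Γ) a) := by
      rw [← Function.Bijective.prod_comp hbij (fun k : K => ψ (k : Γ) (ψ (h : Γ) a))]
      refine Finset.prod_congr rfl (fun k _ => ?_)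
      rw [← MulAut.mul_apply, ← map_mul]
      simp
    rw [e2]
    exact hK1 _

end Cfsg.Agent.Lead.FrobAvg
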