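import Mathlib
import Cfsg.Agent.S0001
import Cfsg.Agent.S0033
import Cfsg.Agent.S0577
import Cfsg.Agent.S0650
import Cfsg.Agent.Helper10.CopGen
import Cfsg.Agent.Lead.Quat
import Cfsg.Agent.Lead.Coprime

set_option autoImplicit false
set_option linter.style.haveILetI false

/-!
# Kegel's theorem on splitting automorphisms of prime order (Hughes--Thompson--Kegel)

If `G` is a proper normal subgroup of the finite group `Γ` and every element of `Γ` outside `G`
has order dividing the prime `p`, then `G` is nilpotent.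
-/

namespace Cfsg.Agent.Lead.Kegel

open Cfsg

universe u

/-- the hypothesis: `G` is a proper normal subgroup of `Γ`, and all elements outside `G` have
order dividing `p` -/
def KP (p : ℕ) {Γ : Type u} [Group Γ] (G : Subgroup Γ) : Prop :=
  G.Normal ∧ G ≠ ⊤ ∧ ∀ y : Γ, y ∉ G → y ^ p = 1

/-- the induction hypothesis -/
def IH (p n : ℕ) : Prop :=
  ∀ m < n, ∀ (Γ : Type u) [Group Γ] [Finite Γ], Nat.card Γ = m → ∀ G : Subgroup Γ, KP p G →
    Group.IsNilpotent G

theorem nil_of_injective {H K : Type*} [Group H] [Group K] (f : H →* K)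
    (hf : Function.Injective f) (hK : Group.IsNilpotent K) : Group.IsNilpotent H := by
  haveI := hK
  exact Subgroup.isNilpotent_of_ker_le_center f
    (by rw [(MonoidHom.ker_eq_bot_iff f).mpr hf]; exact bot_le)

theorem exists_not_mem {p : ℕ} {Γ : Type u} [Group Γ] {G : Subgroup Γ} (hG : KP p G) :
    ∃ y, y ∉ G := by
  by_contra h
  push Not at h
  exact hG.2.1 (eq_top_iff.mpr fun x _ => h x)

/-- subgroups -/
theorem sub_nil {p : ℕ} {Γ : Type u} [Group Γ] [Finite Γ] (ih : IH.{u} p (Nat.card Γ))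
    {G : Subgroup Γ} (hG : KP p G) (U K : Subgroup Γ) (hU : U ≠ ⊤) (hUG : ¬ U ≤ G)
    (hKU : K ≤ U) (hKG : K ≤ G) : Group.IsNilpotent K := by
  haveI := hG.1
  have hcard : Nat.card U < Nat.card Γ := Cfsg.Agent.S0001.card_lt_of_ne_top hU
  have h1 : Group.IsNilpotent (G.subgroupOf U) := by
    refine ih _ hcard U rfl (G.subgroupOf U) ⟨inferInstance, ?_, ?_⟩
    · rw [Ne, Subgroup.subgroupOf_eq_top]
      exact hUG
    · intro y hy
      have h2 : (y : Γ) ∉ G := fun h => hy (Subgroup.mem_subgroupOf.mpr h)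
      have h3 := hG.2.2 _ h2
      apply Subtype.ext
      rw [Subgroup.coe_pow, h3]
      rfl
  let f : K →* (G.subgroupOf U) :=
    { toFun := fun k => ⟨⟨k.1, hKU k.2⟩, Subgroup.mem_subgroupOf.mpr (hKG k.2)⟩
      map_one' := rfl
      map_mul' := fun a b => rfl }
  have hf : Function.Injective f := by
    intro a b hab
    apply Subtype.ext
    have h2 := congrArg (fun x : G.subgroupOf U => ((x : U) : Γ)) hab
    exact h2
  exact nil_of_injective f hf h1

/-- quotients -/
theorem quot_nil {p : ℕ} {Γ : Type u} [Group Γ] [Finite Γ] (ih : IH.{u} p (Nat.card Γ))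
    {G : Subgroup Γ} (hG : KP p G) (N : Subgroup Γ) [N.Normal] (hN : N ≠ ⊥) (hNG : N ≤ G) :
    Group.IsNilpotent (G.map (QuotientGroup.mk' N)) := by
  haveI := hG.1
  have hcard : Nat.card (Γ ⧸ N) < Nat.card Γ := Cfsg.Agent.S0001.card_quotient_lt hN
  refine ih _ hcard (Γ ⧸ N) rfl _ ⟨?_, ?_, ?_⟩
  · exact Subgroup.Normal.map hG.1 _ (QuotientGroup.mk'_surjective N)
  · intro h
    apply hG.2.1
    have h2 := congrArg (Subgroup.comap (QuotientGroup.mk' N)) h
    rw [Subgroup.comap_map_eq, QuotientGroup.ker_mk', Subgroup.comap_top,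
      sup_eq_left.mpr hNG] at h2
    exact h2
  · intro y hy
    obtain ⟨x, rfl⟩ := QuotientGroup.mk'_surjective N y
    have hx : x ∉ G := fun h => hy (Subgroup.mem_map_of_mem _ h)
    rw [← map_pow, hG.2.2 x hx, map_one]

theorem mem_of_subgroupMap_eq_one {Γ : Type*} [Group Γ] (G M : Subgroup Γ) [M.Normal] (x : G)
    (hx : (QuotientGroup.mk' M).subgroupMap G x = 1) : (x : Γ) ∈ M := by
  have h1 := congrArg Subtype.val hx
  have h2 : (QuotientGroup.mk' M) (x : Γ) = 1 := h1
  exact (QuotientGroup.eq_one_iff _).mp h2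

/-- two disjoint normal subgroups -/
theorem nil_of_two {p : ℕ} {Γ : Type u} [Group Γ] [Finite Γ] (ih : IH.{u} p (Nat.card Γ))
    {G : Subgroup Γ} (hG : KP p G) (M₁ M₂ : Subgroup Γ) [M₁.Normal] [M₂.Normal]
    (h₁ : M₁ ≠ ⊥) (h₂ : M₂ ≠ ⊥) (h₁G : M₁ ≤ G) (h₂G : M₂ ≤ G) (hd : M₁ ⊓ M₂ = ⊥) :
    Group.IsNilpotent G := by
  haveI := quot_nil ih hG M₁ h₁ h₁G
  haveI := quot_nil ih hG M₂ h₂ h₂G
  let f : G →* (G.map (QuotientGroup.mk' M₁)) × (G.map (QuotientGroup.mk' M₂)) :=
    ((QuotientGroup.mk' M₁).subgroupMap G).prod ((QuotientGroup.mk' M₂).subgroupMap G)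
  refine nil_of_injective f ?_ inferInstance
  rw [injective_iff_map_eq_one]
  intro x hx
  have hx1 : (QuotientGroup.mk' M₁).subgroupMap G x = 1 := congrArg Prod.fst hx
  have hx2 : (QuotientGroup.mk' M₂).subgroupMap G x = 1 := congrArg Prod.snd hx
  have h3 : (x : Γ) ∈ M₁ ⊓ M₂ :=
    Subgroup.mem_inf.mpr ⟨mem_of_subgroupMap_eq_one G M₁ x hx1, mem_of_subgroupMap_eq_one G M₂ x hx2⟩
  rw [hd] at h3
  exact Subtype.ext (Subgroup.mem_bot.mp h3)

/-- a central normal subgroup -/
theorem nil_of_central {p : ℕ} {Γ : Type u} [Group Γ] [Finite Γ] (ih : IH.{u} p (Nat.card Γ))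
    {G : Subgroup Γ} (hG : KP p G) (M : Subgroup Γ) [M.Normal] (hM : M ≠ ⊥) (hMG : M ≤ G)
    (hc : ∀ m ∈ M, ∀ g ∈ G, g * m = m * g) : Group.IsNilpotent G := by
  haveI := quot_nil ih hG M hM hMG
  refine Subgroup.isNilpotent_of_ker_le_center ((QuotientGroup.mk' M).subgroupMap G) ?_
  intro x hx
  rw [MonoidHom.mem_ker] at hx
  have hx1 : (x : Γ) ∈ M := mem_of_subgroupMap_eq_one G M x hx
  rw [Subgroup.mem_center_iff]
  intro g
  apply Subtype.ext
  exact hc _ hx1 _ g.2

/-- proper subgroups of `G` normalized by some element outside `G` -/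
theorem inv_nil {p : ℕ} (hp : p.Prime) {Γ : Type u} [Group Γ] [Finite Γ]
    (ih : IH.{u} p (Nat.card Γ)) {G : Subgroup Γ} (hG : KP p G) (K : Subgroup Γ) (hKG : K ≤ G)
    (hne : K ≠ G) (y : Γ) (hy : y ∉ G) (hyK : ∀ k ∈ K, y * k * y⁻¹ ∈ K) :
    Group.IsNilpotent K := by
  have hyn : y ∈ Subgroup.normalizer (K : Set Γ) := Cfsg.Agent.S0650.mem_normalizer_of_conj K y hyK
  have hz : Subgroup.zpowers y ≤ Subgroup.normalizer (K : Set Γ) := by
    rw [Subgroup.zpowers_le]
    exact hyn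
  refine sub_nil ih hG (Subgroup.zpowers y ⊔ K) K ?_ ?_ le_sup_right hKG
  · intro htop
    have h1 := Cfsg.Agent.Lead.relIndex_sup_of_le_normalizer (Subgroup.zpowers y) K hz
    rw [htop, Subgroup.relIndex_top_right] at h1
    have h2 : K.relIndex (Subgroup.zpowers y) ∣ p := by
      refine (Subgroup.relIndex_dvd_card _ _).trans ?_
      rw [Nat.card_zpowers]
      exact orderOf_dvd_of_pow_eq_one (hG.2.2 y hy)
    rw [← h1] at h2
    have h3 : K.relIndex G * G.index = K.index := Subgroup.relIndex_mul_index hKG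
    have h4 : G.index ≠ 1 := fun h => hG.2.1 (Subgroup.index_eq_one.mp h)
    have h5 : G.index ∣ p := (Dvd.intro_left _ h3).trans h2
    have h6 : G.index = p := ((Nat.dvd_prime hp).mp h5).resolve_left h4
    have h7 : K.relIndex G = 1 := by
      rw [h6] at h3
      have h8 : K.relIndex G * p ∣ 1 * p := by
        rw [h3, one_mul]
        exact h2
      exact Nat.dvd_one.mp (Nat.dvd_of_mul_dvd_mul_right hp.pos h8)
    exact hne (le_antisymm hKG (Subgroup.relIndex_eq_one.mp h7))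
  · intro hle
    exact hy (hle (Subgroup.mem_sup_left (Subgroup.mem_zpowers y)))

/-- Frattini argument -/
theorem frattini_elt {p : ℕ} {Γ : Type u} [Group Γ] [Finite Γ] {G : Subgroup Γ} (hG : KP p G)
    (q : ℕ) [Fact q.Prime] (Q : Sylow q G) :
    ∃ y, y ∈ Subgroup.normalizer ((((Q : Subgroup G).map G.subtype : Subgroup Γ)) : Set Γ) ∧
      y ∉ G := by
  haveI := hG.1
  by_contra h
  push Not at h
  have h1 := Sylow.normalizer_sup_eq_top Q
  apply hG.2.1
  rw [← h1]
  exact (sup_eq_right.mpr (fun y hy => h y hy)).symm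

/-- Lemma C: no nontrivial `l`-subgroup of `G` centralizes a nontrivial normal `r`-subgroup
of `Γ` inside `G`, for primes `l ≠ r`, in a minimal counterexample. -/
theorem lemC {p : ℕ} (hp : p.Prime) {Γ : Type u} [Group Γ] [Finite Γ]
    (ih : IH.{u} p (Nat.card Γ)) {G : Subgroup Γ} (hG : KP p G)
    (hnil : ¬ Group.IsNilpotent G)
    (N : Subgroup Γ) [N.Normal] (hN : N ≠ ⊥) (hNG : N ≤ G) (r : ℕ) [Fact r.Prime]
    (hNr : IsPGroup r N) (l : ℕ) [Fact l.Prime] (hlr : l ≠ r) (Z : Subgroup Γ) (hZG : Z ≤ G)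
    (hZ : IsPGroup l Z) (hZne : Z ≠ ⊥)
    (hZN : Z ≤ Subgroup.centralizer (N : Set Γ)) : False := by
  haveI := hG.1
  by_cases hC : G ≤ Subgroup.centralizer (N : Set Γ)
  · apply hnil
    refine nil_of_central ih hG N hN hNG ?_
    intro m hm g hg
    exact (Subgroup.mem_centralizer_iff.mp (hC hg) m hm).symm
  · obtain ⟨C, hCdef⟩ : ∃ C : Subgroup Γ, C = Subgroup.centralizer (N : Set Γ) ⊓ G := ⟨_, rfl⟩
    haveI hCn : C.Normal := by
      rw [hCdef]
      infer_instance
    have hCG : C ≤ G := hCdef ▸ inf_le_right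
    have hCne : C ≠ G := by
      intro h
      apply hC
      rw [← h, hCdef]
      exact inf_le_left
    obtain ⟨y, hy⟩ := exists_not_mem hG
    haveI hCnil : Group.IsNilpotent C :=
      inv_nil hp ih hG C hCG hCne y hy (fun k hk => hCn.conj_mem k hk y)
    have hZC : Z ≤ C := by
      rw [hCdef]
      exact le_inf hZN hZG
    have hZ' : IsPGroup l (Z.subgroupOf C) := hZ.comap_subtype
    obtain ⟨S, hS⟩ := hZ'.exists_le_sylow
    haveI hSn : (S : Subgroup C).Normal := inferInstance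
    haveI hSc : (S : Subgroup C).Characteristic := Sylow.characteristic_of_normal S hSn
    haveI hMn : ((S : Subgroup C).map C.subtype).Normal :=
      ConjAct.normal_of_characteristic_of_normal
    have hZM : Z ≤ (S : Subgroup C).map C.subtype := by
      intro z hz
      exact ⟨⟨z, hZC hz⟩, hS (Subgroup.mem_subgroupOf.mpr hz), rfl⟩
    have hMne : (S : Subgroup C).map C.subtype ≠ ⊥ := by
      intro h
      apply hZne
      rw [eq_bot_iff, ← h]
      exact hZM
    have hMG : (S : Subgroup C).map C.subtype ≤ G := (Subgroup.map_subtype_le _).trans hCG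
    have hMl : IsPGroup l ((S : Subgroup C).map C.subtype) := S.isPGroup'.map _
    have hd : (S : Subgroup C).map C.subtype ⊓ N = ⊥ :=
      (IsPGroup.disjoint_of_ne l r hlr _ _ hMl hNr).eq_bot
    exact hnil (nil_of_two ih hG _ N hMne hN hMG hNG hd)

/-- Lemma Z -/
theorem lemZ {p : ℕ} [Fact p.Prime] {Γ : Type u} [Group Γ] [Finite Γ] {G : Subgroup Γ}
    (hG : KP p G) (X P : Subgroup Γ) (hXG : X ≤ G) (hX : ¬ p ∣ Nat.card X) (hP : IsPGroup p P)
    (hPX : P ≤ Subgroup.normalizer (X : Set Γ)) (y z : Γ) (hy : y ∈ P) (hyG : y ∉ G)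
    (hz : z ∈ P) (hzG : z ∈ G) (hcomm : y * z = z * y) (hzp : z ^ p = 1) :
    X ≤ Subgroup.centralizer {z} := by
  have hgen := Cfsg.Agent.Helper10.rank_two_generation p P X hP hX hPX y z hy hz hcomm
    (hG.2.2 y hyG) hzp
  have hbot : ∀ i : ℕ, X ⊓ Subgroup.centralizer {y * z ^ i} = ⊥ := by
    intro i
    rw [eq_bot_iff]
    intro v hv
    obtain ⟨hvX, hvc⟩ := Subgroup.mem_inf.mp hv
    have hc : (y * z ^ i) * v = v * (y * z ^ i) := Subgroup.mem_centralizer_iff.mp hvc _ rfl
    have ht : y * z ^ i ∉ G := by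
      intro h
      apply hyG
      have h1 := G.mul_mem h (G.inv_mem (G.pow_mem hzG i))
      simpa using h1
    have htv : y * z ^ i * v ∉ G := by
      intro h
      apply ht
      have h1 := G.mul_mem h (G.inv_mem (hXG hvX))
      simpa using h1
    have h1 := hG.2.2 _ htv
    have h2 := hG.2.2 _ ht
    rw [(show Commute (y * z ^ i) v from hc).mul_pow, h2, one_mul] at h1
    have h3 : orderOf v ∣ p := orderOf_dvd_of_pow_eq_one h1
    have h4 : orderOf v ∣ Nat.card X := by
      have h5 := orderOf_dvd_natCard (⟨v, hvX⟩ : X)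
      rwa [Subgroup.orderOf_mk] at h5
    have h5 : orderOf v = 1 := by
      rcases (Nat.dvd_prime Fact.out).mp h3 with h | h
      · exact h
      · exact absurd (h ▸ h4) hX
    exact Subgroup.mem_bot.mpr (orderOf_eq_one_iff.mp h5)
  have h6 : X ≤ X ⊓ Subgroup.centralizer {z} := by
    refine hgen.trans (sup_le le_rfl (iSup_le fun i => ?_))
    rw [hbot i]
    exact bot_le
  exact h6.trans inf_le_right

end Cfsg.Agent.Lead.Kegel
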