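import Mathlib
import Cfsg.Prelude.Def_Transfer
import Cfsg.Agent.Helper1.NC

set_option autoImplicit false

namespace Cfsg.Agent.S4016P

open Cfsg.Agent.Helper1

/-- A group with a normal `p`-complement has a normal subgroup of order prime to `p`
containing every element of order prime to `p`. -/
theorem lead_npc_data {H : Type*} [Group H] [Finite H] {p : ℕ} [Fact p.Prime]
    (hnpc : Cfsg.HasNormalPComplement p H) :
    ∃ K : Subgroup H, K.Normal ∧ (Nat.card K).Coprime p ∧
      ∀ g : H, (orderOf g).Coprime p → g ∈ K := by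
  have hp : p.Prime := Fact.out
  obtain ⟨P0, K, hK, hc⟩ := hnpc
  have h1 : (P0 : Subgroup H).index = Nat.card K := hc.index_eq_card
  have h2 : K.index = Nat.card P0 := hc.symm.index_eq_card
  have h3 : (Nat.card K).Coprime p := by
    rw [← h1]
    exact ((Nat.Prime.coprime_iff_not_dvd hp).mpr P0.not_dvd_index).symm
  refine ⟨K, hK, h3, ?_⟩
  intro g hg
  obtain ⟨k, hk⟩ := P0.2.exists_card_eq
  have h4 : orderOf (QuotientGroup.mk' K g) ∣ orderOf g := orderOf_map_dvd _ g
  have h5 : orderOf (QuotientGroup.mk' K g) ∣ p ^ k := by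
    rw [← hk, ← h2, Subgroup.index_eq_card]
    exact orderOf_dvd_natCard _
  have h6 : orderOf (QuotientGroup.mk' K g) = 1 := by
    have h7 : (orderOf g).Coprime (p ^ k) := Nat.Coprime.pow_right k hg
    exact Nat.Coprime.eq_one_of_dvd (Nat.Coprime.coprime_dvd_left h4 h7) h5
  rw [orderOf_eq_one_iff] at h6
  exact (QuotientGroup.eq_one_iff g).mp h6

/-- With a normal `p`-complement and an abelian Sylow `p`-subgroup, `N(P) ≤ C(P)`. -/
theorem lead_norm_le_cent_of_npc {H : Type*} [Group H] [Finite H] {p : ℕ} [Fact p.Prime]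
    (hnpc : Cfsg.HasNormalPComplement p H) (P : Sylow p H)
    (hcomm : ∀ a ∈ (P : Subgroup H), ∀ b ∈ (P : Subgroup H), a * b = b * a) :
    Subgroup.normalizer ((P : Subgroup H) : Set H) ≤
      Subgroup.centralizer ((P : Subgroup H) : Set H) := by
  have hp : p.Prime := Fact.out
  obtain ⟨K, hK, hKc, hKe⟩ := lead_npc_data hnpc
  intro n hn
  obtain ⟨z, hz, hzo, c, hc, hzc⟩ := exists_pprime_mul_mem P n hn
  have hzK : z ∈ K := hKe z hzo
  rw [Subgroup.mem_centralizer_iff]
  intro y hy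
  have hy' : y ∈ (P : Subgroup H) := hy
  have h1 : z * y * z⁻¹ ∈ (P : Subgroup H) := (Subgroup.mem_normalizer_iff.mp hz y).mp hy'
  have h2 : z * y * z⁻¹ * y⁻¹ ∈ (P : Subgroup H) := mul_mem h1 (inv_mem hy')
  have h3 : z * y * z⁻¹ * y⁻¹ ∈ K := by
    have h30 : z * y * z⁻¹ * y⁻¹ = z * (y * z⁻¹ * y⁻¹) := by group
    rw [h30]
    exact mul_mem hzK (hK.conj_mem _ (inv_mem hzK) y)
  have h4 : z * y * z⁻¹ * y⁻¹ = 1 := by
    obtain ⟨k, hk⟩ := P.2 ⟨_, h2⟩
    have h5 : (z * y * z⁻¹ * y⁻¹) ^ (p ^ k) = 1 := by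
      have h50 := congrArg Subtype.val hk
      simpa using h50
    have h6 : orderOf (z * y * z⁻¹ * y⁻¹) ∣ p ^ k := orderOf_dvd_of_pow_eq_one h5
    have h7 : orderOf (z * y * z⁻¹ * y⁻¹) ∣ Nat.card K := by
      have h70 := orderOf_dvd_natCard (⟨_, h3⟩ : K)
      rwa [Subgroup.orderOf_mk] at h70
    have h8 : (Nat.card K).Coprime (p ^ k) := Nat.Coprime.pow_right k hKc
    have h9 := Nat.Coprime.eq_one_of_dvd (Nat.Coprime.coprime_dvd_left h7 h8) h6
    exact orderOf_eq_one_iff.mp h9
  have h5 : z * y = y * z := by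
    have h50 : z * y = (z * y * z⁻¹ * y⁻¹) * (y * z) := by group
    rw [h50, h4, one_mul]
  have hn' : n = z * c⁻¹ := by rw [hzc]; group
  have h6 : c⁻¹ * y = y * c⁻¹ := hcomm _ (inv_mem hc) _ hy'
  rw [hn']
  calc y * (z * c⁻¹) = (y * z) * c⁻¹ := by group
    _ = (z * y) * c⁻¹ := by rw [h5]
    _ = z * (y * c⁻¹) := by group
    _ = z * (c⁻¹ * y) := by rw [h6]
    _ = z * c⁻¹ * y := by group

/-- elements of a cyclic Sylow subgroup commute -/
theorem lead_cyc_comm {G : Type*} [Group G] {p : ℕ} (P : Sylow p G) (hcyc : IsCyclic P) :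
    ∀ a ∈ (P : Subgroup G), ∀ b ∈ (P : Subgroup G), a * b = b * a := by
  intro a ha b hb
  obtain ⟨g, hg⟩ := IsCyclic.exists_generator (α := P)
  obtain ⟨i, hi⟩ := Subgroup.mem_zpowers_iff.mp (hg ⟨a, ha⟩)
  obtain ⟨j, hj⟩ := Subgroup.mem_zpowers_iff.mp (hg ⟨b, hb⟩)
  have hi' : (g : G) ^ i = a := by simpa using congrArg Subtype.val hi
  have hj' : (g : G) ^ j = b := by simpa using congrArg Subtype.val hj
  rw [← hi', ← hj', ← zpow_add, ← zpow_add, add_comm]

/-- Piece (4b): in a minimal simple configuration, the centraliser of a nontrivial element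
central in `N(P)` is `N(P)`. -/
theorem cent_le_norm {G : Type*} [Group G] [Finite G] {p : ℕ} [Fact p.Prime] [IsSimpleGroup G]
    (hna : ∃ a b : G, a * b ≠ b * a) (P : Sylow p G) (hcyc : IsCyclic P)
    (hmin : ∀ H : Subgroup G, H ≠ ⊤ → ∀ P1 : Sylow p H,
      Cfsg.HasNormalPComplement p H ∨ (P1 : Subgroup H).Normal)
    (hNC : ¬ Subgroup.normalizer ((P : Subgroup G) : Set G) ≤
      Subgroup.centralizer ((P : Subgroup G) : Set G))
    {x : G} (hx1 : x ≠ 1)
    (hxN : ∀ n ∈ Subgroup.normalizer ((P : Subgroup G) : Set G), n * x = x * n) :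
    Subgroup.centralizer ({x} : Set G) = Subgroup.normalizer ((P : Subgroup G) : Set G) := by
  have hcomm := lead_cyc_comm P hcyc
  have hNH : Subgroup.normalizer ((P : Subgroup G) : Set G) ≤
      Subgroup.centralizer ({x} : Set G) := by
    intro n hn
    rw [Subgroup.mem_centralizer_iff]
    intro h hh
    rw [Set.mem_singleton_iff] at hh
    rw [hh]
    exact (hxN n hn).symm
  have hHtop : Subgroup.centralizer ({x} : Set G) ≠ ⊤ := by
    intro htop
    have hxc : x ∈ Subgroup.center G := by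
      rw [Subgroup.mem_center_iff]
      intro g
      have hg : g ∈ Subgroup.centralizer ({x} : Set G) := by rw [htop]; trivial
      rw [Subgroup.mem_centralizer_iff] at hg
      exact (hg x rfl).symm
    rcases (Subgroup.Normal.eq_bot_or_eq_top
      (inferInstance : (Subgroup.center G).Normal)) with hb | ht
    · rw [hb, Subgroup.mem_bot] at hxc; exact hx1 hxc
    · obtain ⟨a, b, hab'⟩ := hna
      apply hab'
      have ha : a ∈ Subgroup.center G := by rw [ht]; trivial
      rw [Subgroup.mem_center_iff] at ha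
      exact (ha b).symm
  have hPN : (P : Subgroup G) ≤ Subgroup.normalizer ((P : Subgroup G) : Set G) :=
    Subgroup.le_normalizer
  have hPH : (P : Subgroup G) ≤ Subgroup.centralizer ({x} : Set G) := hPN.trans hNH
  rcases hmin _ hHtop (P.subtype hPH) with hnpc | hnorm
  · exfalso
    apply hNC
    have key := lead_norm_le_cent_of_npc hnpc (P.subtype hPH) (by
      intro a ha b hb
      rw [Sylow.coe_subtype, Subgroup.mem_subgroupOf] at ha hb
      exact Subtype.ext (hcomm _ ha _ hb))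
    intro n hn
    have hnH : n ∈ Subgroup.centralizer ({x} : Set G) := hNH hn
    have h1 : (⟨n, hnH⟩ : Subgroup.centralizer ({x} : Set G)) ∈
        Subgroup.normalizer ((P.subtype hPH : Subgroup (Subgroup.centralizer ({x} : Set G))) :
          Set (Subgroup.centralizer ({x} : Set G))) := by
      rw [Subgroup.mem_normalizer_iff]
      intro h
      rw [Sylow.coe_subtype, Subgroup.mem_subgroupOf, Subgroup.mem_subgroupOf]
      exact Subgroup.mem_normalizer_iff.mp hn (h : G)
    have h2 := key h1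
    rw [Subgroup.mem_centralizer_iff] at h2 ⊢
    intro y hy
    have h3 := h2 ⟨y, hPH hy⟩ (by
      show (⟨y, hPH hy⟩ : Subgroup.centralizer ({x} : Set G)) ∈
        (P.subtype hPH : Subgroup (Subgroup.centralizer ({x} : Set G)))
      rw [Sylow.coe_subtype, Subgroup.mem_subgroupOf]; exact hy)
    exact congrArg Subtype.val h3
  · apply le_antisymm _ hNH
    have h4 : ((P : Subgroup G).subgroupOf (Subgroup.centralizer ({x} : Set G))).Normal := by
      rw [← Sylow.coe_subtype]; exact hnorm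
    exact (Subgroup.normal_subgroupOf_iff_le_normalizer hPH).mp h4

/-- The elements of order prime to `p` of the centraliser of an abelian Sylow `p`-subgroup
form a subgroup. -/
theorem lead_exists_pprime_sub {G : Type*} [Group G] [Finite G] {p : ℕ} [Fact p.Prime]
    (P : Sylow p G)
    (hcomm : ∀ a ∈ (P : Subgroup G), ∀ b ∈ (P : Subgroup G), a * b = b * a) :
    ∃ L0 : Subgroup G, ∀ g : G, g ∈ L0 ↔
      (g ∈ Subgroup.centralizer ((P : Subgroup G) : Set G) ∧ (orderOf g).Coprime p) := by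
  have hPC : (P : Subgroup G) ≤ Subgroup.centralizer ((P : Subgroup G) : Set G) := by
    intro a ha
    rw [Subgroup.mem_centralizer_iff]
    intro b hb
    exact hcomm b hb a ha
  have hB : Subgroup.normalizer ((P.subtype hPC :
        Subgroup (Subgroup.centralizer ((P : Subgroup G) : Set G))) :
          Set (Subgroup.centralizer ((P : Subgroup G) : Set G))) ≤
      Subgroup.centralizer ((P.subtype hPC :
        Subgroup (Subgroup.centralizer ((P : Subgroup G) : Set G))) :
          Set (Subgroup.centralizer ((P : Subgroup G) : Set G))) := by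
    intro c _
    rw [Subgroup.mem_centralizer_iff]
    intro y hy
    have hy' : (y : G) ∈ (P : Subgroup G) := by
      have hy2 : y ∈ (P.subtype hPC :
        Subgroup (Subgroup.centralizer ((P : Subgroup G) : Set G))) := hy
      rw [Sylow.coe_subtype, Subgroup.mem_subgroupOf] at hy2
      exact hy2
    exact Subtype.ext ((Subgroup.mem_centralizer_iff.mp c.2) (y : G) hy')
  obtain ⟨K, hK, hKc, hKe⟩ :=
    lead_npc_data (hasNormalPComplement_of_normalizer_le_centralizer (P.subtype hPC) hB)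
  refine ⟨K.map (Subgroup.subtype _), ?_⟩
  intro g
  constructor
  · intro hg
    obtain ⟨k, hk, rfl⟩ := Subgroup.mem_map.mp hg
    refine ⟨k.2, ?_⟩
    have h1 : orderOf k ∣ Nat.card K := by
      have h10 := orderOf_dvd_natCard (⟨k, hk⟩ : K)
      rwa [Subgroup.orderOf_mk] at h10
    have h2 : orderOf ((Subgroup.subtype _) k) = orderOf k :=
      orderOf_injective _ (Subgroup.subtype_injective _) k
    rw [h2]
    exact Nat.Coprime.coprime_dvd_left h1 hKc
  · rintro ⟨hgC, hgo⟩
    refine Subgroup.mem_map.mpr ⟨⟨g, hgC⟩, hKe _ ?_, rfl⟩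
    rw [Subgroup.orderOf_mk]
    exact hgo

/-- Piece (4a): an element of order prime to `p` centralising the cyclic Sylow
`p`-subgroup `P` is central in `N(P)`, when all `p'`-subgroups are abelian. -/
theorem pprime_cent_central {G : Type*} [Group G] [Finite G] {p : ℕ} [Fact p.Prime]
    (P : Sylow p G) (hcyc : IsCyclic P)
    (hab : ∀ H : Subgroup G, ¬ p ∣ Nat.card H → IsMulCommutative H)
    {x : G} (hx : x ∈ Subgroup.centralizer ((P : Subgroup G) : Set G))
    (hxo : (orderOf x).Coprime p) :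
    ∀ n ∈ Subgroup.normalizer ((P : Subgroup G) : Set G), n * x = x * n := by
  have hp : p.Prime := Fact.out
  have hcomm := lead_cyc_comm P hcyc
  have hPC : (P : Subgroup G) ≤ Subgroup.centralizer ((P : Subgroup G) : Set G) := by
    intro a ha
    rw [Subgroup.mem_centralizer_iff]
    intro b hb
    exact hcomm b hb a ha
  obtain ⟨L0, hL0⟩ := lead_exists_pprime_sub P hcomm
  -- `L0` is normalised by `N(P)`
  have hconj : ∀ m ∈ Subgroup.normalizer ((P : Subgroup G) : Set G), ∀ k ∈ L0,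
      m * k * m⁻¹ ∈ L0 := by
    intro m hm k hk
    obtain ⟨hkC, hko⟩ := (hL0 k).mp hk
    refine (hL0 _).mpr ⟨?_, ?_⟩
    · rw [Subgroup.mem_centralizer_iff]
      intro y hy
      have hy' : y ∈ (P : Subgroup G) := hy
      have h1 : m⁻¹ * y * m⁻¹⁻¹ ∈ (P : Subgroup G) :=
        (Subgroup.mem_normalizer_iff.mp (inv_mem hm) y).mp hy'
      have h2 := (Subgroup.mem_centralizer_iff.mp hkC) _ h1
      calc y * (m * k * m⁻¹) = m * ((m⁻¹ * y * m⁻¹⁻¹) * k) * m⁻¹ := by group
        _ = m * (k * (m⁻¹ * y * m⁻¹⁻¹)) * m⁻¹ := by rw [h2]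
        _ = m * k * m⁻¹ * y := by group
    · have h3 : orderOf (MulAut.conj m k) = orderOf k := (MulAut.conj m).orderOf_eq k
      rw [MulAut.conj_apply] at h3
      rw [h3]; exact hko
  intro n hn
  obtain ⟨z, hz, hzo, c, hc, hzc⟩ := exists_pprime_mul_mem P n hn
  have hzi : ∀ i : ℤ, z ^ i ∈ Subgroup.normalizer ((P : Subgroup G) : Set G) :=
    fun i => Subgroup.zpow_mem _ hz i
  -- the subgroup `L0 * ⟨z⟩`
  let T : Subgroup G :=
    { carrier := {g | ∃ k ∈ L0, ∃ i : ℤ, g = k * z ^ i}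
      one_mem' := ⟨1, one_mem _, 0, by simp⟩
      mul_mem' := by
        rintro _ _ ⟨k, hk, i, rfl⟩ ⟨k', hk', j, rfl⟩
        refine ⟨k * (z ^ i * k' * (z ^ i)⁻¹), mul_mem hk (hconj _ (hzi i) _ hk'), i + j, ?_⟩
        rw [zpow_add]; group
      inv_mem' := by
        rintro _ ⟨k, hk, i, rfl⟩
        refine ⟨z ^ (-i) * k⁻¹ * (z ^ (-i))⁻¹, hconj _ (hzi (-i)) _ (inv_mem hk), -i, ?_⟩
        group }
  have hTmem : ∀ g : G, g ∈ T ↔ ∃ k ∈ L0, ∃ i : ℤ, g = k * z ^ i := fun g => Iff.rfl
  have hnd : ¬ p ∣ Nat.card T := by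
    intro hdvd
    obtain ⟨t, ht⟩ := exists_prime_orderOf_dvd_card' p hdvd
    obtain ⟨k, hk, i, hti⟩ := (hTmem _).mp t.2
    have hto : orderOf (t : G) = p := by rw [Subgroup.orderOf_coe]; exact ht
    obtain ⟨hkC, hko⟩ := (hL0 k).mp hk
    have htN : (t : G) ∈ Subgroup.normalizer ((P : Subgroup G) : Set G) := by
      rw [hti]
      exact mul_mem (Subgroup.centralizer_le_normalizer _ hkC) (hzi i)
    have htP : (t : G) ∈ P := by
      apply mem_sylow_of_mem_normalizer_of_pow_eq_one P _ htN 1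
      rw [pow_one, ← hto]; exact pow_orderOf_eq_one _
    have hziC : z ^ i ∈ Subgroup.centralizer ((P : Subgroup G) : Set G) := by
      have h1 : z ^ i = k⁻¹ * (t : G) := by rw [hti]; group
      rw [h1]
      exact mul_mem (inv_mem hkC) (hPC htP)
    have hzio : orderOf (z ^ i) ∣ orderOf z := by
      apply orderOf_dvd_of_pow_eq_one
      rw [← zpow_natCast, ← zpow_mul, mul_comm, zpow_mul, zpow_natCast, pow_orderOf_eq_one,
        one_zpow]
    have hziL : z ^ i ∈ L0 := (hL0 _).mpr ⟨hziC, Nat.Coprime.coprime_dvd_left hzio hzo⟩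
    have htL : (t : G) ∈ L0 := by rw [hti]; exact mul_mem hk hziL
    have h2 := ((hL0 _).mp htL).2
    rw [hto, Nat.coprime_self] at h2
    exact hp.one_lt.ne' h2
  have hTc := hab T hnd
  have hzT : z ∈ T := (hTmem z).mpr ⟨1, one_mem _, 1, by simp⟩
  have hxT : x ∈ T := (hTmem x).mpr ⟨x, (hL0 x).mpr ⟨hx, hxo⟩, 0, by simp⟩
  have hzx : z * x = x * z := by
    have h1 := hTc.is_comm.comm (⟨z, hzT⟩ : T) ⟨x, hxT⟩
    exact congrArg Subtype.val h1
  have hn' : n = z * c⁻¹ := by rw [hzc]; group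
  have hcx : c⁻¹ * x = x * c⁻¹ := (Subgroup.mem_centralizer_iff.mp hx) c⁻¹ (inv_mem hc)
  rw [hn']
  calc z * c⁻¹ * x = z * (c⁻¹ * x) := by group
    _ = z * (x * c⁻¹) := by rw [hcx]
    _ = (z * x) * c⁻¹ := by group
    _ = (x * z) * c⁻¹ := by rw [hzx]
    _ = x * (z * c⁻¹) := by group

end Cfsg.Agent.S4016P
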