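import Mathlib

set_option autoImplicit false

namespace Cfsg.Agent.S4016P

open scoped IsMulCommutative in
/-- Transfer lemma (T): in a nonabelian finite simple group, an element of an abelian Sylow
subgroup `Q` that is central in `N(Q)` is trivial. -/
theorem lead_transfer_T {G : Type*} [Group G] [Finite G] [IsSimpleGroup G]
    (hna : ∃ a b : G, a * b ≠ b * a) :
    ∀ (q : ℕ) [Fact q.Prime] (Q : Sylow q G), IsMulCommutative Q → ∀ y ∈ Q,
      (∀ n ∈ Subgroup.normalizer ((Q : Subgroup G) : Set G), n * y = y * n) → y = 1 := by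
  intro q _ Q hQc y hy hyN
  have hq : q.Prime := Fact.out
  have key : ∀ (k : ℕ) (g₀ : G), g₀⁻¹ * y ^ k * g₀ ∈ (Q : Subgroup G) →
      g₀⁻¹ * y ^ k * g₀ = y ^ k := by
    intro k g₀ h
    obtain ⟨n, hn, h'⟩ := Q.conj_eq_normalizer_conj_of_mem (y ^ k) g₀ (pow_mem hy k) h
    rw [h']
    have h1 : n * y ^ k = y ^ k * n :=
      (Commute.pow_right (show Commute n y from hyN n hn) k).eq
    calc n⁻¹ * y ^ k * n = n⁻¹ * (y ^ k * n) := by group
      _ = n⁻¹ * (n * y ^ k) := by rw [h1]
      _ = y ^ k := by group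
  have htr := MonoidHom.transfer_eq_pow (MonoidHom.id (Q : Subgroup G)) y key
  have hker : (MonoidHom.transfer (MonoidHom.id (Q : Subgroup G))).ker = ⊤ := by
    rcases (MonoidHom.normal_ker
      (MonoidHom.transfer (MonoidHom.id (Q : Subgroup G)))).eq_bot_or_eq_top with hb | ht
    · exfalso
      obtain ⟨a, b, hab'⟩ := hna
      apply hab'
      have hinj : Function.Injective (MonoidHom.transfer (MonoidHom.id (Q : Subgroup G))) :=
        (MonoidHom.ker_eq_bot_iff _).mp hb
      apply hinj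
      rw [map_mul, map_mul, mul_comm]
    · exact ht
  have h1 : MonoidHom.transfer (MonoidHom.id (Q : Subgroup G)) y = 1 := by
    have h0 : y ∈ (MonoidHom.transfer (MonoidHom.id (Q : Subgroup G))).ker := by
      rw [hker]; trivial
    exact h0
  rw [h1] at htr
  have h2 : y ^ (Q : Subgroup G).index = 1 := by
    have h0 := congrArg Subtype.val htr
    simpa using h0.symm
  obtain ⟨k, hk⟩ := Q.2 ⟨y, hy⟩
  have h3 : y ^ q ^ k = 1 := by simpa using congrArg Subtype.val hk
  have h4 : orderOf y ∣ (Q : Subgroup G).index := orderOf_dvd_of_pow_eq_one h2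
  have h5 : orderOf y ∣ q ^ k := orderOf_dvd_of_pow_eq_one h3
  have h6 : ((Q : Subgroup G).index).Coprime (q ^ k) :=
    Nat.Coprime.pow_right k (((Nat.Prime.coprime_iff_not_dvd hq).mpr Q.not_dvd_index).symm)
  have h7 := Nat.Coprime.eq_one_of_dvd (Nat.Coprime.coprime_dvd_left h4 h6) h5
  exact orderOf_eq_one_iff.mp h7

end Cfsg.Agent.S4016P
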