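import Mathlib
import Cfsg.Agent.Lead.Fpf

/-!
# A `3 × 3` group of automorphisms of a `2`-group with three fixed-point-free lines

If `γ`, `δ` are commuting automorphisms of a finite `2`-group with `γ³ = δ³ = 1` such that
`δ`, `γδ` and `γ²δ` are fixed-point-free, then `γ = 1`.
-/

set_option autoImplicit false
set_option linter.style.haveILetI false

namespace Cfsg.Agent.Lead.Fpf33

open scoped IsMulCommutative

universe u

/-- a fixed-point-free automorphism with cube one: `x * φ x * φ (φ x) = 1`. -/
theorem norm_eq_one {P : Type*} [Group P] [Finite P] (φ : P ≃* P)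
    (h3 : ∀ x, φ (φ (φ x)) = x) (hf : ∀ x, φ x = x → x = 1) (x : P) :
    x * φ x * φ (φ x) = 1 := by
  have hinj : Function.Injective (fun g : P => g⁻¹ * φ g) := by
    intro a b hab
    have hab' : a⁻¹ * φ a = b⁻¹ * φ b := hab
    have h1 : φ (b * a⁻¹) = b * a⁻¹ := by
      rw [map_mul, map_inv]
      have h2 : φ b = b * (a⁻¹ * φ a) := by rw [hab']; group
      rw [h2]; group
    have h3' := hf _ h1
    exact (mul_inv_eq_one.mp h3').symm
  obtain ⟨g, hg⟩ := Finite.surjective_of_injective hinj x
  have hg' : x = g⁻¹ * φ g := hg.symm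
  rw [hg']
  simp only [map_mul, map_inv, h3]
  group

theorem main : ∀ (n : ℕ) (P : Type u) [Group P] [Finite P], Nat.card P = n → IsPGroup 2 P →
    ∀ γ δ : P ≃* P, (∀ x, γ (δ x) = δ (γ x)) → (∀ x, γ (γ (γ x)) = x) →
      (∀ x, δ (δ (δ x)) = x) → (∀ x, δ x = x → x = 1) → (∀ x, γ (δ x) = x → x = 1) →
      (∀ x, γ (γ (δ x)) = x → x = 1) → ∀ x, γ x = x := by
  intro n
  induction n using Nat.strong_induction_on with
  | _ n ih =>
    intro P _ _ hn hP γ δ hc hγ3 hδ3 hf1 hf2 hf3
    haveI : Fact (Nat.Prime 2) := ⟨Nat.prime_two⟩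
    -- the three norm identities
    have e1 : ∀ x, x * δ x * δ (δ x) = 1 := norm_eq_one δ hδ3 hf1
    have e2 : ∀ x, x * γ (δ x) * γ (γ (δ (δ x))) = 1 := by
      intro x
      have h := norm_eq_one (δ.trans γ) (by
        intro y
        show γ (δ (γ (δ (γ (δ y))))) = y
        simp only [← hc]
        rw [hδ3, hγ3]) (fun y hy => hf2 y hy) x
      have h' : x * γ (δ x) * γ (δ (γ (δ x))) = 1 := h
      simp only [← hc] at h'
      exact h'
    have e3 : ∀ x, x * γ (γ (δ x)) * γ (δ (δ x)) = 1 := by
      intro x
      have h := norm_eq_one (δ.trans (γ.trans γ)) (by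
        intro y
        show γ (γ (δ (γ (γ (δ (γ (γ (δ y)))))))) = y
        simp only [← hc]
        rw [hδ3, hγ3, hγ3]) (fun y hy => hf3 y hy) x
      have h' : x * γ (γ (δ x)) * γ (γ (δ (γ (γ (δ x))))) = 1 := h
      simp only [← hc] at h'
      rw [hγ3] at h'
      exact h'
    have hmap : ∀ φ : P ≃* P, (Subgroup.center P).map φ.toMonoidHom = Subgroup.center P :=
      fun φ => Subgroup.characteristic_iff_map_eq.1 inferInstance φ
    have hcen : ∀ (φ : P ≃* P) (y : P), y ∈ Subgroup.center P → φ y ∈ Subgroup.center P := by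
      intro φ y hy
      rw [← hmap φ]
      exact Subgroup.mem_map_of_mem _ hy
    have htriv : ∀ w : P, w ^ 3 = 1 → w = 1 := by
      intro w hw
      obtain ⟨k, hk⟩ := hP w
      have hcop : Nat.Coprime 3 (2 ^ k) := Nat.Coprime.pow_right _ (by norm_num)
      have h := pow_gcd_eq_one.2 ⟨hw, hk⟩
      rw [hcop.gcd_eq_one, pow_one] at h
      exact h
    -- `γ` is trivial on the centre
    have hZ : ∀ z ∈ Subgroup.center P, γ z = z := by
      have h4 : ∀ z ∈ Subgroup.center P, γ z * γ (γ z) = z * z := by
        intro z hz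
        have E1 : γ z * γ (δ z) * γ (δ (δ z)) = 1 := by
          have h := e1 (γ z)
          simp only [← hc] at h
          exact h
        have E1' : γ (γ z) * γ (γ (δ z)) * γ (γ (δ (δ z))) = 1 := by
          have h := e1 (γ (γ z))
          simp only [← hc] at h
          exact h
        have E2 := e2 z
        have E3 := e3 z
        have hzu : γ z ∈ Subgroup.center P := hcen γ z hz
        have hzv : γ (γ z) ∈ Subgroup.center P := hcen γ _ hzu
        have hq1 : γ (δ z) ∈ Subgroup.center P := hcen γ _ (hcen δ z hz)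
        have hq2 : γ (δ (δ z)) ∈ Subgroup.center P := hcen γ _ (hcen δ _ (hcen δ z hz))
        have hr1 : γ (γ (δ z)) ∈ Subgroup.center P := hcen γ _ hq1
        have hr2 : γ (γ (δ (δ z))) ∈ Subgroup.center P := hcen γ _ hq2
        obtain ⟨Z, hZdef⟩ : ∃ Z : Additive (Subgroup.center P), Z = Additive.ofMul ⟨z, hz⟩ :=
          ⟨_, rfl⟩
        obtain ⟨U, hUdef⟩ : ∃ U : Additive (Subgroup.center P), U = Additive.ofMul ⟨_, hzu⟩ :=
          ⟨_, rfl⟩
        obtain ⟨V, hVdef⟩ : ∃ V : Additive (Subgroup.center P), V = Additive.ofMul ⟨_, hzv⟩ :=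
          ⟨_, rfl⟩
        obtain ⟨Q1, hQ1def⟩ : ∃ Q1 : Additive (Subgroup.center P),
            Q1 = Additive.ofMul ⟨_, hq1⟩ := ⟨_, rfl⟩
        obtain ⟨Q2, hQ2def⟩ : ∃ Q2 : Additive (Subgroup.center P),
            Q2 = Additive.ofMul ⟨_, hq2⟩ := ⟨_, rfl⟩
        obtain ⟨R1, hR1def⟩ : ∃ R1 : Additive (Subgroup.center P),
            R1 = Additive.ofMul ⟨_, hr1⟩ := ⟨_, rfl⟩
        obtain ⟨R2, hR2def⟩ : ∃ R2 : Additive (Subgroup.center P),
            R2 = Additive.ofMul ⟨_, hr2⟩ := ⟨_, rfl⟩
        have a1 : U + Q1 + Q2 = 0 := by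
          rw [hUdef, hQ1def, hQ2def]
          apply Additive.toMul.injective
          apply Subtype.ext
          exact E1
        have a2 : V + R1 + R2 = 0 := by
          rw [hVdef, hR1def, hR2def]
          apply Additive.toMul.injective
          apply Subtype.ext
          exact E1'
        have a3 : Z + Q1 + R2 = 0 := by
          rw [hZdef, hQ1def, hR2def]
          apply Additive.toMul.injective
          apply Subtype.ext
          exact E2
        have a4 : Z + R1 + Q2 = 0 := by
          rw [hZdef, hR1def, hQ2def]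
          apply Additive.toMul.injective
          apply Subtype.ext
          exact E3
        have hUV : U + V = Z + Z := by
          calc U + V = (U + Q1 + Q2) + (V + R1 + R2) - (Z + Q1 + R2) - (Z + R1 + Q2) + (Z + Z) := by
                abel
            _ = Z + Z := by rw [a1, a2, a3, a4]; abel
        rw [hUdef, hVdef, hZdef] at hUV
        have h5 := congrArg (fun t : Additive (Subgroup.center P) =>
          ((Additive.toMul t : Subgroup.center P) : P)) hUV
        exact h5
      intro z hz
      have hu : γ z ∈ Subgroup.center P := hcen γ z hz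
      have h1 := h4 z hz
      have h2 := h4 (γ z) hu
      rw [hγ3] at h2
      -- `h1 : γ z * γ (γ z) = z * z`, `h2 : γ (γ z) * z = γ z * γ z`
      have hcube : γ z ^ 3 = z ^ 3 := by
        calc γ z ^ 3 = γ z * (γ z * γ z) := by rw [pow_succ, pow_two]; group
          _ = γ z * (γ (γ z) * z) := by rw [h2]
          _ = (γ z * γ (γ z)) * z := by group
          _ = z ^ 3 := by rw [h1]; rw [pow_succ, pow_two]
      have hcomm : Commute z⁻¹ (γ z) := by
        have := Subgroup.mem_center_iff.1 hu z⁻¹
        exact this
      have hw : (z⁻¹ * γ z) ^ 3 = 1 := by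
        rw [hcomm.mul_pow, hcube, inv_pow, inv_mul_cancel]
      have := htriv _ hw
      exact (inv_mul_eq_one.1 this).symm
    intro x
    by_cases hnt : Nontrivial P
    · haveI := hnt
      haveI := hP.center_nontrivial
      have hlt : Nat.card (P ⧸ Subgroup.center P) < n := by
        have h1 := Subgroup.card_mul_index (Subgroup.center P)
        rw [Subgroup.index_eq_card] at h1
        have h2 : 1 < Nat.card (Subgroup.center P) := Finite.one_lt_card
        have h3 : 0 < Nat.card (P ⧸ Subgroup.center P) := Nat.card_pos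
        rw [← hn, ← h1]
        nlinarith
      obtain ⟨γb, hγb⟩ : ∃ γb : P ⧸ Subgroup.center P ≃* P ⧸ Subgroup.center P,
          γb = Fpf.quot γ (Subgroup.center P) (hmap γ) := ⟨_, rfl⟩
      obtain ⟨δb, hδb⟩ : ∃ δb : P ⧸ Subgroup.center P ≃* P ⧸ Subgroup.center P,
          δb = Fpf.quot δ (Subgroup.center P) (hmap δ) := ⟨_, rfl⟩
      have hγm : ∀ g : P, γb (QuotientGroup.mk g) = QuotientGroup.mk (γ g) := by
        intro g; rw [hγb]; rfl
      have hδm : ∀ g : P, δb (QuotientGroup.mk g) = QuotientGroup.mk (δ g) := by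
        intro g; rw [hδb]; rfl
      have hbar := ih _ hlt (P ⧸ Subgroup.center P) rfl (hP.to_quotient _) γb δb
        (by
          intro y
          induction y using QuotientGroup.induction_on with
          | H g => rw [hδm, hγm, hγm, hδm, hc])
        (by
          intro y
          induction y using QuotientGroup.induction_on with
          | H g => rw [hγm, hγm, hγm, hγ3])
        (by
          intro y
          induction y using QuotientGroup.induction_on with
          | H g => rw [hδm, hδm, hδm, hδ3])
        (by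
          intro y hy
          rw [hδb] at hy
          exact Fpf.quot_fpf δ hf1 (Subgroup.center P) (fun w hw => hcen δ w hw) (hmap δ) y hy)
        (by
          intro y hy
          refine Fpf.quot_fpf (δ.trans γ) (fun w hw => hf2 w hw) (Subgroup.center P)
            (fun w hw => hcen (δ.trans γ) w hw) (hmap _) y ?_
          induction y using QuotientGroup.induction_on with
          | H g =>
            rw [hδm, hγm] at hy
            exact hy)
        (by
          intro y hy
          refine Fpf.quot_fpf (δ.trans (γ.trans γ)) (fun w hw => hf3 w hw) (Subgroup.center P)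
            (fun w hw => hcen (δ.trans (γ.trans γ)) w hw) (hmap _) y ?_
          induction y using QuotientGroup.induction_on with
          | H g =>
            rw [hδm, hγm, hγm] at hy
            exact hy)
      have hx := hbar (QuotientGroup.mk x)
      rw [hγm] at hx
      have hz : (γ x)⁻¹ * x ∈ Subgroup.center P := QuotientGroup.eq.1 hx
      obtain ⟨z, hzdef⟩ : ∃ z, z = (γ x)⁻¹ * x := ⟨_, rfl⟩
      rw [← hzdef] at hz
      obtain ⟨y1, hy1⟩ : ∃ y1, y1 = γ x := ⟨_, rfl⟩
      obtain ⟨y2, hy2⟩ : ∃ y2, y2 = γ y1 := ⟨_, rfl⟩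
      have h1 : x = y1 * z := by rw [hzdef, hy1]; group
      have h2 : y1 = y2 * z := by
        have h := congrArg γ h1
        rw [map_mul, hZ z hz, ← hy1, ← hy2] at h
        exact h
      have h3 : y2 = x * z := by
        have h := congrArg γ h2
        rw [map_mul, hZ z hz, hy2, hy1, hγ3, ← hy1, ← hy2] at h
        exact h
      have hz3 : z ^ 3 = 1 := by
        have h : x * 1 = x * z ^ 3 := by
          calc x * 1 = y1 * z := by rw [mul_one]; exact h1
            _ = y2 * z * z := by rw [h2]
            _ = x * z * z * z := by rw [h3]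
            _ = x * z ^ 3 := by rw [pow_succ, pow_two]; group
        exact (mul_left_cancel h).symm
      have hz1 := htriv z hz3
      rw [hz1, mul_one] at h1
      rw [← hy1]
      exact h1.symm
    · rw [not_nontrivial_iff_subsingleton] at hnt
      haveI := hnt
      exact Subsingleton.elim _ _

end Cfsg.Agent.Lead.Fpf33
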