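import Mathlib
import Cfsg.Agent.Helper25.BlockOrth
import Cfsg.Agent.Helper25.CharZ
import Cfsg.Agent.S0165
import Cfsg.Agent.S0138
import Cfsg.Agent.Helper1.Burnside
import Cfsg.Agent.Helper10.Coprime

/-!
# Kazarin's theorem: an element with a conjugacy class of prime power size has a solvable
normal closure (character-theoretic core).
-/

set_option autoImplicit false

namespace Cfsg.Agent.Lead

open Cfsg Cfsg.Agent.Helper25

universe u

/-- A root of unity of order prime to `q` which is congruent to `1` modulo a `q`-modular ideal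
equals `1`. -/
theorem kz_root_eq_one {q : ℕ} {M : Ideal AlgInt} (hM : IsPModular q M) {ζ : ℂ} {N : ℕ}
    (hN : ζ ^ N = 1) (hqN : ¬ q ∣ N) (hζ : MemLocalIdeal M (ζ - 1)) : ζ = 1 := by
  by_contra hne
  have hN0 : N ≠ 0 := fun h => hqN (h ▸ dvd_zero q)
  have hint : IsIntegral ℤ ζ := by
    refine ⟨Polynomial.X ^ N - 1, Polynomial.monic_X_pow_sub_C (1 : ℤ) hN0, ?_⟩
    simp [hN]
  have hsum : ∑ i ∈ Finset.range N, ζ ^ i = 0 := by
    have h := mul_geom_sum ζ N
    rw [hN, sub_self] at h
    exact (mul_eq_zero.mp h).resolve_left (sub_ne_zero.mpr hne)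
  have h2 : ∀ i : ℕ, MemLocalIdeal M (ζ ^ i - 1) := by
    intro i
    rw [← mul_geom_sum ζ i]
    exact li_mul_lr hM hζ (lr_of_isIntegral hM (IsIntegral.sum _ (fun j _ => hint.pow j)))
  have h3 : MemLocalIdeal M ((N : ℕ) : ℂ) := by
    have h4 : ((N : ℕ) : ℂ) = - ∑ i ∈ Finset.range N, (ζ ^ i - 1) := by
      rw [Finset.sum_sub_distrib, hsum]
      simp
    rw [h4]
    exact li_neg (li_sum hM _ _ (fun i _ => h2 i))
  exact hqN ((li_natCast_iff hM N).mp h3)

variable {G : Type u} [Group G]

/-- The character-theoretic core of Kazarin's theorem. -/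
theorem kz_char_aux [Finite G] {p q : ℕ} (hp : p.Prime) (hq : q.Prime) (hpq : p ≠ q)
    (x : G) (b : ℕ) (hx : (Subgroup.centralizer ({x} : Set G)).index = p ^ b)
    (htop : Subgroup.normalClosure ({x} : Set G) = ⊤)
    (hqG : q ∣ Nat.card G) (hqc : ¬ q ∣ (commutator G).index) : False := by
  classical
  obtain ⟨M, hM⟩ := Cfsg.Agent.S0165.exists_modular q hq
  have := Fintype.ofFinite G
  have key : ∀ χ : IrrCharacter G, χ ∈ principalBlock M G →
      ¬ p ∣ charDegree (χ : G → ℂ) → χ = trivChar G := by
    intro χ hχB hdeg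
    obtain ⟨n, ρ, hρ, hχ⟩ := χ.2
    have hn : charDegree (χ : G → ℂ) = n := by
      rw [← hχ]
      exact rep_charDegree ρ
    have hnpos : 0 < n := by
      rw [← hn]
      exact irr_degree_pos χ
    have hnC : (n : ℂ) ≠ 0 := by exact_mod_cast hnpos.ne'
    have hfin : Module.finrank ℂ (Fin n → ℂ) = n := by simp
    haveI := hρ
    have hcop : Nat.Coprime (Module.finrank ℂ (Fin n → ℂ))
        (Subgroup.centralizer ({x} : Set G)).index := by
      rw [hfin, hx]
      exact Nat.Coprime.pow_right _ ((Nat.Prime.coprime_iff_not_dvd hp).mpr (hn ▸ hdeg)).symm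
    have hblock := (mem_principalBlock_iff χ).mp hχB x
    rw [hx] at hblock
    have hχ1 : (χ : G → ℂ) 1 = (n : ℂ) := by
      rw [irr_one_eq_degree, hn]
    have hpb : ¬ MemLocalIdeal M (((p ^ b : ℕ)) : ℂ) := by
      intro h
      have h1 := (li_natCast_iff hM (p ^ b)).mp h
      exact hpq ((Nat.prime_dvd_prime_iff_eq hq hp).mp (hq.dvd_of_dvd_pow h1)).symm
    have hne0 : ρ.character x ≠ 0 := by
      intro h0
      have h1 : centralChar (χ : G → ℂ) x = 0 := by
        unfold centralChar
        rw [← hχ, h0]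
        simp
      rw [h1, sub_zero] at hblock
      exact hpb hblock
    rcases Cfsg.Agent.Helper1.char_eq_zero_or_norm_eq_of_coprime ρ x hcop with h0 | hnorm
    · exact absurd h0 hne0
    obtain ⟨ω, hω⟩ := (Cfsg.Agent.S0138.result ρ x).mp hnorm
    -- the kernel of `ρ`
    let K : Subgroup G :=
      { carrier := {g | ρ g = 1}
        one_mem' := map_one ρ
        mul_mem' := fun {a c} ha hc => by
          show ρ (a * c) = 1
          rw [map_mul, show ρ a = 1 from ha, show ρ c = 1 from hc, mul_one]
        inv_mem' := fun {a} ha => by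
          show ρ a⁻¹ = 1
          have h2 : ρ a⁻¹ * ρ a = 1 := by rw [← map_mul, inv_mul_cancel, map_one]
          rw [show ρ a = 1 from ha, mul_one] at h2
          exact h2 }
    have hKn : K.Normal := ⟨fun a ha g => by
      show ρ (g * a * g⁻¹) = 1
      rw [map_mul, map_mul, show ρ a = 1 from ha, mul_one, ← map_mul, mul_inv_cancel, map_one]⟩
    -- the elements acting centrally
    let Z : Subgroup G :=
      { carrier := {g | ∀ h : G, ρ g * ρ h = ρ h * ρ g}
        one_mem' := fun h => by rw [map_one, one_mul, mul_one]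
        mul_mem' := fun {a c} ha hc h => by
          rw [map_mul, mul_assoc, hc h, ← mul_assoc, ha h, mul_assoc]
        inv_mem' := fun {a} ha h => by
          have h1 : ρ a⁻¹ * ρ a = 1 := by rw [← map_mul, inv_mul_cancel, map_one]
          have h2 : ρ a * ρ a⁻¹ = 1 := by rw [← map_mul, mul_inv_cancel, map_one]
          calc ρ a⁻¹ * ρ h = ρ a⁻¹ * ρ h * (ρ a * ρ a⁻¹) := by rw [h2, mul_one]
            _ = ρ a⁻¹ * (ρ h * ρ a) * ρ a⁻¹ := by simp only [mul_assoc]
            _ = ρ a⁻¹ * (ρ a * ρ h) * ρ a⁻¹ := by rw [ha h]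
            _ = (ρ a⁻¹ * ρ a) * ρ h * ρ a⁻¹ := by simp only [mul_assoc]
            _ = ρ h * ρ a⁻¹ := by rw [h1, one_mul] }
    have hZn : Z.Normal := ⟨fun a ha g h => by
      have h1 : ρ (g * a * g⁻¹) = ρ a := by
        rw [map_mul, map_mul, ← ha g, mul_assoc, ← map_mul, mul_inv_cancel, map_one, mul_one]
      rw [h1]
      exact ha h⟩
    have hxZ : x ∈ Z := fun h => by
      rw [hω]
      ext v
      simp
    have hZtop : Z = ⊤ := by
      apply top_le_iff.mp
      rw [← htop]
      exact Subgroup.normalClosure_le_normal (Set.singleton_subset_iff.mpr hxZ)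
    have hcomm : ∀ g h : G, ρ g * ρ h = ρ h * ρ g := fun g h => by
      have hg : g ∈ Z := by rw [hZtop]; exact Subgroup.mem_top g
      exact hg h
    have hcK : commutator G ≤ K := by
      rw [commutator_def, Subgroup.commutator_le]
      intro g _ h _
      show ρ (g * h * g⁻¹ * h⁻¹) = 1
      calc ρ (g * h * g⁻¹ * h⁻¹) = ρ g * ρ h * ρ g⁻¹ * ρ h⁻¹ := by simp only [map_mul]
        _ = ρ h * ρ g * ρ g⁻¹ * ρ h⁻¹ := by rw [hcomm g h]
        _ = ρ (h * g * g⁻¹ * h⁻¹) := by simp only [map_mul]
        _ = 1 := by simp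
    set N := (commutator G).index with hNdef
    have hxN : x ^ N ∈ K := hcK (Subgroup.pow_index_mem (commutator G) x)
    have hωN : ω ^ N = 1 := by
      have h1 : ρ (x ^ N) = 1 := hxN
      rw [map_pow, hω, smul_pow] at h1
      have h2 := congrArg (fun f : (Fin n → ℂ) →ₗ[ℂ] (Fin n → ℂ) =>
        f (fun _ => 1) ⟨0, hnpos⟩) h1
      simpa using h2
    have hN0 : N ≠ 0 := fun h => hqc (h ▸ dvd_zero q)
    have hωint : IsIntegral ℤ ω := by
      refine ⟨Polynomial.X ^ N - 1, Polynomial.monic_X_pow_sub_C (1 : ℤ) hN0, ?_⟩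
      simp [hωN]
    have hχx : (χ : G → ℂ) x = ω * (n : ℂ) := by
      rw [← hχ]
      show LinearMap.trace ℂ _ (ρ x) = _
      rw [hω, map_smul, LinearMap.trace_id, hfin]
      simp
    have hcc : centralChar (χ : G → ℂ) x = ((p ^ b : ℕ) : ℂ) * ω := by
      unfold centralChar
      rw [hx, hχx, hχ1]
      field_simp
    rw [hcc] at hblock
    have h5 : MemLocalIdeal M (((p ^ b : ℕ) : ℂ) * (1 - ω)) := by
      have : ((p ^ b : ℕ) : ℂ) * (1 - ω) = ((p ^ b : ℕ) : ℂ) - ((p ^ b : ℕ) : ℂ) * ω := by ring
      rw [this]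
      exact hblock
    have h6 : MemLocalIdeal M (1 - ω) := li_of_mul_left hM (lr_natCast hM _) hpb h5
    have h7 : MemLocalIdeal M (ω - 1) := by
      have := li_neg h6
      rwa [neg_sub] at this
    have hω1 : ω = 1 := kz_root_eq_one hM hωN hqc h7
    have hxK : x ∈ K := by
      show ρ x = 1
      rw [hω, hω1, one_smul]
      rfl
    have hKtop : K = ⊤ := by
      apply top_le_iff.mp
      rw [← htop]
      exact Subgroup.normalClosure_le_normal (Set.singleton_subset_iff.mpr hxK)
    apply irr_eq_trivChar_of_ker_eq_top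
    apply top_le_iff.mp
    intro g _
    rw [mem_irrKer]
    have hg : g ∈ K := by rw [hKtop]; exact Subgroup.mem_top g
    have hg1 : ρ g = 1 := hg
    rw [← hχ]
    show LinearMap.trace ℂ _ (ρ g) = LinearMap.trace ℂ _ (ρ 1)
    rw [hg1, map_one ρ]
  -- the block orthogonality relation
  have : Fact q.Prime := ⟨hq⟩
  obtain ⟨y, hy⟩ := exists_prime_orderOf_dvd_card' q hqG
  have h1 : ¬ q ∣ orderOf (1 : G) := by
    rw [orderOf_one]
    exact hq.one_lt.ne' ∘ Nat.dvd_one.mp
  have horth := weak_block_orth hM (isPBlock_principalBlock (M := M) (G := G)) 1 y h1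
    (by rw [hy])
  have htriv : trivChar G ∈ (Set.toFinite (principalBlock M G)).toFinset := by
    rw [Set.Finite.mem_toFinset]
    exact trivChar_mem_principalBlock hM
  rw [← Finset.add_sum_erase _ _ htriv] at horth
  have hterm : ∀ χ ∈ ((Set.toFinite (principalBlock M G)).toFinset).erase (trivChar G),
      ∃ β : ℂ, IsIntegral ℤ β ∧ (χ : G → ℂ) 1 * (χ : G → ℂ) y⁻¹ = (p : ℂ) * β := by
    intro χ hχ
    rw [Finset.mem_erase, Set.Finite.mem_toFinset] at hχ
    have hdvd : p ∣ charDegree (χ : G → ℂ) := by
      by_contra hnd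
      exact hχ.1 (key χ hχ.2 hnd)
    obtain ⟨k, hk⟩ := hdvd
    refine ⟨(k : ℂ) * (χ : G → ℂ) y⁻¹, isIntegral_algebraMap.mul (irr_isIntegral χ y⁻¹), ?_⟩
    rw [irr_one_eq_degree, hk]
    push_cast
    ring
  choose! β hβ using hterm
  have hsum : ∑ χ ∈ ((Set.toFinite (principalBlock M G)).toFinset).erase (trivChar G),
      (χ : G → ℂ) 1 * (χ : G → ℂ) y⁻¹ =
      (p : ℂ) * ∑ χ ∈ ((Set.toFinite (principalBlock M G)).toFinset).erase (trivChar G), β χ := by
    rw [Finset.mul_sum]
    exact Finset.sum_congr rfl (fun χ hχ => (hβ χ hχ).2)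
  rw [hsum] at horth
  have hint : IsIntegral ℤ
      (∑ χ ∈ ((Set.toFinite (principalBlock M G)).toFinset).erase (trivChar G), β χ) :=
    IsIntegral.sum _ (fun χ hχ => (hβ χ hχ).1)
  set B := ∑ χ ∈ ((Set.toFinite (principalBlock M G)).toFinset).erase (trivChar G), β χ with hB
  have hpC : (p : ℂ) ≠ 0 := by exact_mod_cast hp.ne_zero
  have h8 : ((1 : ℕ) : ℂ) / ((p : ℕ) : ℂ) = -B := by
    simp only [trivChar_apply, one_mul] at horth
    field_simp
    push_cast
    linear_combination horth
  have h9 : IsIntegral ℤ (((1 : ℕ) : ℂ) / ((p : ℕ) : ℂ)) := by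
    rw [h8]
    exact hint.neg
  have h10 := Cfsg.Agent.Helper1.dvd_of_isIntegral_div 1 p hp.ne_zero h9
  exact hp.one_lt.ne' (Nat.dvd_one.mp h10)

/-! ### The group-theoretic reduction -/

/-- For a normal subgroup `K`, the index of `C ∩ K` in `K` divides the index of `C`. -/
theorem kz_relIndex_dvd {G : Type*} [Group G] [Finite G] (C K : Subgroup G) [K.Normal] :
    C.relIndex K ∣ C.index := by
  have h1 : C.relIndex (C ⊔ K) ∣ C.index := Subgroup.relIndex_dvd_index_of_le le_sup_left
  have h2 : (C ⊓ K).relIndex C * C.relIndex (C ⊔ K) = (C ⊓ K).relIndex (C ⊔ K) :=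
    Subgroup.relIndex_mul_relIndex _ _ _ inf_le_left le_sup_left
  have h3 : (C ⊓ K).relIndex K * K.relIndex (C ⊔ K) = (C ⊓ K).relIndex (C ⊔ K) :=
    Subgroup.relIndex_mul_relIndex _ _ _ inf_le_right le_sup_right
  rw [Subgroup.inf_relIndex_left] at h2
  rw [Subgroup.inf_relIndex_right, Subgroup.relIndex_sup_right] at h3
  have h4 : K.relIndex C ≠ 0 := Subgroup.index_ne_zero_of_finite (H := K.subgroupOf C)
  have h5 : C.relIndex (C ⊔ K) = C.relIndex K := by
    have h6 : K.relIndex C * C.relIndex (C ⊔ K) = K.relIndex C * C.relIndex K := by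
      rw [h2, ← h3, mul_comm]
    exact Nat.eq_of_mul_eq_mul_left (Nat.pos_of_ne_zero h4) h6
  rw [← h5]
  exact h1

theorem kz_index_centralizer_subgroup {G : Type*} [Group G] [Finite G] (K : Subgroup G)
    [K.Normal] (w : K) :
    (Subgroup.centralizer ({w} : Set K)).index ∣
      (Subgroup.centralizer ({(w : G)} : Set G)).index := by
  have h : Subgroup.centralizer ({w} : Set K) =
      (Subgroup.centralizer ({(w : G)} : Set G)).subgroupOf K := by
    ext k
    rw [Subgroup.mem_subgroupOf, Subgroup.mem_centralizer_iff, Subgroup.mem_centralizer_iff]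
    simp only [Set.mem_singleton_iff, forall_eq]
    constructor
    · intro h
      exact congrArg Subtype.val h
    · intro h
      exact Subtype.ext h
  rw [h]
  exact kz_relIndex_dvd _ K

theorem kz_index_centralizer_quot {G : Type*} [Group G] [Finite G] (A : Subgroup G) [A.Normal]
    (x : G) :
    (Subgroup.centralizer ({(x : G ⧸ A)} : Set (G ⧸ A))).index ∣
      (Subgroup.centralizer ({x} : Set G)).index := by
  have h1 : Subgroup.centralizer ({x} : Set G) ≤
      (Subgroup.centralizer ({(x : G ⧸ A)} : Set (G ⧸ A))).comap (QuotientGroup.mk' A) := by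
    intro g hg
    rw [Subgroup.mem_comap, Subgroup.mem_centralizer_iff]
    intro h hh
    rw [Set.mem_singleton_iff] at hh
    subst hh
    have h2 : x * g = g * x := Subgroup.mem_centralizer_iff.mp hg x rfl
    show (x : G ⧸ A) * (g : G ⧸ A) = (g : G ⧸ A) * (x : G ⧸ A)
    rw [← QuotientGroup.mk_mul, h2, QuotientGroup.mk_mul]
  have h2 := Subgroup.index_dvd_of_le h1
  rwa [Subgroup.index_comap_of_surjective _ (QuotientGroup.mk'_surjective A)] at h2

theorem kz_index_centralizer_pow {G : Type*} [Group G] (x : G) (m : ℕ) :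
    (Subgroup.centralizer ({x ^ m} : Set G)).index ∣
      (Subgroup.centralizer ({x} : Set G)).index := by
  apply Subgroup.index_dvd_of_le
  intro g hg
  rw [Subgroup.mem_centralizer_iff] at hg ⊢
  intro h hh
  rw [Set.mem_singleton_iff] at hh
  subst hh
  have h1 : Commute x g := hg x rfl
  exact (h1.pow_left m).eq

/-- The solvable radical: a characteristic solvable subgroup containing every solvable normal
subgroup. -/
theorem kz_exists_radical (H : Type*) [Group H] [Finite H] :
    ∃ R : Subgroup H, R.Characteristic ∧ Group.IsSolvable R ∧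
      ∀ A : Subgroup H, A.Normal → Group.IsSolvable A → A ≤ R := by
  classical
  have hfin : {R : Subgroup H | R.Normal ∧ Group.IsSolvable R}.Finite := Set.toFinite _
  obtain ⟨R, hR⟩ := hfin.exists_maximal ⟨⊥, Subgroup.normal_bot, inferInstance⟩
  have hRn : R.Normal := hR.1.1
  have hRs : Group.IsSolvable R := hR.1.2
  have hmax : ∀ A : Subgroup H, A.Normal → Group.IsSolvable A → A ≤ R := by
    intro A hAn hAs
    have h1 : Group.IsSolvable (R ⊔ A : Subgroup H) :=
      Cfsg.Agent.Helper10.solvable_sup_of_le_normalizer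
        (by rw [Subgroup.normalizer_eq_top]; exact le_top) hRs hAs
    have h2 : (R ⊔ A).Normal := inferInstance
    have h3 : R ⊔ A ≤ R := hR.2 ⟨h2, h1⟩ le_sup_left
    exact le_sup_right.trans h3
  refine ⟨R, ?_, hRs, hmax⟩
  rw [Subgroup.characteristic_iff_map_le]
  intro φ
  apply hmax
  · exact hRn.map φ.toMonoidHom φ.surjective
  · exact Group.isSolvable_of_surjective (f := φ.toMonoidHom.subgroupMap R)
      (MonoidHom.subgroupMap_surjective _ _)

theorem kz_descent {G : Type u} [Group G] [Finite G] (p : ℕ) (hp : p.Prime)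
    (ih : ∀ (H : Type u) [Group H] [Finite H], Nat.card H < Nat.card G → ∀ (x : H) (b : ℕ),
      (Subgroup.centralizer ({x} : Set H)).index = p ^ b →
      ∃ R : Subgroup H, R.Normal ∧ Group.IsSolvable R ∧ x ∈ R)
    (hns : ∀ A : Subgroup G, A.Normal → Group.IsSolvable A → A = ⊥)
    (K : Subgroup G) [K.Normal] (hK : K ≠ ⊤) (w : G) (hw : w ∈ K) (b : ℕ)
    (hb : (Subgroup.centralizer ({w} : Set G)).index = p ^ b) : w = 1 := by
  have hcard : Nat.card K < Nat.card G := by
    have h1 : Nat.card K ≤ Nat.card G := Subgroup.card_le_card_group K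
    have h2 : Nat.card K ≠ Nat.card G := fun h => hK (Subgroup.eq_top_of_card_eq K h)
    omega
  have hdvd := kz_index_centralizer_subgroup K ⟨w, hw⟩
  rw [show ((⟨w, hw⟩ : K) : G) = w from rfl, hb] at hdvd
  obtain ⟨m, -, hm⟩ := (Nat.dvd_prime_pow hp).mp hdvd
  obtain ⟨R', hR'n, hR's, hwR'⟩ := ih K hcard ⟨w, hw⟩ m hm
  obtain ⟨R, hRc, hRs, hRmax⟩ := kz_exists_radical K
  have hRG : (R.map K.subtype).Normal := ConjAct.normal_of_characteristic_of_normal
  have hRGs : Group.IsSolvable (R.map K.subtype) :=
    Group.isSolvable_of_surjective (f := K.subtype.subgroupMap R) (MonoidHom.subgroupMap_surjective _ _)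
  have h1 := hns _ hRG hRGs
  have h2 : R = ⊥ := by
    rw [eq_bot_iff]
    intro r hr
    have h3 : (r : G) ∈ R.map K.subtype := Subgroup.mem_map_of_mem K.subtype hr
    rw [h1, Subgroup.mem_bot] at h3
    rw [Subgroup.mem_bot]
    exact Subtype.ext h3
  have h3 := hRmax R' hR'n hR's hwR'
  rw [h2, Subgroup.mem_bot] at h3
  exact congrArg Subtype.val h3

/-- Kazarin's theorem, in the form: an element whose class has prime power size lies in a
solvable normal subgroup. -/
theorem kz_main (p : ℕ) (hp : p.Prime) : ∀ (n : ℕ) (G : Type u) [Group G] [Finite G],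
    Nat.card G ≤ n → ∀ (x : G) (b : ℕ), (Subgroup.centralizer ({x} : Set G)).index = p ^ b →
    ∃ R : Subgroup G, R.Normal ∧ Group.IsSolvable R ∧ x ∈ R := by
  intro n
  induction n with
  | zero =>
    intro G _ _ hG
    have := Nat.card_pos (α := G)
    omega
  | succ n ih =>
    intro G _ _ hG x b hx
    by_cases hex : ∃ A : Subgroup G, A.Normal ∧ Group.IsSolvable A ∧ A ≠ ⊥
    · obtain ⟨A, hAn, hAs, hAne⟩ := hex
      have hcard : Nat.card (G ⧸ A) ≤ n := by
        have h1 : Nat.card (G ⧸ A) * Nat.card A = Nat.card G := by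
          rw [← Subgroup.index_eq_card, mul_comm]
          exact Subgroup.card_mul_index A
        have h2 : 1 < Nat.card A := (Subgroup.one_lt_card_iff_ne_bot A).mpr hAne
        have h3 : 0 < Nat.card (G ⧸ A) := Nat.card_pos
        nlinarith
      have hdvd := kz_index_centralizer_quot A x
      rw [hx] at hdvd
      obtain ⟨m, -, hm⟩ := (Nat.dvd_prime_pow hp).mp hdvd
      obtain ⟨R, hRn, hRs, hxR⟩ := ih (G ⧸ A) hcard (x : G ⧸ A) m hm
      refine ⟨R.comap (QuotientGroup.mk' A), hRn.comap _, ?_, hxR⟩
      have hAR : A ≤ R.comap (QuotientGroup.mk' A) := by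
        intro a ha
        rw [Subgroup.mem_comap]
        have h1 : (QuotientGroup.mk' A) a = 1 := (QuotientGroup.eq_one_iff a).mpr ha
        rw [h1]
        exact R.one_mem
      exact Group.isSolvable_of_ker_le_range (Subgroup.inclusion hAR)
        ((QuotientGroup.mk' A).subgroupComap R) (by
          intro r hr
          rw [MonoidHom.mem_ker] at hr
          have h1 : (QuotientGroup.mk' A) (r : G) = 1 := congrArg Subtype.val hr
          have h2 : (r : G) ∈ A := (QuotientGroup.eq_one_iff _).mp h1
          exact ⟨⟨r, h2⟩, Subtype.ext rfl⟩)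
    · have hns : ∀ A : Subgroup G, A.Normal → Group.IsSolvable A → A = ⊥ := by
        intro A hAn hAs
        by_contra h
        exact hex ⟨A, hAn, hAs, h⟩
      have ih' : ∀ (H : Type u) [Group H] [Finite H], Nat.card H < Nat.card G →
          ∀ (x : H) (b : ℕ), (Subgroup.centralizer ({x} : Set H)).index = p ^ b →
          ∃ R : Subgroup H, R.Normal ∧ Group.IsSolvable R ∧ x ∈ R :=
        fun H _ _ hH => ih H (by omega)
      suffices hx1 : x = 1 by
        refine ⟨⊥, inferInstance, inferInstance, ?_⟩
        rw [hx1]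
        exact Subgroup.one_mem _
      by_contra hx1
      have htop : Subgroup.normalClosure ({x} : Set G) = ⊤ := by
        by_contra hne
        exact hx1 (kz_descent p hp ih' hns _ hne x
          (Subgroup.subset_normalClosure (Set.mem_singleton x)) b hx)
      have hq1 : ∀ q : ℕ, q.Prime → q ≠ p → q ∣ Nat.card G → x ^ q = 1 := by
        intro q hq hqp hqG
        have hqc : q ∣ (commutator G).index := by
          by_contra hqc
          exact kz_char_aux hp hq (Ne.symm hqp) x b hx htop hqG hqc
        let π : Abelianization G →* Abelianization G := powMonoidHom q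
        let K : Subgroup G := π.range.comap Abelianization.of
        have hKn : K.Normal := Subgroup.Normal.comap inferInstance _
        have hKne : K ≠ ⊤ := by
          intro hK
          have hsurj : Function.Surjective π := by
            intro a
            obtain ⟨g, rfl⟩ := QuotientGroup.mk_surjective a
            have hg : g ∈ K := by rw [hK]; exact Subgroup.mem_top g
            exact hg
          have hinj : Function.Injective π := Finite.injective_iff_surjective.mpr hsurj
          have : Fact q.Prime := ⟨hq⟩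
          have hcardA : q ∣ Nat.card (Abelianization G) := by
            rw [show Nat.card (Abelianization G) = (commutator G).index from
              (Subgroup.index_eq_card _).symm]
            exact hqc
          obtain ⟨a, ha⟩ := exists_prime_orderOf_dvd_card' q hcardA
          have h1 : π a = π 1 := by
            show a ^ q = 1 ^ q
            rw [one_pow, ← ha, pow_orderOf_eq_one]
          have h2 := hinj h1
          rw [h2, orderOf_one] at ha
          exact hq.one_lt.ne' ha.symm
        have hxqK : x ^ q ∈ K := by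
          show Abelianization.of (x ^ q) ∈ π.range
          exact ⟨Abelianization.of x, by
            show (Abelianization.of x) ^ q = _
            rw [map_pow]⟩
        have hdvd := kz_index_centralizer_pow x q
        rw [hx] at hdvd
        obtain ⟨m, -, hm⟩ := (Nat.dvd_prime_pow hp).mp hdvd
        exact kz_descent p hp ih' hns K hKne (x ^ q) hxqK m hm
      have hsolv : Group.IsSolvable G := by
        have hG0 : Nat.card G ≠ 0 := Nat.card_pos.ne'
        by_cases hq : ∃ q : ℕ, q.Prime ∧ q ≠ p ∧ q ∣ Nat.card G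
        · obtain ⟨q, hq, hqp, hqG⟩ := hq
          have hqF : Fact q.Prime := ⟨hq⟩
          have hord : orderOf x = q := orderOf_eq_prime (hq1 q hq hqp hqG) hx1
          have hall : ∀ r : ℕ, r.Prime → r ∣ Nat.card G → r = p ∨ r = q := by
            intro r hr hrG
            by_cases hrp : r = p
            · exact Or.inl hrp
            · right
              have hrF : Fact r.Prime := ⟨hr⟩
              have h1 := orderOf_eq_prime (hq1 r hr hrp hrG) hx1
              rw [← h1, hord]
          have hm0 : ordCompl[p] (Nat.card G) ≠ 0 := (Nat.ordCompl_pos p hG0).ne'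
          have hm : ordCompl[p] (Nat.card G) =
              q ^ (ordCompl[p] (Nat.card G)).primeFactorsList.length := by
            apply Nat.eq_prime_pow_of_unique_prime_dvd hm0
            intro d hd hdm
            have hdG : d ∣ Nat.card G := hdm.trans (Nat.ordCompl_dvd (Nat.card G) p)
            rcases hall d hd hdG with h | h
            · exfalso
              rw [h] at hdm
              exact Nat.not_dvd_ordCompl hp hG0 hdm
            · exact h
          have hcard : Nat.card G = p ^ (Nat.card G).factorization p *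
              q ^ (ordCompl[p] (Nat.card G)).primeFactorsList.length := by
            rw [← hm]
            exact (Nat.ordProj_mul_ordCompl_eq_self (Nat.card G) p).symm
          exact Cfsg.Agent.Helper1.isSolvable_of_card_eq_prime_pow_mul_prime_pow p q _ _ hp hq
            hcard
        · have hcard : Nat.card G = p ^ (Nat.card G).primeFactorsList.length :=
            Nat.eq_prime_pow_of_unique_prime_dvd hG0 (fun {d} hd hdG => by
              by_contra hdp
              exact hq ⟨d, hd, hdp, hdG⟩)
          exact Cfsg.Agent.Helper1.isSolvable_of_card_prime_pow p _ hp hcard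
      have htopbot : (⊤ : Subgroup G) = ⊥ :=
        hns ⊤ inferInstance (Group.isSolvable_of_isSolvable_injective (Subgroup.subtype_injective ⊤))
      have hxtop : x ∈ (⊤ : Subgroup G) := Subgroup.mem_top x
      rw [htopbot, Subgroup.mem_bot] at hxtop
      exact hx1 hxtop

/-- Kazarin's theorem. -/
theorem kazarin {G : Type u} [Group G] [Finite G] (p : ℕ) (hp : p.Prime) (x : G) (b : ℕ)
    (hx : (Subgroup.centralizer ({x} : Set G)).index = p ^ b) :
    ∃ R : Subgroup G, R.Normal ∧ Group.IsSolvable R ∧ x ∈ R :=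
  kz_main p hp (Nat.card G) G le_rfl x b hx

end Cfsg.Agent.Lead
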