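import Mathlib
import Cfsg.Agent.Lead.KegelA

set_option autoImplicit false
set_option linter.style.haveILetI false

/-!
# Kegel's theorem: the averaging lemma
-/

namespace Cfsg.Agent.Lead.Kegel

open Cfsg

universe u

theorem conj_pow_mem {Γ : Type*} [Group Γ] (Q : Subgroup Γ) (y : Γ)
    (hyQ : ∀ u ∈ Q, y * u * y⁻¹ ∈ Q) (k : ℕ) :
    ∀ u ∈ Q, y ^ k * u * (y ^ k)⁻¹ ∈ Q := by
  induction k with
  | zero =>
    intro u hu
    simpa using hu
  | succ k ih =>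
    intro u hu
    have h := hyQ _ (ih u hu)
    have e2 : y ^ (k + 1) * u * (y ^ (k + 1))⁻¹ = y * (y ^ k * u * (y ^ k)⁻¹) * y⁻¹ := by
      rw [pow_succ']
      group
    rw [e2]
    exact h

theorem coset_pow_mem {Γ : Type*} [Group Γ] (Q : Subgroup Γ) (y : Γ)
    (hyQ : ∀ u ∈ Q, y * u * y⁻¹ ∈ Q) (k : ℕ) :
    ∀ u ∈ Q, (u * y) ^ k * (y ^ k)⁻¹ ∈ Q := by
  induction k with
  | zero =>
    intro u _
    simp
  | succ k ih =>
    intro u hu
    have h1 := ih u hu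
    have h2 := conj_pow_mem Q y hyQ k u hu
    have e : ∀ (t u y yk : Γ), (t * (u * y)) * (yk * y)⁻¹ = (t * yk⁻¹) * (yk * u * yk⁻¹) := by
      intros
      group
    rw [pow_succ, pow_succ, e]
    exact Q.mul_mem h1 h2

/-- the averaging lemma, abstractly -/
theorem avg_abstract {Γ V : Type*} [Group Γ] [CommGroup V] (ψ : Γ →* MulAut V) (Q : Subgroup Γ)
    [Finite Q] (p : ℕ) (hp : p.Prime) (y : Γ) (hyQ : ∀ u ∈ Q, y * u * y⁻¹ ∈ Q)
    (h1 : ∀ u ∈ Q, (u * y) ^ p = 1)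
    (h2 : ∀ u ∈ Q, ∀ v : V, ∏ i ∈ Finset.range p, ψ ((u * y) ^ i) v = 1)
    (u' : Γ) (hu' : u' ∈ Q) (v : V) : (ψ u' v) ^ Nat.card Q = v ^ Nat.card Q := by
  classical
  haveI : Fintype Q := Fintype.ofFinite Q
  have hbij : ∀ k, 0 < k → k < p → ∀ g : Q → V,
      ∏ u : Q, g ⟨((u : Γ) * y) ^ k * (y ^ k)⁻¹, coset_pow_mem Q y hyQ k u u.2⟩ =
        ∏ w : Q, g w := by
    intro k hk0 hkp g
    refine Function.Bijective.prod_comp (Finite.injective_iff_bijective.mp ?_) g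
    intro a b hab
    have h3 : ((a : Γ) * y) ^ k = ((b : Γ) * y) ^ k := by
      have h := congrArg Subtype.val hab
      exact mul_right_cancel h
    have hcop : Nat.Coprime k p :=
      ((Nat.Prime.coprime_iff_not_dvd hp).mpr (Nat.not_dvd_of_pos_of_lt hk0 hkp)).symm
    obtain ⟨m, -, hm⟩ := Nat.exists_mul_mod_eq_one_of_coprime hcop hp.one_lt
    have key : ∀ t : Γ, t ^ p = 1 → t = (t ^ k) ^ m := by
      intro t ht
      rw [← pow_mul, pow_eq_pow_mod (k * m) ht, hm, pow_one]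
    have h4 := key _ (h1 a a.2)
    have h5 := key _ (h1 b b.2)
    rw [h3, ← h5] at h4
    exact Subtype.ext (mul_right_cancel h4)
  have hfix : ∀ x : V, ψ u' (∏ w : Q, ψ (w : Γ) x) = ∏ w : Q, ψ (w : Γ) x := by
    intro x
    rw [map_prod]
    have h := Equiv.prod_comp (Equiv.mulLeft (⟨u', hu'⟩ : Q)) (fun w : Q => ψ (w : Γ) x)
    rw [← h]
    refine Finset.prod_congr rfl (fun w _ => ?_)
    simp only [Equiv.coe_mulLeft, Subgroup.coe_mul, map_mul, MulAut.mul_apply]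
  have hdouble : ∏ k ∈ Finset.range p, ∏ u : Q, ψ (((u : Γ) * y) ^ k) v = 1 := by
    rw [Finset.prod_comm]
    exact Finset.prod_eq_one (fun u _ => h2 u u.2 v)
  obtain ⟨p', rfl⟩ : ∃ p', p = p' + 1 := ⟨p - 1, (Nat.succ_pred_eq_of_pos hp.pos).symm⟩
  rw [Finset.prod_range_succ'] at hdouble
  have h0 : ∏ u : Q, ψ (((u : Γ) * y) ^ 0) v = v ^ Nat.card Q := by
    simp [Finset.prod_const, Finset.card_univ, Nat.card_eq_fintype_card]
  rw [h0] at hdouble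
  have hD : ψ u' (∏ k ∈ Finset.range p', ∏ u : Q, ψ (((u : Γ) * y) ^ (k + 1)) v) =
      ∏ k ∈ Finset.range p', ∏ u : Q, ψ (((u : Γ) * y) ^ (k + 1)) v := by
    rw [map_prod]
    refine Finset.prod_congr rfl (fun k hk => ?_)
    have hk' : k + 1 < p' + 1 := by
      have := Finset.mem_range.mp hk
      omega
    have e1 : ∏ u : Q, ψ (((u : Γ) * y) ^ (k + 1)) v =
        ∏ w : Q, ψ (w : Γ) (ψ (y ^ (k + 1)) v) := by
      rw [← hbij (k + 1) (Nat.succ_pos k) hk' (fun w : Q => ψ (w : Γ) (ψ (y ^ (k + 1)) v))]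
      refine Finset.prod_congr rfl (fun u _ => ?_)
      rw [← MulAut.mul_apply, ← map_mul]
      simp
    rw [e1]
    exact hfix _
  have hv : v ^ Nat.card Q =
      (∏ k ∈ Finset.range p', ∏ u : Q, ψ (((u : Γ) * y) ^ (k + 1)) v)⁻¹ :=
    eq_inv_of_mul_eq_one_right hdouble
  rw [← map_pow, hv, map_inv, hD]

/-- the averaging lemma -/
theorem averaging {Γ : Type*} [Group Γ] [Finite Γ] (p : ℕ) (hp : p.Prime) (N Q : Subgroup Γ)
    [hNn : N.Normal] (hab : ∀ a ∈ N, ∀ b ∈ N, a * b = b * a) (hNp : IsPGroup p N)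
    (hQ : (Nat.card Q).Coprime p) (y : Γ) (hyQ : ∀ u ∈ Q, y * u * y⁻¹ ∈ Q)
    (h1 : ∀ u ∈ Q, (u * y) ^ p = 1) (h2 : ∀ u ∈ Q, ∀ v ∈ N, (v * (u * y)) ^ p = 1) :
    Q ≤ Subgroup.centralizer (N : Set Γ) := by
  letI : CommGroup N :=
    { (inferInstance : Group N) with mul_comm := fun a b => Subtype.ext (hab a a.2 b b.2) }
  have S : ∀ (t : Γ) (v : N) (k : ℕ), ((v : Γ) * t) ^ k =
      ((∏ i ∈ Finset.range k, (MulAut.conjNormal (t ^ i) : MulAut N) v : N) : Γ) * t ^ k := by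
    intro t v k
    induction k with
    | zero => simp
    | succ k ih =>
      rw [pow_succ, ih, Finset.prod_range_succ, Subgroup.coe_mul, MulAut.conjNormal_apply,
        pow_succ]
      group
  have hb : ∀ u ∈ Q, ∀ v : N,
      ∏ i ∈ Finset.range p, (MulAut.conjNormal ((u * y) ^ i) : MulAut N) v = 1 := by
    intro u hu v
    have h3 := S (u * y) v p
    rw [h2 u hu v v.2, h1 u hu, mul_one] at h3
    exact Subtype.ext h3.symm
  intro u' hu'
  rw [Subgroup.mem_centralizer_iff]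
  intro n hn
  have h4 := avg_abstract (MulAut.conjNormal : Γ →* MulAut N) Q p hp y hyQ h1 hb u' hu' ⟨n, hn⟩
  have h5 : ((MulAut.conjNormal u' : MulAut N) ⟨n, hn⟩ * (⟨n, hn⟩ : N)⁻¹) ^ Nat.card Q = 1 := by
    rw [mul_pow, h4, inv_pow, mul_inv_cancel]
  obtain ⟨j, hj⟩ := hNp ((MulAut.conjNormal u' : MulAut N) ⟨n, hn⟩ * (⟨n, hn⟩ : N)⁻¹)
  have h6 : (MulAut.conjNormal u' : MulAut N) ⟨n, hn⟩ * (⟨n, hn⟩ : N)⁻¹ = 1 := by
    have hc : Nat.Coprime (Nat.card Q) (p ^ j) := Nat.Coprime.pow_right j hQ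
    have h := pow_gcd_eq_one.mpr ⟨h5, hj⟩
    rw [hc.gcd_eq_one, pow_one] at h
    exact h
  have h7 : (MulAut.conjNormal u' : MulAut N) ⟨n, hn⟩ = ⟨n, hn⟩ := mul_inv_eq_one.mp h6
  have h8 := congrArg Subtype.val h7
  rw [MulAut.conjNormal_apply] at h8
  calc n * u' = (u' * n * u'⁻¹) * u' := by rw [h8]
    _ = u' * n := by group

end Cfsg.Agent.Lead.Kegel
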