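import Mathlib
import Cfsg.Agent.Lead.KegelA
import Cfsg.Agent.Lead.KegelB

set_option autoImplicit false
set_option linter.style.haveILetI false

/-!
# Kegel's theorem: the main argument
-/

namespace Cfsg.Agent.Lead.Kegel

open Cfsg

universe u

/-- case II: a nontrivial normal `r`-subgroup, `r ≠ p` -/
theorem caseII {p : ℕ} (hp : p.Prime) {Γ : Type u} [Group Γ] [Finite Γ]
    (ih : IH.{u} p (Nat.card Γ)) {G : Subgroup Γ} (hG : KP p G)
    (hnil : ¬ Group.IsNilpotent G)
    (N : Subgroup Γ) [N.Normal] (hN : N ≠ ⊥) (hNG : N ≤ G) (r : ℕ) [Fact r.Prime]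
    (hNr : IsPGroup r N) (hrp : r ≠ p) : False := by
  haveI := hG.1
  haveI : Fact p.Prime := ⟨hp⟩
  obtain ⟨P₀⟩ : Nonempty (Sylow p G) := inferInstance
  obtain ⟨y, hyn, hyG⟩ := frattini_elt hG p P₀
  by_cases hbot : (P₀ : Subgroup G) = ⊥
  · have hpG : ¬ p ∣ Nat.card G := fun h => P₀.ne_bot_of_dvd_card h hbot
    apply hnil
    refine Cfsg.Agent.S0033.thompson_pow (MulAut.conjNormal y : G ≃* G) ?_ p hp ?_
    · intro g hg
      have h1 : y * (g : Γ) * y⁻¹ = g := by
        have h := congrArg Subtype.val hg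
        rwa [MulAut.conjNormal_apply] at h
      have hc : y * (g : Γ) = g * y := by
        calc y * (g : Γ) = (y * (g : Γ) * y⁻¹) * y := by group
          _ = g * y := by rw [h1]
      have hyg : y * (g : Γ) ∉ G := fun h => hyG (by simpa using G.mul_mem h (G.inv_mem g.2))
      have h2 := hG.2.2 _ hyg
      rw [(show Commute y (g : Γ) from hc).mul_pow, hG.2.2 y hyG, one_mul] at h2
      have h3 : orderOf g ∣ p := by
        apply orderOf_dvd_of_pow_eq_one
        apply Subtype.ext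
        rw [Subgroup.coe_pow]
        exact h2
      have h4 : orderOf g ∣ Nat.card G := orderOf_dvd_natCard g
      rcases (Nat.dvd_prime hp).mp h3 with h | h
      · exact orderOf_eq_one_iff.mp h
      · exact absurd (h ▸ h4) hpG
    · rw [← map_pow, hG.2.2 y hyG, map_one]
  · obtain ⟨P₀', hP₀'⟩ : ∃ P₀' : Subgroup Γ, P₀' = (P₀ : Subgroup G).map G.subtype := ⟨_, rfl⟩
    rw [← hP₀'] at hyn
    have hP₀'p : IsPGroup p P₀' := hP₀' ▸ P₀.isPGroup'.map _
    have hP₀'G : P₀' ≤ G := hP₀' ▸ Subgroup.map_subtype_le _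
    have hP₀'ne : P₀' ≠ ⊥ := by
      rw [hP₀']
      intro h
      apply hbot
      exact (Subgroup.map_eq_bot_iff_of_injective _ G.subtype_injective).mp h
    have hzy : IsPGroup p (Subgroup.zpowers y) := by
      intro g
      refine ⟨1, ?_⟩
      obtain ⟨j, hj⟩ := Subgroup.mem_zpowers_iff.mp g.2
      apply Subtype.ext
      rw [Subgroup.coe_pow, ← hj, pow_one, ← zpow_natCast, ← zpow_mul, mul_comm, zpow_mul,
        zpow_natCast, hG.2.2 y hyG, one_zpow]
      rfl
    have hzn : Subgroup.zpowers y ≤ Subgroup.normalizer (P₀' : Set Γ) := by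
      rw [Subgroup.zpowers_le]
      exact hyn
    obtain ⟨P, hPdef⟩ : ∃ P : Subgroup Γ, P = P₀' ⊔ Subgroup.zpowers y := ⟨_, rfl⟩
    have hPp : IsPGroup p P := hPdef ▸ IsPGroup.to_sup_of_normal_left' hP₀'p hzy hzn
    have hP₀P : P₀' ≤ P := hPdef ▸ le_sup_left
    have hyP : y ∈ P := hPdef ▸ Subgroup.mem_sup_right (Subgroup.mem_zpowers y)
    have hPn : P ≤ Subgroup.normalizer (P₀' : Set Γ) := by
      rw [hPdef]
      exact sup_le Subgroup.le_normalizer hzn
    haveI : (P₀'.subgroupOf P).Normal := Subgroup.normal_subgroupOf_of_le_normalizer hPn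
    have hne' : P₀'.subgroupOf P ≠ ⊥ := by
      intro h
      apply hP₀'ne
      rw [eq_bot_iff]
      intro x hx
      have h1 : (⟨x, hP₀P hx⟩ : P) ∈ P₀'.subgroupOf P := Subgroup.mem_subgroupOf.mpr hx
      rw [h, Subgroup.mem_bot] at h1
      exact Subgroup.mem_bot.mpr (congrArg Subtype.val h1)
    obtain ⟨b, hb, hb1, hbc⟩ :=
      Cfsg.Agent.Lead.normal_inf_center_ne_bot' p hPp (P₀'.subgroupOf P) hne'
    obtain ⟨M, hM⟩ : ∃ M : Subgroup Γ, M = P₀' ⊓ Subgroup.centralizer (P : Set Γ) := ⟨_, rfl⟩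
    have hbM : (b : Γ) ∈ M := by
      rw [hM]
      refine Subgroup.mem_inf.mpr ⟨Subgroup.mem_subgroupOf.mp hb,
        Subgroup.mem_centralizer_iff.mpr ?_⟩
      intro x hx
      have h1 := Subgroup.mem_center_iff.mp hbc ⟨x, hx⟩
      exact congrArg Subtype.val h1
    have hMp : IsPGroup p M := hP₀'p.to_le (hM ▸ inf_le_left)
    have hMnt : Nontrivial M :=
      ⟨⟨⟨(b : Γ), hbM⟩, 1, fun h => hb1 (Subtype.ext (congrArg (Subtype.val : M → Γ) h))⟩⟩
    have hdvd : p ∣ Nat.card M := by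
      obtain ⟨n, hn0, hn⟩ := hMp.nontrivial_iff_card.mp hMnt
      exact hn.symm ▸ dvd_pow_self _ (ne_of_gt hn0)
    obtain ⟨z, hz⟩ := exists_prime_orderOf_dvd_card' p hdvd
    have hzM : (z : Γ) ∈ P₀' ⊓ Subgroup.centralizer (P : Set Γ) := hM.le z.2
    obtain ⟨hz1, hz2⟩ := Subgroup.mem_inf.mp hzM
    have hzp : (z : Γ) ^ p = 1 := by
      have h1 := pow_orderOf_eq_one z
      rw [hz] at h1
      have h2 := congrArg Subtype.val h1
      rwa [Subgroup.coe_pow] at h2
    have hzne : (z : Γ) ≠ 1 := by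
      intro h
      have h1 : z = 1 := Subtype.ext h
      rw [h1, orderOf_one] at hz
      exact hp.one_lt.ne hz
    have hcomm : y * (z : Γ) = z * y := Subgroup.mem_centralizer_iff.mp hz2 y hyP
    have hX : ¬ p ∣ Nat.card N := by
      intro h
      obtain ⟨n, hn⟩ := IsPGroup.iff_card.mp hNr
      rw [hn] at h
      exact hrp.symm ((Nat.prime_dvd_prime_iff_eq hp Fact.out).mp (hp.dvd_of_dvd_pow h))
    have hcen := lemZ hG N P hNG hX hPp
      (by rw [Subgroup.normalizer_eq_top N]; exact le_top) y z hyP hyG (hP₀P hz1) (hP₀'G hz1)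
      hcomm hzp
    refine lemC hp ih hG hnil N hN hNG r hNr p hrp.symm (Subgroup.zpowers (z : Γ)) ?_ ?_ ?_ ?_
    · rw [Subgroup.zpowers_le]
      exact hP₀'G hz1
    · exact hP₀'p.to_le (by rw [Subgroup.zpowers_le]; exact hz1)
    · intro h
      apply hzne
      have h1 : (z : Γ) ∈ Subgroup.zpowers (z : Γ) := Subgroup.mem_zpowers _
      rw [h] at h1
      exact Subgroup.mem_bot.mp h1
    · rw [Subgroup.zpowers_le, Subgroup.mem_centralizer_iff]
      intro n hn
      exact (Subgroup.mem_centralizer_iff.mp (hcen hn) z rfl).symm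

/-- case III: a nontrivial normal abelian `p`-subgroup -/
theorem caseIII {p : ℕ} (hp : p.Prime) {Γ : Type u} [Group Γ] [Finite Γ]
    (ih : IH.{u} p (Nat.card Γ)) {G : Subgroup Γ} (hG : KP p G)
    (hnil : ¬ Group.IsNilpotent G)
    (N : Subgroup Γ) [N.Normal] (hN : N ≠ ⊥) (hNG : N ≤ G) (hNp : IsPGroup p N)
    (hab : ∀ a ∈ N, ∀ b ∈ N, a * b = b * a) : False := by
  haveI := hG.1
  haveI : Fact p.Prime := ⟨hp⟩
  obtain ⟨q, hq, hqG, hqp⟩ : ∃ q, q.Prime ∧ q ∣ Nat.card G ∧ q ≠ p := by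
    by_contra h
    push Not at h
    apply hnil
    have h1 : Nat.card G = p ^ (Nat.card G).primeFactorsList.length :=
      Nat.eq_prime_pow_of_unique_prime_dvd Nat.card_pos.ne' (fun {d} hd hdvd => h d hd hdvd)
    exact (IsPGroup.of_card h1).isNilpotent
  haveI : Fact q.Prime := ⟨hq⟩
  obtain ⟨Q⟩ : Nonempty (Sylow q G) := inferInstance
  obtain ⟨y, hyn, hyG⟩ := frattini_elt hG q Q
  obtain ⟨Q', hQ'⟩ : ∃ Q' : Subgroup Γ, Q' = (Q : Subgroup G).map G.subtype := ⟨_, rfl⟩
  rw [← hQ'] at hyn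
  have hQ'q : IsPGroup q Q' := hQ' ▸ Q.isPGroup'.map _
  have hQ'G : Q' ≤ G := hQ' ▸ Subgroup.map_subtype_le _
  have hQ'ne : Q' ≠ ⊥ := by
    rw [hQ']
    intro h
    exact Q.ne_bot_of_dvd_card hqG
      ((Subgroup.map_eq_bot_iff_of_injective _ G.subtype_injective).mp h)
  have hcop : (Nat.card Q').Coprime p := by
    obtain ⟨n, hn⟩ := IsPGroup.iff_card.mp hQ'q
    rw [hn]
    exact Nat.Coprime.pow_left n ((Nat.coprime_primes hq hp).mpr hqp)
  have hcen : Q' ≤ Subgroup.centralizer (N : Set Γ) := by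
    refine averaging p hp N Q' hab hNp hcop y ?_ ?_ ?_
    · intro u hu
      exact (Subgroup.mem_normalizer_iff.mp hyn u).mp hu
    · intro u hu
      exact hG.2.2 _ (fun h => hyG (by simpa using G.mul_mem (G.inv_mem (hQ'G hu)) h))
    · intro u hu v hv
      refine hG.2.2 _ (fun h => hyG ?_)
      have h1 := G.mul_mem (G.inv_mem (hQ'G hu)) (G.mul_mem (G.inv_mem (hNG hv)) h)
      simpa [mul_assoc] using h1
  exact lemC hp ih hG hnil N hN hNG p hNp q hqp Q' hQ'G hQ'q hQ'ne hcen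

theorem eq_top_of_map_subtype_eq {Γ : Type*} [Group Γ] {G : Subgroup Γ} {K : Subgroup G}
    (h : K.map G.subtype = G) : K = ⊤ := by
  rw [eq_top_iff]
  intro x _
  have h1 : (x : Γ) ∈ K.map G.subtype := by
    rw [h]
    exact x.2
  obtain ⟨x', hx', hx'e⟩ := h1
  have h2 : x' = x := Subtype.ext hx'e
  rw [← h2]
  exact hx'

/-- the induction step -/
theorem step {p : ℕ} (hp : p.Prime) {Γ : Type u} [Group Γ] [Finite Γ]
    (ih : IH.{u} p (Nat.card Γ)) {G : Subgroup Γ} (hG : KP p G) : Group.IsNilpotent G := by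
  by_contra hnil
  haveI := hG.1
  haveI : Fact p.Prime := ⟨hp⟩
  -- (a) no nontrivial normal subgroup of prime power order inside `G`
  have ha : ∀ (r : ℕ) [Fact r.Prime] (N : Subgroup Γ) [N.Normal], N ≠ ⊥ → N ≤ G →
      IsPGroup r N → False := by
    intro r _ N _ hN hNG hNr
    by_cases hrp : r = p
    · subst hrp
      obtain ⟨N₁, hN₁⟩ : ∃ N₁ : Subgroup Γ, N₁ = N ⊓ Subgroup.centralizer (N : Set Γ) :=
        ⟨_, rfl⟩
      haveI : N₁.Normal := by
        rw [hN₁]
        infer_instance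
      have hN₁ne : N₁ ≠ ⊥ := by
        haveI : Nontrivial N := (Subgroup.nontrivial_iff_ne_bot N).mpr hN
        haveI : Nontrivial (Subgroup.center N) := hNr.center_nontrivial
        obtain ⟨⟨z, hz⟩, hz1⟩ := exists_ne (1 : Subgroup.center N)
        intro hbot
        have h2 : (z : Γ) ∈ N₁ := by
          rw [hN₁]
          refine Subgroup.mem_inf.mpr ⟨z.2, Subgroup.mem_centralizer_iff.mpr ?_⟩
          intro x hx
          have h3 := Subgroup.mem_center_iff.mp hz ⟨x, hx⟩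
          exact congrArg Subtype.val h3
        rw [hbot, Subgroup.mem_bot] at h2
        apply hz1
        apply Subtype.ext
        exact Subtype.ext h2
      refine caseIII hp ih hG hnil N₁ hN₁ne ((hN₁ ▸ inf_le_left : N₁ ≤ N).trans hNG)
        (hNr.to_le (hN₁ ▸ inf_le_left)) ?_
      intro a ha b hb
      rw [hN₁] at ha hb
      exact Subgroup.mem_centralizer_iff.mp (Subgroup.mem_inf.mp hb).2 a (Subgroup.mem_inf.mp ha).1
    · exact caseII hp ih hG hnil N hN hNG r hNr hrp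
  obtain ⟨y₀, hy₀⟩ := exists_not_mem hG
  -- (b) no nontrivial normal subgroup properly inside `G`
  have hb : ∀ (N : Subgroup Γ) [N.Normal], N ≠ ⊥ → N ≤ G → N = G := by
    intro N hNn hN hNG
    by_contra hne
    haveI : Group.IsNilpotent N :=
      inv_nil hp ih hG N hNG hne y₀ hy₀ (fun k hk => hNn.conj_mem k hk y₀)
    haveI : Nontrivial N := (Subgroup.nontrivial_iff_ne_bot N).mpr hN
    obtain ⟨r, hr, hrN⟩ := Nat.exists_prime_and_dvd (Finite.one_lt_card (α := N)).ne'
    haveI : Fact r.Prime := ⟨hr⟩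
    obtain ⟨S⟩ : Nonempty (Sylow r N) := inferInstance
    haveI hSn : (S : Subgroup N).Normal := inferInstance
    haveI hSc : (S : Subgroup N).Characteristic := Sylow.characteristic_of_normal S hSn
    haveI hMn : ((S : Subgroup N).map N.subtype).Normal :=
      ConjAct.normal_of_characteristic_of_normal
    refine ha r ((S : Subgroup N).map N.subtype) ?_ ((Subgroup.map_subtype_le _).trans hNG)
      (S.isPGroup'.map _)
    intro h
    exact S.ne_bot_of_dvd_card hrN
      ((Subgroup.map_eq_bot_iff_of_injective _ N.subtype_injective).mp h)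
  -- (c) `Γ = G ⊔ ⟨y⟩`
  have hc : ∀ y, y ∉ G → G ⊔ Subgroup.zpowers y = ⊤ := by
    intro y hy
    by_contra hne
    exact hnil (sub_nil ih hG (G ⊔ Subgroup.zpowers y) G hne
      (fun hle => hy (hle (Subgroup.mem_sup_right (Subgroup.mem_zpowers y)))) le_sup_left le_rfl)
  -- an odd prime divisor
  obtain ⟨q, hq, hqG, hq2⟩ : ∃ q, q.Prime ∧ q ∣ Nat.card G ∧ q ≠ 2 := by
    by_contra h
    push Not at h
    apply hnil
    have h1 : Nat.card G = 2 ^ (Nat.card G).primeFactorsList.length :=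
      Nat.eq_prime_pow_of_unique_prime_dvd Nat.card_pos.ne' (fun {d} hd hdvd => h d hd hdvd)
    haveI : Fact (Nat.Prime 2) := ⟨Nat.prime_two⟩
    exact (IsPGroup.of_card h1).isNilpotent
  haveI : Fact q.Prime := ⟨hq⟩
  obtain ⟨Q⟩ : Nonempty (Sylow q G) := inferInstance
  obtain ⟨y, hyn, hyG⟩ := frattini_elt hG q Q
  have hQne : (Q : Subgroup G) ≠ ⊥ := Q.ne_bot_of_dvd_card hqG
  obtain ⟨φ, hφ⟩ : ∃ φ : G ≃* G, φ = MulAut.conjNormal y := ⟨_, rfl⟩
  have hφa : ∀ g : G, ((φ g : G) : Γ) = y * g * y⁻¹ := by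
    intro g
    rw [hφ]
    exact MulAut.conjNormal_apply y g
  have hQφ : ∀ x ∈ Q, φ x ∈ Q := by
    intro x hx
    have h1 : y * (x : Γ) * y⁻¹ ∈ (Q : Subgroup G).map G.subtype :=
      (Subgroup.mem_normalizer_iff.mp hyn _).mp ⟨x, hx, rfl⟩
    obtain ⟨x', hx', hx'e⟩ := h1
    have h2 : φ x = x' := Subtype.ext (by rw [hφa]; exact hx'e.symm)
    rw [h2]
    exact hx'
  have hnorm : ∀ M : Subgroup G, M.Normal → (∀ m ∈ M, φ m ∈ M) → (M.map G.subtype).Normal := by
    intro M hM hMφ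
    rw [← Subgroup.normalizer_eq_top_iff, eq_top_iff, ← hc y hyG]
    refine sup_le ?_ ?_
    · intro g hg
      apply Cfsg.Agent.S0650.mem_normalizer_of_conj
      rintro _ ⟨m, hm, rfl⟩
      exact ⟨⟨g, hg⟩ * m * ⟨g, hg⟩⁻¹, hM.conj_mem m hm ⟨g, hg⟩, rfl⟩
    · rw [Subgroup.zpowers_le]
      apply Cfsg.Agent.S0650.mem_normalizer_of_conj
      rintro _ ⟨m, hm, rfl⟩
      exact ⟨φ m, hMφ m hm, hφa m⟩
  have hKK : ∀ K : Subgroup G, K ≠ ⊤ → (∀ k ∈ K, φ k ∈ K) → HasNormalPComplement q K := by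
    intro K hKtop hKφ
    have hK'G : K.map G.subtype ≤ G := Subgroup.map_subtype_le _
    have hK'ne : K.map G.subtype ≠ G := fun h => hKtop (eq_top_of_map_subtype_eq h)
    have hKnil : Group.IsNilpotent (K.map G.subtype) := by
      refine inv_nil hp ih hG _ hK'G hK'ne y hyG ?_
      rintro _ ⟨m, hm, rfl⟩
      exact ⟨φ m, hKφ m hm, hφa m⟩
    have hKnil' : Group.IsNilpotent K :=
      nil_of_injective (K.equivMapOfInjective G.subtype G.subtype_injective).toMonoidHom
        (K.equivMapOfInjective G.subtype G.subtype_injective).injective hKnil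
    exact Cfsg.Agent.S0577.npc_of_nilpotent q hKnil'
  rcases Cfsg.Agent.S0033.crit_thompson G φ q hq2 Q hQφ hKK with
    ⟨Z, hZn, hZne, hZφ, hZq⟩ | hnpc
  · haveI := hnorm Z hZn hZφ
    refine ha q (Z.map G.subtype) ?_ (Subgroup.map_subtype_le _) (hZq.map _)
    intro h
    exact hZne hQne ((Subgroup.map_eq_bot_iff_of_injective _ G.subtype_injective).mp h)
  · rw [Cfsg.Agent.S0072.npc_iff] at hnpc
    obtain ⟨K, hKn, hKcop, k, hk⟩ := hnpc
    have hcopK : (Nat.card K).Coprime K.index := by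
      rw [hk]
      exact Nat.Coprime.pow_right k hKcop
    haveI := hKn
    haveI := hnorm K hKn (fun m hm => Cfsg.Agent.Lead.Fpf.hall_inv φ K hcopK m hm)
    by_cases hKb : K = ⊥
    · apply hnil
      have h1 : Nat.card G = q ^ k := by
        rw [← hk, hKb, Subgroup.index_bot]
      exact (IsPGroup.of_card h1).isNilpotent
    · have hKG := hb (K.map G.subtype) (fun h =>
        hKb ((Subgroup.map_eq_bot_iff_of_injective _ G.subtype_injective).mp h))
        (Subgroup.map_subtype_le _)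
      have hKtop : K = ⊤ := eq_top_of_map_subtype_eq hKG
      rw [hKtop, Subgroup.card_top] at hKcop
      exact (Nat.Prime.coprime_iff_not_dvd hq).mp hKcop.symm hqG

/-- **Kegel's theorem** (Hughes--Thompson--Kegel): if `G` is a proper normal subgroup of the
finite group `Γ` and all elements of `Γ` outside `G` have order dividing the prime `p`, then
`G` is nilpotent. -/
theorem kegel (p : ℕ) (hp : p.Prime) :
    ∀ n : ℕ, ∀ (Γ : Type u) [Group Γ] [Finite Γ], Nat.card Γ = n → ∀ G : Subgroup Γ,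
      KP p G → Group.IsNilpotent G := by
  intro n
  induction n using Nat.strong_induction_on with
  | _ n ih =>
    intro Γ _ _ hn G hG
    subst hn
    exact step hp (fun m hm Γ' _ _ hm' G' hG' => ih m hm Γ' hm' G' hG') hG

end Cfsg.Agent.Lead.Kegel
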