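import Mathlib
import Cfsg.Prelude.Def_Transfer
import Cfsg.Agent.Lead.S4016D

set_option autoImplicit false

namespace Cfsg.Agent.S4016P

open scoped Pointwise

/-- hypothesis `hCt` of the endgame: the centraliser of an involution of `C(P)` is `N(P)`. -/
theorem lead_hCt {G : Type*} [Group G] [Finite G] [IsSimpleGroup G]
    (hna : ∃ a b : G, a * b ≠ b * a) (P : Sylow 3 G) (hcyc : IsCyclic P)
    (hab : ∀ H : Subgroup G, ¬ 3 ∣ Nat.card H → IsMulCommutative H)
    (hmin : ∀ H : Subgroup G, H ≠ ⊤ → ∀ P1 : Sylow 3 H,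
      Cfsg.HasNormalPComplement 3 H ∨ (P1 : Subgroup H).Normal)
    (hNC : ¬ Subgroup.normalizer ((P : Subgroup G) : Set G) ≤
      Subgroup.centralizer ((P : Subgroup G) : Set G)) :
    ∀ t : G, t ∈ Subgroup.centralizer ((P : Subgroup G) : Set G) → orderOf t = 2 →
      Subgroup.centralizer ({t} : Set G) ≤
        Subgroup.normalizer ((P : Subgroup G) : Set G) := by
  intro t ht hto
  have h1 : t ≠ 1 := by
    intro h; rw [h, orderOf_one] at hto; omega
  have h2 : (orderOf t).Coprime 3 := by rw [hto]; decide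
  have h3 := pprime_cent_central P hcyc hab ht h2
  exact (cent_le_norm hna P hcyc hmin hNC h1 h3).le

/-- hypothesis `hinv` of the endgame from the `P1` data: every involution is conjugate
into `C(P)`. -/
theorem lead_hinv_of_p1 {G : Type*} [Group G] [Finite G] (P : Sylow 3 G)
    (hab : ∀ H : Subgroup G, ¬ 3 ∣ Nat.card H → IsMulCommutative H)
    (L P1 : Subgroup G) (hL4 : Nat.card L = 4)
    (hL02 : Nat.card ↥(L ⊓ Subgroup.centralizer ((P : Subgroup G) : Set G)) = 2)
    (hN : Nat.card (Subgroup.normalizer ((P : Subgroup G) : Set G)) = 4 * Nat.card P)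
    (hCt : ∀ t : G, t ∈ Subgroup.centralizer ((P : Subgroup G) : Set G) → orderOf t = 2 →
      Subgroup.centralizer ({t} : Set G) ≤ Subgroup.normalizer ((P : Subgroup G) : Set G))
    (hP1 : 3 ≤ Nat.card P1)
    (hnorm : ∀ u ∈ P1, ∀ x ∈ L, u * x * u⁻¹ ∈ L)
    (hTI : ∀ u ∈ P1, u ≠ 1 → ∀ x ∈ L ⊓ Subgroup.centralizer ((P : Subgroup G) : Set G),
      u * x * u⁻¹ ∈ L ⊓ Subgroup.centralizer ((P : Subgroup G) : Set G) → x = 1) :
    ∀ x : G, orderOf x = 2 →
      ∃ g : G, g * x * g⁻¹ ∈ Subgroup.centralizer ((P : Subgroup G) : Set G) := by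
  classical
  have h2p : Fact (Nat.Prime 2) := ⟨Nat.prime_two⟩
  obtain ⟨t0, ht0⟩ := exists_prime_orderOf_dvd_card'
    (G := ↥(L ⊓ Subgroup.centralizer ((P : Subgroup G) : Set G))) 2 (by rw [hL02])
  have htL0 : (t0 : G) ∈ L ⊓ Subgroup.centralizer ((P : Subgroup G) : Set G) := t0.2
  have hto : orderOf (t0 : G) = 2 := by rw [Subgroup.orderOf_coe]; exact ht0
  have htL : (t0 : G) ∈ L := (Subgroup.mem_inf.mp htL0).1
  have htC : (t0 : G) ∈ Subgroup.centralizer ((P : Subgroup G) : Set G) :=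
    (Subgroup.mem_inf.mp htL0).2
  have ht1 : (t0 : G) ≠ 1 := by
    intro h; rw [h, orderOf_one] at hto; omega
  generalize (t0 : G) = t at htL0 hto htL htC ht1
  -- the conjugates of `t` under `P1` are distinct
  have hinj : ∀ u ∈ P1, ∀ v ∈ P1, u * t * u⁻¹ = v * t * v⁻¹ → u = v := by
    intro u hu v hv huv
    by_contra hne
    have hw : v⁻¹ * u ∈ P1 := mul_mem (inv_mem hv) hu
    have hw1 : v⁻¹ * u ≠ 1 := by
      intro h; apply hne
      have h0 : u = v * (v⁻¹ * u) := by group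
      rw [h0, h, mul_one]
    have h3 : (v⁻¹ * u) * t * (v⁻¹ * u)⁻¹ = t := by
      have h0 : (v⁻¹ * u) * t * (v⁻¹ * u)⁻¹ = v⁻¹ * (u * t * u⁻¹) * v := by group
      rw [h0, huv]; group
    exact ht1 (hTI _ hw hw1 t htL0 (by rw [h3]; exact htL0))
  -- every nonidentity element of `L` is a `P1`-conjugate of `t`
  have hsurj : ∀ y ∈ L, y ≠ 1 → ∃ u ∈ P1, y = u * t * u⁻¹ := by
    have : Fintype L := Fintype.ofFinite _
    have : Fintype P1 := Fintype.ofFinite _
    let f : P1 → L := fun u => ⟨(u : G) * t * (u : G)⁻¹, hnorm u u.2 t htL⟩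
    have hf : Function.Injective f := by
      intro u v huv
      have h0 := congrArg Subtype.val huv
      exact Subtype.ext (hinj u u.2 v v.2 h0)
    have hS : (Finset.univ.image f) ⊆ (Finset.univ.erase (1 : L)) := by
      intro y hy
      obtain ⟨u, _, rfl⟩ := Finset.mem_image.mp hy
      rw [Finset.mem_erase]
      refine ⟨?_, Finset.mem_univ _⟩
      intro h
      have h' : (u : G) * t * (u : G)⁻¹ = 1 := congrArg Subtype.val h
      apply ht1
      have h0 : t = (u : G)⁻¹ * ((u : G) * t * (u : G)⁻¹) * (u : G) := by group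
      rw [h0, h']; group
    have hcard : (Finset.univ.erase (1 : L)).card ≤ (Finset.univ.image f).card := by
      rw [Finset.card_image_of_injective _ hf, Finset.card_erase_of_mem (Finset.mem_univ _),
        Finset.card_univ, Finset.card_univ, ← Nat.card_eq_fintype_card,
        ← Nat.card_eq_fintype_card, hL4]
      omega
    have hEq := Finset.eq_of_subset_of_card_le hS hcard
    intro y hy hy1
    have hmem : (⟨y, hy⟩ : L) ∈ Finset.univ.image f := by
      rw [hEq, Finset.mem_erase]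
      exact ⟨fun h => hy1 (congrArg Subtype.val h), Finset.mem_univ _⟩
    obtain ⟨u, _, hu⟩ := Finset.mem_image.mp hmem
    exact ⟨u, u.2, (congrArg Subtype.val hu).symm⟩
  -- `L` is a Sylow 2-subgroup of `G`
  have hL2 : IsPGroup 2 L := IsPGroup.of_card (n := 2) (by rw [hL4]; norm_num)
  obtain ⟨Q, hLQ⟩ := hL2.exists_le_sylow
  have hQ3 : ¬ 3 ∣ Nat.card Q := by
    obtain ⟨k, hk⟩ := Q.2.exists_card_eq
    rw [hk]
    intro h
    have h0 := Nat.Prime.dvd_of_dvd_pow Nat.prime_three h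
    omega
  have hQc := hab Q hQ3
  have hQt : (Q : Subgroup G) ≤ Subgroup.centralizer ({t} : Set G) := by
    intro y hy
    rw [Subgroup.mem_centralizer_iff]
    intro h hh
    rw [Set.mem_singleton_iff] at hh
    rw [hh]
    have h0 := hQc.is_comm.comm (⟨t, hLQ htL⟩ : (Q : Subgroup G)) ⟨y, hy⟩
    exact congrArg Subtype.val h0
  have hQN : (Q : Subgroup G) ≤ Subgroup.normalizer ((P : Subgroup G) : Set G) :=
    hQt.trans (hCt t htC hto)
  have hQ4 : Nat.card Q ∣ 4 := by
    have h1 : Nat.card Q ∣ Nat.card (Subgroup.normalizer ((P : Subgroup G) : Set G)) :=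
      Subgroup.card_dvd_of_le hQN
    rw [hN] at h1
    obtain ⟨k, hk⟩ := Q.2.exists_card_eq
    obtain ⟨j, hj⟩ := P.2.exists_card_eq
    have hcop : (Nat.card Q).Coprime (Nat.card P) := by
      rw [hk, hj]; exact Nat.Coprime.pow _ _ (by decide)
    exact hcop.dvd_of_dvd_mul_right h1
  have hQL : L = (Q : Subgroup G) := by
    apply Subgroup.eq_of_le_of_card_ge hLQ
    rw [hL4]; exact Nat.le_of_dvd (by norm_num) hQ4
  intro x hx
  have hx2 : IsPGroup 2 (Subgroup.zpowers x) := by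
    apply IsPGroup.of_card (n := 1)
    rw [Nat.card_zpowers, hx]; norm_num
  obtain ⟨Q', hQ'⟩ := hx2.exists_le_sylow
  obtain ⟨g, hg⟩ := MulAction.exists_smul_eq G Q' Q
  have hxQ' : x ∈ (Q' : Subgroup G) := hQ' (Subgroup.mem_zpowers x)
  have hgx : g * x * g⁻¹ ∈ (Q : Subgroup G) := by
    have h1 : MulAut.conj g • x ∈ MulAut.conj g • (Q' : Subgroup G) :=
      Subgroup.smul_mem_pointwise_smul x (MulAut.conj g) _ hxQ'
    rw [← Sylow.coe_subgroup_smul, hg] at h1
    simpa [MulAut.smul_def] using h1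
  have hyL : g * x * g⁻¹ ∈ L := by rw [hQL]; exact hgx
  have hy1 : g * x * g⁻¹ ≠ 1 := by
    intro h
    have h0 : x = g⁻¹ * (g * x * g⁻¹) * g := by group
    rw [h] at h0
    have hx1 : x = 1 := by rw [h0]; group
    rw [hx1, orderOf_one] at hx; omega
  obtain ⟨u, hu, huy⟩ := hsurj _ hyL hy1
  refine ⟨u⁻¹ * g, ?_⟩
  have h0 : u⁻¹ * g * x * (u⁻¹ * g)⁻¹ = u⁻¹ * (g * x * g⁻¹) * u := by group
  rw [h0, huy]
  have h1 : u⁻¹ * (u * t * u⁻¹) * u = t := by group
  rw [h1]; exact htC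

end Cfsg.Agent.S4016P
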