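import Mathlib
import Cfsg.Prelude.Def_Transfer
import Cfsg.Agent.Lead.S4016D
import Cfsg.Agent.Helper2.S4016G
import Cfsg.Agent.Helper3.S4016G
import Cfsg.Agent.Helper3.S4016TI
import Cfsg.Agent.Helper5.S4016K
import Cfsg.Agent.Helper12.S4016B
import Cfsg.Agent.Helper12.S4016C
import Cfsg.Agent.Helper18.S4016G
import Cfsg.Agent.Helper23.S4016F

set_option autoImplicit false

namespace Cfsg.Agent.S4016P

/-- Schur–Zassenhaus: a Sylow `p`-subgroup has a complement in its normaliser. -/
theorem lead_exists_compl {G : Type*} [Group G] [Finite G] {p : ℕ} [Fact p.Prime]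
    (P : Sylow p G) :
    ∃ L : Subgroup G, (P : Subgroup G) ⊓ L = ⊥ ∧
      (P : Subgroup G) ⊔ L = Subgroup.normalizer ((P : Subgroup G) : Set G) := by
  have hp : p.Prime := Fact.out
  have hPN : (P : Subgroup G) ≤ Subgroup.normalizer ((P : Subgroup G) : Set G) :=
    Subgroup.le_normalizer
  have hnorm : ((P : Subgroup G).subgroupOf
      (Subgroup.normalizer ((P : Subgroup G) : Set G))).Normal :=
    Subgroup.normal_in_normalizer
  have hcop : Nat.Coprime
      (Nat.card ((P : Subgroup G).subgroupOf (Subgroup.normalizer ((P : Subgroup G) : Set G))))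
      ((P : Subgroup G).subgroupOf (Subgroup.normalizer ((P : Subgroup G) : Set G))).index := by
    have h1 : Nat.card ((P : Subgroup G).subgroupOf
        (Subgroup.normalizer ((P : Subgroup G) : Set G))) = Nat.card (P : Subgroup G) :=
      Nat.card_congr (Subgroup.subgroupOfEquivOfLe hPN).toEquiv
    have h2 : ((P : Subgroup G).subgroupOf
        (Subgroup.normalizer ((P : Subgroup G) : Set G))).index ∣ (P : Subgroup G).index := by
      show (P : Subgroup G).relIndex _ ∣ _
      exact Subgroup.relIndex_dvd_index_of_le hPN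
    rw [h1]
    obtain ⟨k, hk⟩ := P.2.exists_card_eq
    have h3 : Nat.Coprime (Nat.card (P : Subgroup G)) (P : Subgroup G).index := by
      rw [hk]
      exact Nat.Coprime.pow_left k ((Nat.Prime.coprime_iff_not_dvd hp).mpr P.not_dvd_index)
    exact Nat.Coprime.coprime_dvd_right h2 h3
  obtain ⟨H, hH⟩ := Subgroup.exists_right_complement'_of_coprime hcop
  refine ⟨H.map (Subgroup.subtype _), ?_, ?_⟩
  · rw [eq_bot_iff]
    intro x hx
    obtain ⟨hxP, hxL⟩ := Subgroup.mem_inf.mp hx
    obtain ⟨h, hh, rfl⟩ := Subgroup.mem_map.mp hxL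
    have h1 : h ∈ (P : Subgroup G).subgroupOf
        (Subgroup.normalizer ((P : Subgroup G) : Set G)) := by
      rw [Subgroup.mem_subgroupOf]; exact hxP
    have h2 : h ∈ ((P : Subgroup G).subgroupOf
        (Subgroup.normalizer ((P : Subgroup G) : Set G))) ⊓ H := Subgroup.mem_inf.mpr ⟨h1, hh⟩
    rw [hH.disjoint.eq_bot, Subgroup.mem_bot] at h2
    rw [Subgroup.mem_bot, h2]; rfl
  · apply le_antisymm
    · apply sup_le hPN
      intro x hx
      obtain ⟨h, _, rfl⟩ := Subgroup.mem_map.mp hx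
      exact h.2
    · intro n hn
      obtain ⟨⟨a, b⟩, hab'⟩ := hH.2 ⟨n, hn⟩
      have h1 : (a : Subgroup.normalizer ((P : Subgroup G) : Set G)) * b = ⟨n, hn⟩ := hab'
      have h2 : n = ((a : Subgroup.normalizer ((P : Subgroup G) : Set G)) : G) *
          ((b : Subgroup.normalizer ((P : Subgroup G) : Set G)) : G) := by
        have h0 := congrArg Subtype.val h1
        simpa using h0.symm
      rw [h2]
      apply mul_mem
      · apply Subgroup.mem_sup_left
        have h3 : (a : Subgroup.normalizer ((P : Subgroup G) : Set G)) ∈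
            (P : Subgroup G).subgroupOf (Subgroup.normalizer ((P : Subgroup G) : Set G)) := a.2
        exact Subgroup.mem_subgroupOf.mp h3
      · apply Subgroup.mem_sup_right
        exact Subgroup.mem_map.mpr ⟨b, b.2, rfl⟩

/-- The simple case of S4016: a nonabelian simple minimal configuration does not exist. -/
theorem lead_simple_case.{u} {G : Type u} [Group G] [Finite G] {p : ℕ} [Fact p.Prime]
    [IsSimpleGroup G] (hna : ∃ a b : G, a * b ≠ b * a)
    (hcyc : ∀ P : Sylow p G, IsCyclic P)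
    (hab : ∀ H : Subgroup G, ¬ p ∣ Nat.card H → IsMulCommutative H)
    (hmin : ∀ H : Subgroup G, H ≠ ⊤ → ∀ P1 : Sylow p H,
      Cfsg.HasNormalPComplement p H ∨ (P1 : Subgroup H).Normal)
    (hT : ∀ (q : ℕ) [Fact q.Prime] (Q : Sylow q G), IsMulCommutative Q → ∀ y ∈ Q,
      (∀ n ∈ Subgroup.normalizer ((Q : Subgroup G) : Set G), n * y = y * n) → y = 1) :
    False := by
  have hp : p.Prime := Fact.out
  obtain ⟨P⟩ := (inferInstance : Nonempty (Sylow p G))
  -- `P ≠ ⊥`
  have hP : (P : Subgroup G) ≠ ⊥ := by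
    intro hbot
    have h1 : ¬ p ∣ Nat.card (⊤ : Subgroup G) := by
      rw [Subgroup.card_top, ← (P : Subgroup G).card_mul_index, hbot, Subgroup.card_bot, one_mul,
        ← hbot]
      exact P.not_dvd_index
    have h2 := hab ⊤ h1
    obtain ⟨a, b, hab'⟩ := hna
    apply hab'
    have h3 := h2.is_comm.comm (⟨a, Subgroup.mem_top a⟩ : (⊤ : Subgroup G)) ⟨b, Subgroup.mem_top b⟩
    exact congrArg Subtype.val h3
  have hNC := burnside_nc hna P (hcyc P) hP
  have hQ : ∀ (q : ℕ) [Fact q.Prime], q ≠ p → ∀ Q : Sylow q G, Nat.card Q % p = 1 :=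
    fun q _ hq Q => sylow_q_mod hna hab hmin hT hq Q
  obtain ⟨L, hPL, hsup⟩ := lead_exists_compl P
  have hLN : L ≤ Subgroup.normalizer ((P : Subgroup G) : Set G) := hsup ▸ le_sup_right
  have hmod := h2_compl_card_mod P hQ L hPL hsup
  have hLp : ¬ p ∣ Nat.card L := by
    intro h
    have h0 := Nat.mod_eq_zero_of_dvd h
    rw [hmod] at h0
    exact one_ne_zero h0
  have hLc := hab L hLp
  have hLab : ∀ a ∈ L, ∀ b ∈ L, a * b = b * a := by
    intro a ha b hb
    exact congrArg Subtype.val (hLc.is_comm.comm (⟨a, ha⟩ : L) ⟨b, hb⟩)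
  have hcomm := lead_cyc_comm P (hcyc P)
  have hPC : (P : Subgroup G) ≤ Subgroup.centralizer ((P : Subgroup G) : Set G) := by
    intro a ha
    rw [Subgroup.mem_centralizer_iff]
    intro b hb
    exact hcomm b hb a ha
  have hne : ¬ L ≤ Subgroup.centralizer ((P : Subgroup G) : Set G) := by
    intro h
    apply hNC
    rw [← hsup]
    exact sup_le hPC h
  have hdvd : Nat.card L ∣
      (p - 1) * Nat.card ↥(L ⊓ Subgroup.centralizer ((P : Subgroup G) : Set G)) := by
    have h1 := card_norm_dvd P (hcyc P)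
    rw [h3_card_norm P L hPL hsup, h3_card_cent P L hPL hsup (hcyc P), ← mul_assoc] at h1
    exact Nat.dvd_of_mul_dvd_mul_right Nat.card_pos h1
  have hL0 := h2_L0_ne_bot P hQ L hPL hsup hdvd hne
  obtain ⟨P1, hP1c, hnorm, hTI⟩ := exists_p1 hna P (hcyc P) hP hmin hab hT L hPL hsup hL0
  obtain ⟨hp3, hL4, hL02⟩ :=
    h5_count_of_p1 P (hcyc P) L P1 hLab hLN hne hdvd hmod hP1c hnorm hTI
  subst hp3
  exact h18_final3 hna P (hcyc P) hab hmin L hsup hL4 hL02 P1 hP1c hnorm hTI

end Cfsg.Agent.S4016P
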