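import Mathlib
import Cfsg.Prelude.Def_Solvable
import Cfsg.Prelude.Def_Transfer
import Cfsg.Agent.Helper26.PCore

set_option autoImplicit false

namespace Cfsg.Agent.Lead.XS

open Cfsg
open scoped commutatorElement

set_option linter.style.haveILetI false

variable {G : Type*} [Group G]

theorem mem_cs {x c : G} : c ∈ Subgroup.centralizer ({x} : Set G) ↔ x * c = c * x := by
  simp [Subgroup.mem_centralizer_iff]

/-- `O_2` of the centralizer of `x`, as a subgroup of `G`. -/
def QQ (x : G) : Subgroup G :=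
  (Cfsg.pCore 2 ↥(Subgroup.centralizer ({x} : Set G))).map
    (Subgroup.centralizer ({x} : Set G)).subtype

theorem QQ_le (x : G) : QQ x ≤ Subgroup.centralizer ({x} : Set G) := by
  intro y hy
  obtain ⟨y', _, rfl⟩ := hy
  exact y'.2

theorem QQ_pgroup [Finite G] (x : G) : IsPGroup 2 (QQ x) :=
  (Cfsg.Agent.Helper26.isPGroup_pCore 2 _).map _

theorem QQ_conj_mem (x : G) {c y : G} (hc : c ∈ Subgroup.centralizer ({x} : Set G))
    (hy : y ∈ QQ x) : c * y * c⁻¹ ∈ QQ x := by
  obtain ⟨y', hy', rfl⟩ := hy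
  have := (Cfsg.Agent.Helper26.pCore_normal 2 ↥(Subgroup.centralizer ({x} : Set G))).conj_mem
    y' hy' ⟨c, hc⟩
  exact ⟨_, this, rfl⟩

theorem le_QQ [Finite G] (x : G) (N : Subgroup G)
    (hN : N ≤ Subgroup.centralizer ({x} : Set G)) (hp : IsPGroup 2 N)
    (hn : ∀ c ∈ Subgroup.centralizer ({x} : Set G), ∀ y ∈ N, c * y * c⁻¹ ∈ N) :
    N ≤ QQ x := by
  have h1 : (N.subgroupOf (Subgroup.centralizer ({x} : Set G))).Normal := ⟨fun y hy c => by
    rw [Subgroup.mem_subgroupOf] at hy ⊢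
    exact hn c.1 c.2 y.1 hy⟩
  have h2 : IsPGroup 2 (N.subgroupOf (Subgroup.centralizer ({x} : Set G))) := hp.comap_subtype
  have h3 := Cfsg.Agent.Helper26.le_pCore h1 h2
  intro y hy
  exact ⟨⟨y, hN hy⟩, h3 (by rw [Subgroup.mem_subgroupOf]; exact hy), rfl⟩

theorem QQ_conj [Finite G] (a x : G) {y : G} (hy : y ∈ QQ x) :
    a * y * a⁻¹ ∈ QQ (a * x * a⁻¹) := by
  have hle := le_QQ (a * x * a⁻¹) ((QQ x).map (MulAut.conj a).toMonoidHom) ?_
    ((QQ_pgroup x).map _) ?_
  · exact hle ⟨y, hy, by simp⟩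
  · rintro _ ⟨w, hw, rfl⟩
    have := mem_cs.mp (QQ_le x hw)
    rw [mem_cs]
    simp only [MulEquiv.coe_toMonoidHom, MulAut.conj_apply]
    calc a * x * a⁻¹ * (a * w * a⁻¹) = a * (x * w) * a⁻¹ := by group
      _ = a * (w * x) * a⁻¹ := by rw [this]
      _ = a * w * a⁻¹ * (a * x * a⁻¹) := by group
  · rintro c hc _ ⟨w, hw, rfl⟩
    have hc' : a⁻¹ * c * a ∈ Subgroup.centralizer ({x} : Set G) := by
      rw [mem_cs] at hc ⊢
      calc x * (a⁻¹ * c * a) = a⁻¹ * (a * x * a⁻¹ * c) * a := by group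
        _ = a⁻¹ * (c * (a * x * a⁻¹)) * a := by rw [hc]
        _ = a⁻¹ * c * a * x := by group
    have := QQ_conj_mem x hc' hw
    refine ⟨_, this, ?_⟩
    simp only [MulEquiv.coe_toMonoidHom, MulAut.conj_apply]
    group

theorem zmem [Finite G] (z : G) (hz : orderOf z = 2) : z ∈ QQ z := by
  refine le_QQ z (Subgroup.zpowers z) ?_ ?_ ?_ (Subgroup.mem_zpowers z)
  · rw [Subgroup.zpowers_le]
    exact mem_cs.mpr rfl
  · refine IsPGroup.of_card (n := 1) ?_
    rw [Nat.card_zpowers, hz, pow_one]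
  · intro c hc y hy
    obtain ⟨k, rfl⟩ := Subgroup.mem_zpowers_iff.mp hy
    have hcz : Commute c z := (mem_cs.mp hc).symm
    have := (hcz.zpow_right k).eq
    rw [this, mul_inv_cancel_right]
    exact Subgroup.zpow_mem_zpowers z k

/-! ### extraspecial facts -/

theorem xs_cen (Qz : Subgroup G) (z : G) (hzQ : z ∈ Qz) (hz1 : z ≠ 1)
    (hzc : ∀ y ∈ Qz, z * y = y * z) (hE : Cfsg.IsExtraspecial 2 ↥Qz) :
    ∀ c ∈ Qz, (∀ y ∈ Qz, c * y = y * c) → c = 1 ∨ c = z := by
  intro c hc hcc
  have h2 := hE.2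
  have hzm : (⟨z, hzQ⟩ : ↥Qz) ∈ Subgroup.center ↥Qz := by
    rw [Subgroup.mem_center_iff]
    intro y
    exact Subtype.ext (by simpa using (hzc y.1 y.2).symm)
  have hcm : (⟨c, hc⟩ : ↥Qz) ∈ Subgroup.center ↥Qz := by
    rw [Subgroup.mem_center_iff]
    intro y
    exact Subtype.ext (by simpa using (hcc y.1 y.2).symm)
  obtain ⟨w, _, hw2⟩ := (Nat.card_eq_two_iff' (1 : Subgroup.center ↥Qz)).mp h2
  by_cases hc1 : c = 1
  · exact Or.inl hc1
  · right
    have e1 : (⟨⟨c, hc⟩, hcm⟩ : Subgroup.center ↥Qz) = w := hw2 _ (by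
      intro h
      apply hc1
      exact congrArg (fun t : Subgroup.center ↥Qz => ((t : ↥Qz) : G)) h)
    have e2 : (⟨⟨z, hzQ⟩, hzm⟩ : Subgroup.center ↥Qz) = w := hw2 _ (by
      intro h
      apply hz1
      exact congrArg (fun t : Subgroup.center ↥Qz => ((t : ↥Qz) : G)) h)
    exact congrArg (fun t : Subgroup.center ↥Qz => ((t : ↥Qz) : G)) (e1.trans e2.symm)

theorem xs_comm (Qz : Subgroup G) (z : G) (hzQ : z ∈ Qz) (hz1 : z ≠ 1)
    (hzc : ∀ y ∈ Qz, z * y = y * z) (hE : Cfsg.IsExtraspecial 2 ↥Qz) :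
    ∀ a ∈ Qz, ∀ b ∈ Qz, a * b = b * a ∨ a * b = z * b * a := by
  intro a ha b hb
  have hcomm : commutator ↥Qz = Subgroup.center ↥Qz := hE.1.2.2
  have h1 : ⁅(⟨a, ha⟩ : ↥Qz), ⟨b, hb⟩⁆ ∈ Subgroup.center ↥Qz := by
    rw [← hcomm, commutator_def]
    exact Subgroup.commutator_mem_commutator (Subgroup.mem_top _) (Subgroup.mem_top _)
  have h2 : ∀ y ∈ Qz, (a * b * a⁻¹ * b⁻¹) * y = y * (a * b * a⁻¹ * b⁻¹) := by
    intro y hy
    have h3 := Subgroup.mem_center_iff.mp h1 ⟨y, hy⟩
    have h4 := congrArg (fun t : ↥Qz => (t : G)) h3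
    simpa [commutatorElement_def] using h4.symm
  rcases xs_cen Qz z hzQ hz1 hzc hE _
    (Qz.mul_mem (Qz.mul_mem (Qz.mul_mem ha hb) (Qz.inv_mem ha)) (Qz.inv_mem hb)) h2 with h | h
  · left
    calc a * b = (a * b * a⁻¹ * b⁻¹) * (b * a) := by group
      _ = b * a := by rw [h, one_mul]
  · right
    calc a * b = (a * b * a⁻¹ * b⁻¹) * (b * a) := by group
      _ = z * b * a := by rw [h, mul_assoc]

/-- The centralizer in `G` of `C_Q(u)` is `{1, z, u, uz}`. -/
theorem cent_P (Qz : Subgroup G) (z u : G)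
    (hzQ : z ∈ Qz) (huQ : u ∈ Qz) (hz2 : z * z = 1) (hz1 : z ≠ 1) (hu2 : u * u = 1)
    (hzc : ∀ y ∈ Qz, z * y = y * z)
    (cen : ∀ c ∈ Qz, (∀ y ∈ Qz, c * y = y * c) → c = 1 ∨ c = z)
    (comm : ∀ a ∈ Qz, ∀ b ∈ Qz, a * b = b * a ∨ a * b = z * b * a)
    (hC : ∀ h : G, (∀ y ∈ Qz, h * y = y * h) → h ∈ Qz)
    (hnorm : ∀ h : G, h * z = z * h → ∀ y ∈ Qz, h * y * h⁻¹ ∈ Qz)
    (q : G) (hq : q ∈ Qz) (hqu : q * u = z * u * q)
    (h : G) (hh : ∀ p ∈ Qz, p * u = u * p → h * p = p * h) :
    h = 1 ∨ h = z ∨ h = u ∨ h = u * z := by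
  have hzu : z * u = u * z := hzc u huQ
  have hzq : z * q = q * z := hzc q hq
  have huq : u * q = z * q * u := by
    calc u * q = (z * z) * (u * q) := by rw [hz2, one_mul]
      _ = z * (z * u * q) := by simp only [mul_assoc]
      _ = z * (q * u) := by rw [hqu]
      _ = z * q * u := by simp only [mul_assoc]
  have hqi : q⁻¹ * (z * u) = u * q⁻¹ := by
    calc q⁻¹ * (z * u) = q⁻¹ * (z * u * q) * q⁻¹ := by group
      _ = q⁻¹ * (q * u) * q⁻¹ := by rw [hqu]
      _ = u * q⁻¹ := by group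
  -- Q = P ∪ qP
  have split : ∀ x ∈ Qz, x * u = u * x ∨ (q⁻¹ * x) * u = u * (q⁻¹ * x) := by
    intro x hx
    rcases comm x hx u huQ with hx' | hx'
    · exact Or.inl hx'
    · right
      calc q⁻¹ * x * u = q⁻¹ * (x * u) := by rw [mul_assoc]
        _ = q⁻¹ * (z * u * x) := by rw [hx']
        _ = (q⁻¹ * (z * u)) * x := by simp only [mul_assoc]
        _ = u * q⁻¹ * x := by rw [hqi]
        _ = u * (q⁻¹ * x) := by rw [mul_assoc]
  have allQ : ∀ c : G, (∀ p ∈ Qz, p * u = u * p → c * p = p * c) → c * q = q * c →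
      ∀ x ∈ Qz, c * x = x * c := by
    intro c hcP hcq x hx
    rcases split x hx with hx' | hx'
    · exact hcP x hx hx'
    · have h1 := hcP (q⁻¹ * x) (Qz.mul_mem (Qz.inv_mem hq) hx) hx'
      calc c * x = (c * q) * (q⁻¹ * x) := by group
        _ = q * (c * (q⁻¹ * x)) := by rw [hcq, mul_assoc]
        _ = q * ((q⁻¹ * x) * c) := by rw [h1]
        _ = x * c := by group
  have p2 : ∀ c ∈ Qz, (∀ p ∈ Qz, p * u = u * p → c * p = p * c) →
      c = 1 ∨ c = z ∨ c = u ∨ c = u * z := by
    intro c hc hcP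
    rcases comm c hc q hq with hcq | hcq
    · rcases cen c hc (allQ c hcP hcq) with h1 | h1
      · exact Or.inl h1
      · exact Or.inr (Or.inl h1)
    · have hc'P : ∀ p ∈ Qz, p * u = u * p → (u * c) * p = p * (u * c) := by
        intro p hp hpu
        calc u * c * p = u * (c * p) := by rw [mul_assoc]
          _ = u * (p * c) := by rw [hcP p hp hpu]
          _ = (u * p) * c := by rw [mul_assoc]
          _ = (p * u) * c := by rw [hpu]
          _ = p * (u * c) := by rw [mul_assoc]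
      have hc'q : (u * c) * q = q * (u * c) := by
        calc u * c * q = u * (c * q) := by rw [mul_assoc]
          _ = u * (z * q * c) := by rw [hcq]
          _ = (u * z) * q * c := by simp only [mul_assoc]
          _ = (z * u) * q * c := by rw [hzu]
          _ = z * (u * q) * c := by simp only [mul_assoc]
          _ = z * (z * q * u) * c := by rw [huq]
          _ = (z * z) * q * (u * c) := by simp only [mul_assoc]
          _ = q * (u * c) := by rw [hz2, one_mul]
      have hc_eq : c = u * (u * c) := by rw [← mul_assoc, hu2, one_mul]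
      rcases cen (u * c) (Qz.mul_mem huQ hc) (allQ (u * c) hc'P hc'q) with h1 | h1
      · right; right; left
        rw [hc_eq, h1, mul_one]
      · right; right; right
        rw [hc_eq, h1]
  have hhz : h * z = z * h := hh z hzQ hzu
  have hhu : h * u = u * h := hh u huQ rfl
  obtain ⟨c, hcdef⟩ : ∃ c, c = q⁻¹ * (h * q * h⁻¹) := ⟨_, rfl⟩
  have hcQ : c ∈ Qz := by
    rw [hcdef]
    exact Qz.mul_mem (Qz.inv_mem hq) (hnorm h hhz q hq)
  have hqc : h * q * h⁻¹ = q * c := by
    rw [hcdef, mul_inv_cancel_left]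
  have hhq : h * q = q * c * h := by
    rw [← hqc]
    group
  have hcP : ∀ p ∈ Qz, p * u = u * p → c * p = p * c := by
    intro p hp hpu
    have hhp : h * p = p * h := hh p hp hpu
    have e1 : q * c * p = h * (q * p) * h⁻¹ := by
      rw [← hqc]
      have e0 : p = h * p * h⁻¹ := by
        rw [hhp]
        group
      calc h * q * h⁻¹ * p = h * q * h⁻¹ * (h * p * h⁻¹) := by rw [← e0]
        _ = h * (q * p) * h⁻¹ := by group
    have e2 : h * (p * q) * h⁻¹ = p * (q * c) := by
      rw [← hqc]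
      calc h * (p * q) * h⁻¹ = (h * p) * q * h⁻¹ := by simp only [mul_assoc]
        _ = (p * h) * q * h⁻¹ := by rw [hhp]
        _ = p * (h * q * h⁻¹) := by simp only [mul_assoc]
    rcases comm q hq p hp with hqp | hqp
    · have e4 : q * (c * p) = q * (p * c) := by
        calc q * (c * p) = q * c * p := by rw [mul_assoc]
          _ = h * (q * p) * h⁻¹ := e1
          _ = h * (p * q) * h⁻¹ := by rw [hqp]
          _ = p * (q * c) := e2
          _ = (p * q) * c := by rw [mul_assoc]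
          _ = (q * p) * c := by rw [hqp]
          _ = q * (p * c) := by rw [mul_assoc]
      exact mul_left_cancel e4
    · have e3 : h * (z * p * q) * h⁻¹ = z * (h * (p * q) * h⁻¹) := by
        calc h * (z * p * q) * h⁻¹ = (h * z) * (p * q) * h⁻¹ := by simp only [mul_assoc]
          _ = (z * h) * (p * q) * h⁻¹ := by rw [hhz]
          _ = z * (h * (p * q) * h⁻¹) := by simp only [mul_assoc]
      have e4 : q * (c * p) = q * (p * c) := by
        calc q * (c * p) = q * c * p := by rw [mul_assoc]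
          _ = h * (q * p) * h⁻¹ := e1
          _ = h * (z * p * q) * h⁻¹ := by rw [hqp]
          _ = z * (h * (p * q) * h⁻¹) := e3
          _ = z * (p * (q * c)) := by rw [e2]
          _ = (z * p * q) * c := by simp only [mul_assoc]
          _ = (q * p) * c := by rw [hqp]
          _ = q * (p * c) := by rw [mul_assoc]
      exact mul_left_cancel e4
  have hqq : (q * q) * u = u * (q * q) := by
    calc q * q * u = q * (q * u) := by rw [mul_assoc]
      _ = q * (z * u * q) := by rw [hqu]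
      _ = (q * z) * u * q := by simp only [mul_assoc]
      _ = (z * q) * u * q := by rw [hzq]
      _ = z * (q * u) * q := by simp only [mul_assoc]
      _ = z * (z * u * q) * q := by rw [hqu]
      _ = (z * z) * u * (q * q) := by simp only [mul_assoc]
      _ = u * (q * q) := by rw [hz2, one_mul]
  have hhqq : h * (q * q) = (q * q) * h := hh (q * q) (Qz.mul_mem hq hq) hqq
  have hcqc : q = c * q * c := by
    have e1 : q * q * h = q * (c * q * c) * h := by
      calc q * q * h = h * (q * q) := hhqq.symm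
        _ = (h * q) * q := by rw [mul_assoc]
        _ = q * c * h * q := by rw [hhq]
        _ = q * c * (h * q) := by rw [mul_assoc]
        _ = q * c * (q * c * h) := by rw [hhq]
        _ = q * (c * q * c) * h := by simp only [mul_assoc]
    exact mul_left_cancel (mul_right_cancel e1)
  have hbad : q = z * q → False := by
    intro hb
    apply hz1
    have : z * q = 1 * q := by rw [one_mul]; exact hb.symm
    exact mul_right_cancel this
  rcases p2 c hcQ hcP with h1 | h1 | h1 | h1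
  · -- c = 1
    have hq' : h * q = q * h := by
      rw [hhq, h1, mul_one]
    have hall := allQ h hh hq'
    exact p2 h (hC h hall) hh
  · -- c = z
    have hq' : h * q = q * z * h := by rw [hhq, h1]
    have hh' : ∀ p ∈ Qz, p * u = u * p → (u * h) * p = p * (u * h) := by
      intro p hp hpu
      calc u * h * p = u * (h * p) := by rw [mul_assoc]
        _ = u * (p * h) := by rw [hh p hp hpu]
        _ = (u * p) * h := by rw [mul_assoc]
        _ = (p * u) * h := by rw [hpu]
        _ = p * (u * h) := by rw [mul_assoc]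
    have hq'' : (u * h) * q = q * (u * h) := by
      calc u * h * q = u * (h * q) := by rw [mul_assoc]
        _ = u * (q * z * h) := by rw [hq']
        _ = (u * q) * z * h := by simp only [mul_assoc]
        _ = (z * q * u) * z * h := by rw [huq]
        _ = (z * q) * (u * z) * h := by simp only [mul_assoc]
        _ = (q * z) * (z * u) * h := by rw [hzq, hzu]
        _ = q * (z * z) * (u * h) := by simp only [mul_assoc]
        _ = q * (u * h) := by rw [hz2, mul_one]
    have hall := allQ (u * h) hh' hq''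
    have h_eq : h = u * (u * h) := by rw [← mul_assoc, hu2, one_mul]
    rcases p2 (u * h) (hC _ hall) hh' with h3 | h3 | h3 | h3
    · right; right; left
      rw [h_eq, h3, mul_one]
    · right; right; right
      rw [h_eq, h3]
    · left
      rw [h_eq, h3, hu2]
    · right; left
      rw [h_eq, h3, ← mul_assoc, hu2, one_mul]
  · -- c = u : impossible
    exfalso
    apply hbad
    calc q = c * q * c := hcqc
      _ = u * q * u := by rw [h1]
      _ = z * q * u * u := by rw [huq]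
      _ = z * q * (u * u) := by rw [mul_assoc]
      _ = z * q := by rw [hu2, mul_one]
  · -- c = u z : impossible
    exfalso
    apply hbad
    calc q = c * q * c := hcqc
      _ = u * z * q * (u * z) := by rw [h1]
      _ = u * (z * q) * u * z := by simp only [mul_assoc]
      _ = u * (q * z) * u * z := by rw [hzq]
      _ = (u * q) * (z * u) * z := by simp only [mul_assoc]
      _ = (z * q * u) * (u * z) * z := by rw [huq, hzu]
      _ = z * q * (u * u) * (z * z) := by simp only [mul_assoc]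
      _ = z * q := by rw [hu2, hz2, mul_one, mul_one]

/-! ### fixed points of 2-groups acting by conjugation on stable sets -/

/-- conjugation action of a subgroup on a stable subset -/
@[reducible] def cAct (R : Subgroup G) (O : Set G) (hO : ∀ r ∈ R, ∀ y ∈ O, r * y * r⁻¹ ∈ O) :
    MulAction R O where
  smul r y := ⟨(r : G) * (y : G) * (r : G)⁻¹, hO r r.2 y y.2⟩
  one_smul y := Subtype.ext (by
    show ((1 : R) : G) * (y : G) * ((1 : R) : G)⁻¹ = y
    simp)
  mul_smul a b y := Subtype.ext (by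
    show ((a * b : R) : G) * (y : G) * ((a * b : R) : G)⁻¹
      = (a : G) * ((b : G) * (y : G) * (b : G)⁻¹) * (a : G)⁻¹
    simp [mul_assoc])

theorem fp_even (R : Subgroup G) (hR : IsPGroup 2 R) (O : Set G) [Finite O]
    (hO : ∀ r ∈ R, ∀ y ∈ O, r * y * r⁻¹ ∈ O)
    (hno : ∀ y ∈ O, ¬ (∀ r ∈ R, r * y * r⁻¹ = y)) : 2 ∣ Nat.card O := by
  haveI : Fact (Nat.Prime 2) := ⟨Nat.prime_two⟩
  letI : MulAction R O := cAct R O hO
  by_contra h
  obtain ⟨y, hy⟩ := hR.nonempty_fixed_point_of_prime_not_dvd_card O h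
  exact hno y.1 y.2 (fun r hr => congrArg Subtype.val (hy ⟨r, hr⟩))

theorem fp_other (R : Subgroup G) (hR : IsPGroup 2 R) (O : Set G) [Finite O]
    (hO : ∀ r ∈ R, ∀ y ∈ O, r * y * r⁻¹ ∈ O) (h2 : 2 ∣ Nat.card O)
    (z : G) (hzO : z ∈ O) (hz : ∀ r ∈ R, r * z * r⁻¹ = z) :
    ∃ y ∈ O, y ≠ z ∧ ∀ r ∈ R, r * y * r⁻¹ = y := by
  haveI : Fact (Nat.Prime 2) := ⟨Nat.prime_two⟩
  letI : MulAction R O := cAct R O hO
  have hfix : (⟨z, hzO⟩ : O) ∈ MulAction.fixedPoints R O := fun r => Subtype.ext (hz r.1 r.2)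
  obtain ⟨b, hb, hne⟩ := hR.exists_fixed_point_of_prime_dvd_card_of_fixed_point O h2 hfix
  exact ⟨b.1, b.2, fun h => hne (Subtype.ext h.symm),
    fun r hr => congrArg Subtype.val (hb ⟨r, hr⟩)⟩

/-! ### the main theorem -/

theorem main [Finite G] (z : G) (hz : orderOf z = 2) (hE : Cfsg.IsExtraspecial 2 ↥(QQ z))
    (hC : Subgroup.centralizer ((QQ z : Subgroup G) : Set G) ≤ QQ z)
    (g : G) (hx : g * z * g⁻¹ ∈ QQ z) : z ∈ QQ (g * z * g⁻¹) := by
  have hz2 : z * z = 1 := by rw [← pow_two, ← hz, pow_orderOf_eq_one]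
  have hz1 : z ≠ 1 := by
    intro h
    rw [h, orderOf_one] at hz
    omega
  have hzQ : z ∈ QQ z := zmem z hz
  obtain ⟨u, hu⟩ : ∃ u, u = g * z * g⁻¹ := ⟨_, rfl⟩
  rw [← hu] at hx ⊢
  have hu2 : u * u = 1 := by
    rw [hu]
    calc g * z * g⁻¹ * (g * z * g⁻¹) = g * (z * z) * g⁻¹ := by group
      _ = 1 := by rw [hz2]; group
  have huu : u ∈ QQ u := by
    have := QQ_conj g z hzQ
    rw [← hu] at this
    exact this
  by_cases huz : u = z
  · rw [huz]
    exact hzQ
  have hu1 : u ≠ 1 := by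
    intro h
    apply hz1
    calc z = g⁻¹ * (g * z * g⁻¹) * g := by group
      _ = g⁻¹ * u * g := by rw [hu]
      _ = 1 := by rw [h]; group
  have hzc : ∀ y ∈ QQ z, z * y = y * z := fun y hy => mem_cs.mp (QQ_le z hy)
  have cen := xs_cen (QQ z) z hzQ hz1 hzc hE
  have comm := xs_comm (QQ z) z hzQ hz1 hzc hE
  have hzu : z * u = u * z := hzc u hx
  obtain ⟨q, hq, hqu⟩ : ∃ q ∈ QQ z, q * u = z * u * q := by
    by_contra hcon
    push Not at hcon
    have h1 : ∀ y ∈ QQ z, u * y = y * u := by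
      intro y hy
      rcases comm y hy u hx with h | h
      · exact h.symm
      · exact absurd h (hcon y hy)
    rcases cen u hx h1 with h | h
    · exact hu1 h
    · exact huz h
  have hzq : z * q = q * z := hzc q hq
  have huq : u * q = z * q * u := by
    calc u * q = (z * z) * (u * q) := by rw [hz2, one_mul]
      _ = z * (z * u * q) := by simp only [mul_assoc]
      _ = z * (q * u) := by rw [hqu]
      _ = z * q * u := by simp only [mul_assoc]
  -- the orbit of z under C(u)
  obtain ⟨O, hOdef⟩ : ∃ O : Set G,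
      O = {y | ∃ s ∈ Subgroup.centralizer ({u} : Set G), y = s * z * s⁻¹} := ⟨_, rfl⟩
  have hOmem : ∀ y, y ∈ O ↔ ∃ s ∈ Subgroup.centralizer ({u} : Set G), y = s * z * s⁻¹ := by
    intro y
    rw [hOdef]
    exact Iff.rfl
  have hOstab : ∀ R : Subgroup G, R ≤ Subgroup.centralizer ({u} : Set G) →
      ∀ r ∈ R, ∀ y ∈ O, r * y * r⁻¹ ∈ O := by
    intro R hR r hr y hy
    obtain ⟨s, hs, rfl⟩ := (hOmem y).mp hy
    exact (hOmem _).mpr ⟨r * s, Subgroup.mul_mem _ (hR hr) hs, by group⟩
  have hOne : ∀ y ∈ O, y ≠ 1 ∧ y ≠ u := by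
    intro y hy
    obtain ⟨s, hs, rfl⟩ := (hOmem y).mp hy
    constructor
    · intro h
      apply hz1
      calc z = s⁻¹ * (s * z * s⁻¹) * s := by group
        _ = 1 := by rw [h]; group
    · intro h
      apply huz
      have hs' := mem_cs.mp hs
      calc u = s⁻¹ * (s * u) := by group
        _ = s⁻¹ * (u * s) := by rw [hs']
        _ = s⁻¹ * (s * z * s⁻¹ * s) := by rw [h]
        _ = z := by group
  haveI : Finite O := Finite.of_injective (fun y : O => (y : G)) Subtype.val_injective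
  have hOeven : 2 ∣ Nat.card O := by
    refine fp_even (QQ u) (QQ_pgroup u) O (hOstab _ (QQ_le u)) ?_
    intro y hy hfix
    have h1 : g⁻¹ * y * g ∈ Subgroup.centralizer ((QQ z : Subgroup G) : Set G) := by
      rw [Subgroup.mem_centralizer_iff]
      intro w hw
      have hw' : g * w * g⁻¹ ∈ QQ u := by
        rw [hu]
        exact QQ_conj g z hw
      have h2 := hfix _ hw'
      calc w * (g⁻¹ * y * g)
          = g⁻¹ * (g * w * g⁻¹ * y * (g * w * g⁻¹)⁻¹) * g * w := by group
        _ = g⁻¹ * y * g * w := by rw [h2]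
    have h2 := hC h1
    have h3 : ∀ w ∈ QQ z, g⁻¹ * y * g * w = w * (g⁻¹ * y * g) :=
      fun w hw => ((Subgroup.mem_centralizer_iff.mp h1) w hw).symm
    rcases cen _ h2 h3 with h | h
    · apply (hOne y hy).1
      calc y = g * (g⁻¹ * y * g) * g⁻¹ := by group
        _ = 1 := by rw [h]; group
    · apply (hOne y hy).2
      calc y = g * (g⁻¹ * y * g) * g⁻¹ := by group
        _ = u := by rw [h, hu]
  have hzO : z ∈ O := (hOmem z).mpr ⟨1, Subgroup.one_mem _, by group⟩
  have hPfix : ∀ r ∈ QQ z ⊓ Subgroup.centralizer ({u} : Set G), r * z * r⁻¹ = z := by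
    intro r hr
    have h1 := hzc r hr.1
    rw [← h1, mul_inv_cancel_right]
  obtain ⟨y, hyO, hyz, hyfix⟩ := fp_other (QQ z ⊓ Subgroup.centralizer ({u} : Set G))
    ((QQ_pgroup z).to_le inf_le_left) O (hOstab _ inf_le_right) hOeven z hzO hPfix
  have hCall : ∀ h : G, (∀ w ∈ QQ z, h * w = w * h) → h ∈ QQ z := fun h hh =>
    hC (Subgroup.mem_centralizer_iff.mpr (fun w hw => (hh w hw).symm))
  have hnorm : ∀ h : G, h * z = z * h → ∀ w ∈ QQ z, h * w * h⁻¹ ∈ QQ z := fun h hh w hw =>
    QQ_conj_mem z (mem_cs.mpr hh.symm) hw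
  have hyP : ∀ p ∈ QQ z, p * u = u * p → y * p = p * y := by
    intro p hp hpu
    have h1 := hyfix p ⟨hp, mem_cs.mpr hpu.symm⟩
    exact (mul_inv_eq_iff_eq_mul.mp h1).symm
  have hy4 := cent_P (QQ z) z u hzQ hx hz2 hz1 hu2 hzc cen comm hCall hnorm q hq hqu y hyP
  have hyuz : y = u * z := by
    rcases hy4 with h | h | h | h
    · exact absurd h (hOne y hyO).1
    · exact absurd h hyz
    · exact absurd h (hOne y hyO).2
    · exact h
  obtain ⟨s, hs, hys⟩ := (hOmem y).mp hyO
  have hsu : s * u * s⁻¹ = u := by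
    have h1 := mem_cs.mp hs
    rw [← h1, mul_inv_cancel_right]
  have h1 : u ∈ QQ (u * z) := by
    have h2 := QQ_conj s z hx
    rw [hsu, ← hys, hyuz] at h2
    exact h2
  have h2 := QQ_conj q⁻¹ (u * z) h1
  have e1 : q⁻¹ * (u * z) * q⁻¹⁻¹ = u := by
    rw [inv_inv]
    calc q⁻¹ * (u * z) * q = q⁻¹ * (z * u * q) := by
          rw [← hzu]
          simp only [mul_assoc]
      _ = q⁻¹ * (q * u) := by rw [hqu]
      _ = u := by group
  have e2 : q⁻¹ * u * q⁻¹⁻¹ = z * u := by
    rw [inv_inv]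
    calc q⁻¹ * u * q = q⁻¹ * (u * q) := by rw [mul_assoc]
      _ = q⁻¹ * (z * q * u) := by rw [huq]
      _ = q⁻¹ * (q * z * u) := by rw [hzq]
      _ = z * u := by group
  rw [e1, e2] at h2
  have e3 : z = (z * u) * u := by rw [mul_assoc, hu2, mul_one]
  rw [e3]
  exact Subgroup.mul_mem _ h2 huu

end Cfsg.Agent.Lead.XS
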