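import Mathlib
import Cfsg.Agent.Lead.XS

set_option autoImplicit false

namespace Cfsg.Agent.Lead.XS

open Cfsg

variable {G : Type*} [Group G]

/-- a non-central element `v` of the extraspecial `Q` has a `q` with `q v = z v q`. -/
theorem exists_q (Qz : Subgroup G) (z v : G) (hv : v ∈ Qz) (hvz : v ≠ z) (hv1 : v ≠ 1)
    (cen : ∀ c ∈ Qz, (∀ y ∈ Qz, c * y = y * c) → c = 1 ∨ c = z)
    (comm : ∀ a ∈ Qz, ∀ b ∈ Qz, a * b = b * a ∨ a * b = z * b * a) :
    ∃ q ∈ Qz, q * v = z * v * q := by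
  by_contra hcon
  push Not at hcon
  have h1 : ∀ y ∈ Qz, v * y = y * v := by
    intro y hy
    rcases comm y hy v hv with h | h
    · exact h.symm
    · exact absurd h (hcon y hy)
  rcases cen v hv h1 with h | h
  · exact hv1 h
  · exact hvz h

theorem inter_mul_z [Finite G] (z : G) (hz : orderOf z = 2)
    (hE : Cfsg.IsExtraspecial 2 ↥(QQ z))
    (hC : Subgroup.centralizer ((QQ z : Subgroup G) : Set G) ≤ QQ z)
    (v : G) (hv : v ∈ QQ z) (hvz : v ≠ z) (hv1 : v ≠ 1) (a : G) (hva : a * z * a⁻¹ = v)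
    (x : G) (hx1 : x ∈ QQ z) (hx2 : x ∈ QQ v) : x ∈ QQ (z * v) := by
  have hz2 : z * z = 1 := by rw [← pow_two, ← hz, pow_orderOf_eq_one]
  have hz1 : z ≠ 1 := by
    intro h
    rw [h, orderOf_one] at hz
    omega
  have hzQ : z ∈ QQ z := zmem z hz
  have hzc : ∀ y ∈ QQ z, z * y = y * z := fun y hy => mem_cs.mp (QQ_le z hy)
  have cen := xs_cen (QQ z) z hzQ hz1 hzc hE
  have comm := xs_comm (QQ z) z hzQ hz1 hzc hE
  obtain ⟨q, hq, hqv⟩ := exists_q (QQ z) z v hv hvz hv1 cen comm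
  have e1 : q * v * q⁻¹ = z * v := by
    rw [hqv, mul_inv_cancel_right]
  have h1 : q * x * q⁻¹ ∈ QQ (z * v) := by
    have := QQ_conj q v hx2
    rw [e1] at this
    exact this
  have hzm : z ∈ QQ (z * v) := by
    have h2 : (q * a) * z * (q * a)⁻¹ = z * v := by
      calc (q * a) * z * (q * a)⁻¹ = q * (a * z * a⁻¹) * q⁻¹ := by group
        _ = z * v := by rw [hva, e1]
    have h3 := main z hz hE hC (q * a) (by rw [h2]; exact Subgroup.mul_mem _ hzQ hv)
    rw [h2] at h3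
    exact h3
  rcases comm q hq x hx1 with h | h
  · have : q * x * q⁻¹ = x := by rw [h, mul_inv_cancel_right]
    rw [this] at h1
    exact h1
  · have : q * x * q⁻¹ = z * x := by rw [h, mul_inv_cancel_right]
    rw [this] at h1
    have e3 : x = z * (z * x) := by rw [← mul_assoc, hz2, one_mul]
    rw [e3]
    exact Subgroup.mul_mem _ hzm h1

theorem inter_mul [Finite G] (z : G) (hz : orderOf z = 2)
    (hE : Cfsg.IsExtraspecial 2 ↥(QQ z))
    (hC : Subgroup.centralizer ((QQ z : Subgroup G) : Set G) ≤ QQ z)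
    (u v x : G) (g : G) (hg : g * z * g⁻¹ = u) (a : G) (ha : a * z * a⁻¹ = v)
    (hvu : v ∈ QQ u) (hne : v ≠ u) (hv1 : v ≠ 1) (hx1 : x ∈ QQ u) (hx2 : x ∈ QQ v) :
    x ∈ QQ (u * v) := by
  have ez : g⁻¹ * u * g⁻¹⁻¹ = z := by
    rw [← hg]
    group
  have hv' : g⁻¹ * v * g⁻¹⁻¹ ∈ QQ z := by
    have := QQ_conj g⁻¹ u hvu
    rw [ez] at this
    exact this
  have hx' : g⁻¹ * x * g⁻¹⁻¹ ∈ QQ z := by
    have := QQ_conj g⁻¹ u hx1
    rw [ez] at this
    exact this
  have hx'' : g⁻¹ * x * g⁻¹⁻¹ ∈ QQ (g⁻¹ * v * g⁻¹⁻¹) := QQ_conj g⁻¹ v hx2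
  have hne' : g⁻¹ * v * g⁻¹⁻¹ ≠ z := by
    intro h
    apply hne
    calc v = g * (g⁻¹ * v * g⁻¹⁻¹) * g⁻¹ := by group
      _ = u := by rw [h, hg]
  have hv1' : g⁻¹ * v * g⁻¹⁻¹ ≠ 1 := by
    intro h
    apply hv1
    calc v = g * (g⁻¹ * v * g⁻¹⁻¹) * g⁻¹ := by group
      _ = 1 := by rw [h]; group
  have ha' : (g⁻¹ * a) * z * (g⁻¹ * a)⁻¹ = g⁻¹ * v * g⁻¹⁻¹ := by
    rw [← ha]
    group
  have h1 := inter_mul_z z hz hE hC _ hv' hne' hv1' _ ha' _ hx' hx''
  have h2 := QQ_conj g _ h1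
  have e1 : g * (g⁻¹ * x * g⁻¹⁻¹) * g⁻¹ = x := by group
  have e2 : g * (z * (g⁻¹ * v * g⁻¹⁻¹)) * g⁻¹ = u * v := by
    rw [← hg]
    group
  rw [e1, e2] at h2
  exact h2

/-- S5598: the joint core of a singular subgroup is determined by generators. -/
theorem joint_core_gen [Finite G] (z : G) (hz : orderOf z = 2)
    (hE : Cfsg.IsExtraspecial 2 ↥(QQ z))
    (hC : Subgroup.centralizer ((QQ z : Subgroup G) : Set G) ≤ QQ z)
    (U : Subgroup G) (hU2 : ∀ u ∈ U, u * u = 1)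
    (hS : ∀ u ∈ U, u ≠ 1 → ∃ g : G, g * z * g⁻¹ = u)
    (hO : ∀ u ∈ U, ∀ v ∈ U, u ≠ 1 → v ≠ 1 → v ∈ QQ u)
    (T : Set G) (hT : Subgroup.closure T = U) (hT1 : (1 : G) ∉ T) :
    (⨅ u ∈ ((U : Set G) \ {1}), QQ u) = ⨅ t ∈ T, QQ t := by
  apply le_antisymm
  · refine le_iInf₂ (fun t ht => ?_)
    have htU : t ∈ (U : Set G) \ {1} :=
      ⟨hT ▸ Subgroup.subset_closure ht, fun h => hT1 (h ▸ ht)⟩
    exact iInf₂_le t htU
  · refine le_iInf₂ (fun u hu => ?_)
    intro x hx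
    have hxT : ∀ t ∈ T, x ∈ QQ t := fun t ht =>
      (iInf₂_le t ht : (⨅ t ∈ T, QQ t) ≤ QQ t) hx
    have key : ∀ w (hw : w ∈ Subgroup.closure T), w = 1 ∨ x ∈ QQ w := by
      intro w hw
      induction hw using Subgroup.closure_induction with
      | mem t ht => exact Or.inr (hxT t ht)
      | one => exact Or.inl rfl
      | mul a b ha hb iha ihb =>
        rw [hT] at ha hb
        by_cases ha1 : a = 1
        · rw [ha1, one_mul]
          exact ihb
        by_cases hb1 : b = 1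
        · rw [hb1, mul_one]
          exact iha
        by_cases hab : a * b = 1
        · exact Or.inl hab
        right
        have hxa : x ∈ QQ a := iha.resolve_left ha1
        have hxb : x ∈ QQ b := ihb.resolve_left hb1
        obtain ⟨g, hg⟩ := hS a ha ha1
        obtain ⟨c, hc⟩ := hS b hb hb1
        have hne : b ≠ a := by
          intro h
          apply hab
          rw [h]
          exact hU2 a ha
        exact inter_mul z hz hE hC a b x g hg c hc (hO a ha b hb ha1 hb1) hne hb1 hxa hxb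
      | inv a ha iha =>
        rw [hT] at ha
        have : a⁻¹ = a := inv_eq_of_mul_eq_one_left (hU2 a ha)
        rw [this]
        exact iha
    have hu1 : u ∈ U := hu.1
    have hu2 : u ≠ 1 := fun h => hu.2 (by rw [h]; exact Set.mem_singleton 1)
    rcases key u (hT ▸ hu1) with h | h
    · exact absurd h hu2
    · exact h

end Cfsg.Agent.Lead.XS
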