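import Mathlib
import Cfsg.Agent.Lead.XS2

set_option autoImplicit false

namespace Cfsg.Agent.Lead.XS

open Cfsg

variable {G : Type*} [Group G]

theorem QQ_conj_inv [Finite G] (a x : G) {y : G} (hy : y ∈ QQ (a * x * a⁻¹)) :
    a⁻¹ * y * a ∈ QQ x := by
  have h := QQ_conj a⁻¹ (a * x * a⁻¹) hy
  have e : a⁻¹ * (a * x * a⁻¹) * a⁻¹⁻¹ = x := by group
  rw [e, inv_inv] at h
  exact h

/-- The facts about an extraspecial self-centralizing `Qu` with centre `⟨u⟩` that we use. -/
def Facts (Qu : Subgroup G) (u : G) : Prop :=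
  u ∈ Qu ∧ u * u = 1 ∧ u ≠ 1 ∧ (∀ y ∈ Qu, u * y = y * u) ∧
  (∀ c ∈ Qu, (∀ y ∈ Qu, c * y = y * c) → c = 1 ∨ c = u) ∧
  (∀ a ∈ Qu, ∀ b ∈ Qu, a * b = b * a ∨ a * b = u * b * a) ∧
  (∀ h : G, (∀ y ∈ Qu, h * y = y * h) → h ∈ Qu)

theorem facts_conj [Finite G] (z : G) (hz : orderOf z = 2)
    (hE : Cfsg.IsExtraspecial 2 ↥(QQ z))
    (hC : Subgroup.centralizer ((QQ z : Subgroup G) : Set G) ≤ QQ z) (g u : G)
    (hu : g * z * g⁻¹ = u) : Facts (QQ u) u := by
  have hz2 : z * z = 1 := by rw [← pow_two, ← hz, pow_orderOf_eq_one]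
  have hz1 : z ≠ 1 := by
    intro h
    rw [h, orderOf_one] at hz
    omega
  have hzQ : z ∈ QQ z := zmem z hz
  have hzc : ∀ y ∈ QQ z, z * y = y * z := fun y hy => mem_cs.mp (QQ_le z hy)
  have cen := xs_cen (QQ z) z hzQ hz1 hzc hE
  have comm := xs_comm (QQ z) z hzQ hz1 hzc hE
  have down : ∀ y ∈ QQ u, g⁻¹ * y * g ∈ QQ z := by
    intro y hy
    rw [← hu] at hy
    exact QQ_conj_inv g z hy
  have up : ∀ w ∈ QQ z, g * w * g⁻¹ ∈ QQ u := by
    intro w hw
    rw [← hu]
    exact QQ_conj g z hw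
  refine ⟨?_, ?_, ?_, ?_, ?_, ?_, ?_⟩
  · have := up z hzQ
    rwa [hu] at this
  · rw [← hu]
    calc g * z * g⁻¹ * (g * z * g⁻¹) = g * (z * z) * g⁻¹ := by group
      _ = 1 := by rw [hz2]; group
  · intro h
    apply hz1
    calc z = g⁻¹ * (g * z * g⁻¹) * g := by group
      _ = 1 := by rw [hu, h]; group
  · exact fun y hy => mem_cs.mp (QQ_le u hy)
  · intro c hc hcc
    have h1 : ∀ w ∈ QQ z, g⁻¹ * c * g * w = w * (g⁻¹ * c * g) := by
      intro w hw
      have h2 := hcc _ (up w hw)
      calc g⁻¹ * c * g * w = g⁻¹ * (c * (g * w * g⁻¹)) * g := by group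
        _ = g⁻¹ * ((g * w * g⁻¹) * c) * g := by rw [h2]
        _ = w * (g⁻¹ * c * g) := by group
    rcases cen _ (down c hc) h1 with h | h
    · left
      calc c = g * (g⁻¹ * c * g) * g⁻¹ := by group
        _ = 1 := by rw [h]; group
    · right
      calc c = g * (g⁻¹ * c * g) * g⁻¹ := by group
        _ = u := by rw [h, hu]
  · intro a ha b hb
    rcases comm _ (down a ha) _ (down b hb) with h | h
    · left
      calc a * b = g * ((g⁻¹ * a * g) * (g⁻¹ * b * g)) * g⁻¹ := by group
        _ = g * ((g⁻¹ * b * g) * (g⁻¹ * a * g)) * g⁻¹ := by rw [h]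
        _ = b * a := by group
    · right
      calc a * b = g * ((g⁻¹ * a * g) * (g⁻¹ * b * g)) * g⁻¹ := by group
        _ = g * (z * (g⁻¹ * b * g) * (g⁻¹ * a * g)) * g⁻¹ := by rw [h]
        _ = (g * z * g⁻¹) * b * a := by group
        _ = u * b * a := by rw [hu]
  · intro h hh
    have h1 : g⁻¹ * h * g ∈ Subgroup.centralizer ((QQ z : Subgroup G) : Set G) := by
      rw [Subgroup.mem_centralizer_iff]
      intro w hw
      have h2 := hh _ (up w hw)
      calc w * (g⁻¹ * h * g) = g⁻¹ * ((g * w * g⁻¹) * h) * g := by group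
        _ = g⁻¹ * (h * (g * w * g⁻¹)) * g := by rw [h2]
        _ = g⁻¹ * h * g * w := by group
    have h3 := up _ (hC h1)
    have e : g * (g⁻¹ * h * g) * g⁻¹ = h := by group
    rw [e] at h3
    exact h3

/-- Double centralizer property in an extraspecial group. -/
theorem dcent {Qu : Subgroup G} {u : G} (hF : Facts Qu u) (S : Finset G) :
    (∀ v ∈ S, v ∈ Qu) → ∀ x ∈ Qu,
      (∀ g ∈ Qu, (∀ v ∈ S, g * v = v * g) → g * x = x * g) →
      x ∈ Subgroup.closure (insert u (S : Set G)) := by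
  classical
  obtain ⟨hm, hsq, hne, hcentral, hcen, hcomm, hself⟩ := hF
  induction S using Finset.induction_on with
  | empty =>
    intro _ x hx hxc
    have h1 : ∀ y ∈ Qu, x * y = y * x := fun y hy => (hxc y hy (by simp)).symm
    rcases hcen x hx h1 with h | h
    · rw [h]
      exact Subgroup.one_mem _
    · rw [h]
      exact Subgroup.subset_closure (Set.mem_insert u _)
  | insert v S hvS ih =>
    intro hSQ x hx hxc
    have hvQ : v ∈ Qu := hSQ v (Finset.mem_insert_self v S)
    have hSQ' : ∀ w ∈ S, w ∈ Qu := fun w hw => hSQ w (Finset.mem_insert_of_mem hw)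
    have hmono : Subgroup.closure (insert u (S : Set G)) ≤
        Subgroup.closure (insert u ((insert v S : Finset G) : Set G)) := by
      apply Subgroup.closure_mono
      intro y hy
      rcases hy with hy | hy
      · exact Or.inl hy
      · right
        exact Finset.mem_coe.mpr (Finset.mem_insert_of_mem (Finset.mem_coe.mp hy))
    have hvcl : v ∈ Subgroup.closure (insert u ((insert v S : Finset G) : Set G)) :=
      Subgroup.subset_closure (Or.inr (Finset.mem_coe.mpr (Finset.mem_insert_self v S)))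
    by_cases hcase : ∀ g ∈ Qu, (∀ w ∈ S, g * w = w * g) → g * v = v * g
    · apply hmono
      apply ih hSQ' x hx
      intro g hg hgS
      apply hxc g hg
      intro w hw
      rcases Finset.mem_insert.mp hw with hw' | hw'
      · rw [hw']
        exact hcase g hg hgS
      · exact hgS w hw'
    · push Not at hcase
      obtain ⟨g0, hg0, hg0S, hg0v⟩ := hcase
      have hg0v' : g0 * v = u * v * g0 := (hcomm g0 hg0 v hvQ).resolve_left hg0v
      have e0 : g0⁻¹ * (u * v) = v * g0⁻¹ := by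
        calc g0⁻¹ * (u * v) = g0⁻¹ * (u * v * g0) * g0⁻¹ := by group
          _ = g0⁻¹ * (g0 * v) * g0⁻¹ := by rw [hg0v']
          _ = v * g0⁻¹ := by group
      -- an element commuting with C and with g0 commutes with C'
      have key : ∀ y ∈ Qu,
          (∀ g ∈ Qu, (∀ w ∈ insert v S, g * w = w * g) → g * y = y * g) →
          y * g0 = g0 * y → ∀ g ∈ Qu, (∀ w ∈ S, g * w = w * g) → g * y = y * g := by
        intro y _ hyc hyg0 g hg hgS
        rcases hcomm g hg v hvQ with hgv | hgv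
        · apply hyc g hg
          intro w hw
          rcases Finset.mem_insert.mp hw with hw' | hw'
          · rw [hw']
            exact hgv
          · exact hgS w hw'
        · have h1 : (g0⁻¹ * g) * y = y * (g0⁻¹ * g) := by
            apply hyc (g0⁻¹ * g) (Qu.mul_mem (Qu.inv_mem hg0) hg)
            intro w hw
            rcases Finset.mem_insert.mp hw with hw' | hw'
            · rw [hw']
              calc g0⁻¹ * g * v = g0⁻¹ * (g * v) := by rw [mul_assoc]
                _ = g0⁻¹ * (u * v * g) := by rw [hgv]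
                _ = (g0⁻¹ * (u * v)) * g := by simp only [mul_assoc]
                _ = v * g0⁻¹ * g := by rw [e0]
                _ = v * (g0⁻¹ * g) := by rw [mul_assoc]
            · have h2 := hg0S w hw'
              have e1 : g0⁻¹ * w = w * g0⁻¹ := by
                calc g0⁻¹ * w = g0⁻¹ * (w * g0) * g0⁻¹ := by group
                  _ = g0⁻¹ * (g0 * w) * g0⁻¹ := by rw [h2]
                  _ = w * g0⁻¹ := by group
              calc g0⁻¹ * g * w = g0⁻¹ * (g * w) := by rw [mul_assoc]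
                _ = g0⁻¹ * (w * g) := by rw [hgS w hw']
                _ = (g0⁻¹ * w) * g := by rw [mul_assoc]
                _ = w * g0⁻¹ * g := by rw [e1]
                _ = w * (g0⁻¹ * g) := by rw [mul_assoc]
          calc g * y = g0 * ((g0⁻¹ * g) * y) := by group
            _ = g0 * (y * (g0⁻¹ * g)) := by rw [h1]
            _ = (g0 * y) * (g0⁻¹ * g) := by rw [mul_assoc]
            _ = (y * g0) * (g0⁻¹ * g) := by rw [hyg0]
            _ = y * g := by group
      by_cases hxg0 : x * g0 = g0 * x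
      · apply hmono
        exact ih hSQ' x hx (key x hx hxc hxg0)
      · have hxg0' : x * g0 = u * g0 * x := (hcomm x hx g0 hg0).resolve_left hxg0
        have hvg0 : v * g0 = u * g0 * v := by
          calc v * g0 = (u * u) * (v * g0) := by rw [hsq, one_mul]
            _ = u * (u * v * g0) := by simp only [mul_assoc]
            _ = u * (g0 * v) := by rw [hg0v']
            _ = u * g0 * v := by rw [mul_assoc]
        have huv : u * v = v * u := hcentral v hvQ
        have hy0 : (v * x) * g0 = g0 * (v * x) := by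
          calc v * x * g0 = v * (x * g0) := by rw [mul_assoc]
            _ = v * (u * g0 * x) := by rw [hxg0']
            _ = (v * u) * g0 * x := by simp only [mul_assoc]
            _ = (u * v) * g0 * x := by rw [huv]
            _ = u * (v * g0) * x := by simp only [mul_assoc]
            _ = u * (u * g0 * v) * x := by rw [hvg0]
            _ = (u * u) * g0 * (v * x) := by simp only [mul_assoc]
            _ = g0 * (v * x) := by rw [hsq, one_mul]
        have hyc : ∀ g ∈ Qu, (∀ w ∈ insert v S, g * w = w * g) →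
            g * (v * x) = (v * x) * g := by
          intro g hg hgS
          have h1 := hgS v (Finset.mem_insert_self v S)
          have h2 := hxc g hg hgS
          calc g * (v * x) = (g * v) * x := by rw [mul_assoc]
            _ = (v * g) * x := by rw [h1]
            _ = v * (g * x) := by rw [mul_assoc]
            _ = v * (x * g) := by rw [h2]
            _ = (v * x) * g := by rw [mul_assoc]
        have h3 := hmono (ih hSQ' (v * x) (Qu.mul_mem hvQ hx)
          (key (v * x) (Qu.mul_mem hvQ hx) hyc hy0))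
        have e : x = v⁻¹ * (v * x) := by group
        rw [e]
        exact Subgroup.mul_mem _ (Subgroup.inv_mem _ hvcl) h3

theorem exists_cent_noncomm {Qu : Subgroup G} {u : G} (hF : Facts Qu u) (S : Finset G)
    (hSQ : ∀ v ∈ S, v ∈ Qu) (x : G) (hx : x ∈ Qu)
    (hxn : x ∉ Subgroup.closure (insert u (S : Set G))) :
    ∃ g ∈ Qu, (∀ v ∈ S, g * v = v * g) ∧ g * x = u * x * g := by
  by_contra hcon
  push Not at hcon
  apply hxn
  apply dcent hF S hSQ x hx
  intro g hg hgS
  rcases hF.2.2.2.2.2.1 g hg x hx with h | h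
  · exact h
  · exact absurd h (hcon g hg hgS)

theorem biSup_ind {S : Set G} {Qf : G → Subgroup G} {C : G → Prop}
    (hmem : ∀ u ∈ S, ∀ x ∈ Qf u, C x) (hone : C 1)
    (hmul : ∀ x y, C x → C y → C (x * y)) :
    ∀ x ∈ ⨆ u ∈ S, Qf u, C x := by
  intro x hx
  refine Subgroup.iSup_induction (fun u => ⨆ (_ : u ∈ S), Qf u) (C := C) hx ?_ hone hmul
  intro u y hy
  refine Subgroup.iSup_induction (fun (_ : u ∈ S) => Qf u) (C := C) hy ?_ hone hmul
  intro hu w hw
  exact hmem u hu w hw

/-- `LU` normalizes `U` and acts trivially on `QU / U`. -/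
theorem LU_acts [Finite G] (z : G) (hz : orderOf z = 2)
    (hE : Cfsg.IsExtraspecial 2 ↥(QQ z))
    (hC : Subgroup.centralizer ((QQ z : Subgroup G) : Set G) ≤ QQ z)
    (U : Subgroup G)
    (hS : ∀ u ∈ U, u ≠ 1 → ∃ g : G, g * z * g⁻¹ = u)
    (hO : ∀ u ∈ U, ∀ v ∈ U, u ≠ 1 → v ≠ 1 → v ∈ QQ u) :
    ∀ g ∈ ⨆ u ∈ ((U : Set G) \ {1}), QQ u,
      (∀ v ∈ U, g * v * g⁻¹ ∈ U) ∧
      (∀ x ∈ ⨅ u ∈ ((U : Set G) \ {1}), QQ u, g * x * g⁻¹ * x⁻¹ ∈ U) := by
  apply biSup_ind
  · intro u hu g hg
    have hu1 : u ∈ U := hu.1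
    have hune : u ≠ 1 := fun h => hu.2 (by rw [h]; exact Set.mem_singleton 1)
    obtain ⟨a, ha⟩ := hS u hu1 hune
    obtain ⟨hm, hsq, hne, hcentral, hcen, hcomm, hself⟩ := facts_conj z hz hE hC a u ha
    constructor
    · intro v hv
      by_cases hv1 : v = 1
      · rw [hv1, mul_one, mul_inv_cancel]
        exact U.one_mem
      · have hvQ := hO u hu1 v hv hune hv1
        rcases hcomm g hg v hvQ with h | h
        · rw [h, mul_inv_cancel_right]
          exact hv
        · rw [h, mul_inv_cancel_right]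
          exact U.mul_mem hu1 hv
    · intro x hx
      have hxQ : x ∈ QQ u :=
        (iInf₂_le u hu : (⨅ u ∈ ((U : Set G) \ {1}), QQ u) ≤ QQ u) hx
      rcases hcomm g hg x hxQ with h | h
      · rw [h, mul_inv_cancel_right, mul_inv_cancel]
        exact U.one_mem
      · rw [h, mul_inv_cancel_right, mul_inv_cancel_right]
        exact hu1
  · constructor
    · intro v hv
      rw [one_mul, inv_one, mul_one]
      exact hv
    · intro x _
      rw [one_mul, inv_one, mul_one, mul_inv_cancel]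
      exact U.one_mem
  · rintro g1 g2 ⟨h1a, h1b⟩ ⟨h2a, h2b⟩
    constructor
    · intro v hv
      have h3 := h1a _ (h2a v hv)
      have e : g1 * g2 * v * (g1 * g2)⁻¹ = g1 * (g2 * v * g2⁻¹) * g1⁻¹ := by group
      rw [e]
      exact h3
    · intro x hx
      have e : g1 * g2 * x * (g1 * g2)⁻¹ * x⁻¹
          = (g1 * (g2 * x * g2⁻¹ * x⁻¹) * g1⁻¹) * (g1 * x * g1⁻¹ * x⁻¹) := by group
      rw [e]
      exact U.mul_mem (h1a _ (h2b x hx)) (h1b x hx)

/-- transitivity of `C_{LU}(U)` on the cosets `xU`, `x ∈ QU ∖ U`. -/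
theorem coset_trans [Finite G] (z : G) (hz : orderOf z = 2)
    (hE : Cfsg.IsExtraspecial 2 ↥(QQ z))
    (hC : Subgroup.centralizer ((QQ z : Subgroup G) : Set G) ≤ QQ z)
    (U : Subgroup G)
    (hS : ∀ u ∈ U, u ≠ 1 → ∃ g : G, g * z * g⁻¹ = u)
    (hO : ∀ u ∈ U, ∀ v ∈ U, u ≠ 1 → v ≠ 1 → v ∈ QQ u)
    (x : G) (hx : x ∈ ⨅ u ∈ ((U : Set G) \ {1}), QQ u) (hxU : x ∉ U) (u : G) (hu : u ∈ U) :
    ∃ g ∈ (⨆ u ∈ ((U : Set G) \ {1}), QQ u) ⊓ Subgroup.centralizer (U : Set G),
      g * x * g⁻¹ = x * u := by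
  classical
  by_cases hu1 : u = 1
  · refine ⟨1, Subgroup.one_mem _, ?_⟩
    rw [hu1, one_mul, inv_one, mul_one]
  have huS : u ∈ (U : Set G) \ {1} := ⟨hu, fun h => hu1 (Set.mem_singleton_iff.mp h)⟩
  obtain ⟨a, ha⟩ := hS u hu hu1
  have hF := facts_conj z hz hE hC a u ha
  have hxQ : x ∈ QQ u :=
    (iInf₂_le u huS : (⨅ u ∈ ((U : Set G) \ {1}), QQ u) ≤ QQ u) hx
  obtain ⟨S, hSdef⟩ : ∃ S : Finset G, ∀ v, v ∈ S ↔ v ∈ U :=
    ⟨(Set.toFinite (U : Set G)).toFinset, fun v => by simp⟩
  have hSQ : ∀ v ∈ S, v ∈ QQ u := by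
    intro v hv
    have hvU := (hSdef v).mp hv
    by_cases hv1 : v = 1
    · rw [hv1]
      exact Subgroup.one_mem _
    · exact hO u hu v hvU hu1 hv1
  have hxn : x ∉ Subgroup.closure (insert u (S : Set G)) := by
    intro h
    apply hxU
    have hle : Subgroup.closure (insert u (S : Set G)) ≤ U := by
      rw [Subgroup.closure_le]
      intro y hy
      rcases hy with hy | hy
      · rw [hy]
        exact hu
      · exact (hSdef y).mp (Finset.mem_coe.mp hy)
    exact hle h
  obtain ⟨g, hg, hgS, hgx⟩ := exists_cent_noncomm hF S hSQ x hxQ hxn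
  refine ⟨g, Subgroup.mem_inf.mpr ⟨?_, ?_⟩, ?_⟩
  · exact (le_iSup₂ (f := fun u (_ : u ∈ (U : Set G) \ {1}) => QQ u) u huS) hg
  · rw [Subgroup.mem_centralizer_iff]
    intro v hv
    exact (hgS v ((hSdef v).mpr hv)).symm
  · rw [hgx, mul_inv_cancel_right]
    exact hF.2.2.2.1 x hxQ

end Cfsg.Agent.Lead.XS
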