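import Mathlib
import Cfsg.Agent.Lead.XS3

set_option autoImplicit false
set_option linter.style.haveILetI false

namespace Cfsg.Agent.Lead.XS

open Cfsg

variable {G : Type*} [Group G]

/-- Every injective hom `U → U` is induced by conjugation by an element of `LU`. -/
theorem induce [Finite G] (z : G) (hz : orderOf z = 2)
    (hE : Cfsg.IsExtraspecial 2 ↥(QQ z))
    (hC : Subgroup.centralizer ((QQ z : Subgroup G) : Set G) ≤ QQ z)
    (U : Subgroup G) (hU2 : ∀ u ∈ U, u * u = 1)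
    (hS : ∀ u ∈ U, u ≠ 1 → ∃ g : G, g * z * g⁻¹ = u)
    (hO : ∀ u ∈ U, ∀ v ∈ U, u ≠ 1 → v ≠ 1 → v ∈ QQ u) (n : ℕ) :
    ∀ φ : ↥U →* G, Function.Injective φ → (∀ v, φ v ∈ U) →
      Set.ncard {v : ↥U | φ v ≠ (v : G)} = n →
      ∃ g ∈ ⨆ u ∈ ((U : Set G) \ {1}), QQ u, ∀ v : ↥U, g * (v : G) * g⁻¹ = φ v := by
  classical
  induction n using Nat.strong_induction_on with
  | _ n ih =>
  intro φ hinj hφU hn
  by_cases hall : ∀ v : ↥U, φ v = (v : G)
  · exact ⟨1, Subgroup.one_mem _, fun v => by rw [hall v, one_mul, inv_one, mul_one]⟩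
  push Not at hall
  obtain ⟨e, he⟩ := hall
  have hUcomm : ∀ a ∈ U, ∀ b ∈ U, a * b = b * a := by
    intro a ha b hb
    have h1 := hU2 (a * b) (U.mul_mem ha hb)
    have h2 := hU2 a ha
    have h3 := hU2 b hb
    calc a * b = (a * b)⁻¹ := eq_inv_of_mul_eq_one_left h1
      _ = b⁻¹ * a⁻¹ := mul_inv_rev a b
      _ = b * a := by rw [inv_eq_of_mul_eq_one_left h2, inv_eq_of_mul_eq_one_left h3]
  have heU : (e : G) ∈ U := e.2
  have hxU : φ e ∈ U := hφU e
  obtain ⟨c, hcdef⟩ : ∃ c, c = (e : G) * φ e := ⟨_, rfl⟩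
  have hcU : c ∈ U := by
    rw [hcdef]
    exact U.mul_mem heU hxU
  have hc1 : c ≠ 1 := by
    intro h
    apply he
    rw [hcdef] at h
    have h1 : φ e = (e : G)⁻¹ := (inv_eq_of_mul_eq_one_right h).symm
    rw [h1]
    exact inv_eq_of_mul_eq_one_left (hU2 _ heU)
  have hcc : c * c = 1 := hU2 c hcU
  have hcS : c ∈ (U : Set G) \ {1} := ⟨hcU, fun h => hc1 (Set.mem_singleton_iff.mp h)⟩
  obtain ⟨a, ha⟩ := hS c hcU hc1
  have hF := facts_conj z hz hE hC a c ha
  obtain ⟨Fx, hFx⟩ : ∃ Fx : Subgroup G, Fx = (φ.eqLocus U.subtype).map U.subtype := ⟨_, rfl⟩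
  have hFxmem : ∀ y, y ∈ Fx ↔ ∃ v : ↥U, φ v = (v : G) ∧ (v : G) = y := by
    intro y
    rw [hFx]
    constructor
    · rintro ⟨v, hv, rfl⟩
      exact ⟨v, hv, rfl⟩
    · rintro ⟨v, hv, rfl⟩
      exact ⟨v, hv, rfl⟩
  have hFxU : Fx ≤ U := by
    rw [hFx]
    exact Subgroup.map_subtype_le _
  obtain ⟨S, hSdef⟩ : ∃ S : Finset G, ∀ v, v ∈ S ↔ v ∈ Fx :=
    ⟨(Set.toFinite (Fx : Set G)).toFinset, fun v => by simp⟩
  have hSQ : ∀ v ∈ S, v ∈ QQ c := by
    intro v hv
    have hvU := hFxU ((hSdef v).mp hv)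
    by_cases hv1 : v = 1
    · rw [hv1]
      exact Subgroup.one_mem _
    · exact hO c hcU v hvU hc1 hv1
  have hx1 : φ e ≠ 1 := by
    intro h
    apply he
    have h1 : e = 1 := hinj (by rw [h, map_one])
    rw [h, h1]
    rfl
  have hxQ : φ e ∈ QQ c := hO c hcU (φ e) hxU hc1 hx1
  have hclos : ∀ y ∈ Subgroup.closure (insert c (S : Set G)), y ∈ Fx ∨ c * y ∈ Fx := by
    intro y hy
    induction hy using Subgroup.closure_induction with
    | mem y hy =>
      rcases hy with hy | hy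
      · right
        rw [hy, hcc]
        exact Fx.one_mem
      · left
        exact (hSdef y).mp (Finset.mem_coe.mp hy)
    | one =>
      left
      exact Fx.one_mem
    | mul x y _ _ ihx ihy =>
      rcases ihx with hx | hx <;> rcases ihy with hy | hy
      · left
        exact Fx.mul_mem hx hy
      · right
        have e1 : c * (x * y) = x * (c * y) := by
          rw [← mul_assoc, hUcomm c hcU x (hFxU hx), mul_assoc]
        rw [e1]
        exact Fx.mul_mem hx hy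
      · right
        rw [← mul_assoc]
        exact Fx.mul_mem hx hy
      · left
        have hxU' : x ∈ U := by
          have h1 : x = c * (c * x) := by rw [← mul_assoc, hcc, one_mul]
          rw [h1]
          exact U.mul_mem hcU (hFxU hx)
        have e1 : x * y = (c * x) * (c * y) := by
          calc x * y = x * ((c * c) * y) := by rw [hcc, one_mul]
            _ = (x * c) * (c * y) := by simp only [mul_assoc]
            _ = (c * x) * (c * y) := by rw [hUcomm x hxU' c hcU]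
        rw [e1]
        exact Fx.mul_mem hx hy
    | inv x _ ihx =>
      rcases ihx with hx | hx
      · left
        exact Fx.inv_mem hx
      · right
        have hxU' : x ∈ U := by
          have h1 : x = c * (c * x) := by rw [← mul_assoc, hcc, one_mul]
          rw [h1]
          exact U.mul_mem hcU (hFxU hx)
        have e1 : c * x⁻¹ = (c * x)⁻¹ := by
          rw [mul_inv_rev, inv_eq_of_mul_eq_one_left hcc,
            hUcomm c hcU x⁻¹ (U.inv_mem hxU')]
        rw [e1]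
        exact Fx.inv_mem hx
  have hxn : φ e ∉ Subgroup.closure (insert c (S : Set G)) := by
    intro h
    rcases hclos _ h with h1 | h1
    · obtain ⟨v, hv, hve⟩ := (hFxmem _).mp h1
      have h2 : v = e := hinj (by rw [hv, hve])
      apply he
      rw [← h2]
      exact hv
    · have e2 : c * φ e = (e : G) := by
        rw [hcdef, mul_assoc, hU2 _ hxU, mul_one]
      rw [e2] at h1
      obtain ⟨v, hv, hve⟩ := (hFxmem _).mp h1
      have h2 : v = e := Subtype.ext hve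
      apply he
      rw [← h2]
      exact hv
  obtain ⟨g, hg, hgS, hgx⟩ := exists_cent_noncomm hF S hSQ (φ e) hxQ hxn
  have hgL : g ∈ ⨆ u ∈ ((U : Set G) \ {1}), QQ u :=
    (le_iSup₂ (f := fun u (_ : u ∈ (U : Set G) \ {1}) => QQ u) c hcS) hg
  have hgU := (LU_acts z hz hE hC U hS hO g hgL).1
  obtain ⟨ψ, hψ⟩ : ∃ ψ : ↥U →* G, ∀ v, ψ v = g * φ v * g⁻¹ :=
    ⟨(MulAut.conj g).toMonoidHom.comp φ, fun v => by simp [MulAut.conj_apply]⟩
  have hψinj : Function.Injective ψ := by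
    intro v w hvw
    rw [hψ, hψ] at hvw
    exact hinj (mul_left_cancel (mul_right_cancel hvw))
  have hψU : ∀ v, ψ v ∈ U := fun v => by
    rw [hψ]
    exact hgU _ (hφU v)
  have hsub : {v : ↥U | ψ v ≠ (v : G)} ⊂ {v : ↥U | φ v ≠ (v : G)} := by
    constructor
    · intro v hv hφv
      apply hv
      have hvS : (v : G) ∈ S := (hSdef _).mpr ((hFxmem _).mpr ⟨v, hφv, rfl⟩)
      rw [hψ, hφv, hgS _ hvS, mul_inv_cancel_right]
    · intro hcontra
      have h1 : e ∈ {v : ↥U | ψ v ≠ (v : G)} := hcontra he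
      apply h1
      rw [hψ, hgx, mul_inv_cancel_right, hcdef, mul_assoc, hU2 _ hxU, mul_one]
  have hlt : Set.ncard {v : ↥U | ψ v ≠ (v : G)} < n := by
    rw [← hn]
    exact Set.ncard_lt_ncard hsub
  obtain ⟨g', hg', hg'v⟩ := ih _ hlt ψ hψinj hψU rfl
  refine ⟨g⁻¹ * g', Subgroup.mul_mem _ (Subgroup.inv_mem _ hgL) hg', ?_⟩
  intro v
  have h1 := hg'v v
  rw [hψ] at h1
  calc g⁻¹ * g' * (v : G) * (g⁻¹ * g')⁻¹ = g⁻¹ * (g' * (v : G) * g'⁻¹) * g := by group
    _ = g⁻¹ * (g * φ v * g⁻¹) * g := by rw [h1]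
    _ = φ v := by group

theorem full_linear [Finite G] (z : G) (hz : orderOf z = 2)
    (hE : Cfsg.IsExtraspecial 2 ↥(QQ z))
    (hC : Subgroup.centralizer ((QQ z : Subgroup G) : Set G) ≤ QQ z)
    (U : Subgroup G) (hU2 : ∀ u ∈ U, u * u = 1)
    (hS : ∀ u ∈ U, u ≠ 1 → ∃ g : G, g * z * g⁻¹ = u)
    (hO : ∀ u ∈ U, ∀ v ∈ U, u ≠ 1 → v ≠ 1 → v ∈ QQ u)
    (n : ℕ) (hn : 2 ≤ n) (hcard : Nat.card ↥U = 2 ^ n) :
    U ≤ (⨅ u ∈ ((U : Set G) \ {1}), QQ u) ∧
    (⨅ u ∈ ((U : Set G) \ {1}), QQ u) ≤ (⨆ u ∈ ((U : Set G) \ {1}), QQ u) ∧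
    (⨆ u ∈ ((U : Set G) \ {1}), QQ u) ≤ Subgroup.normalizer (U : Set G) ∧
    ∀ φ : ↥U ≃* ↥U, ∃ g ∈ (⨆ u ∈ ((U : Set G) \ {1}), QQ u),
      ∀ u : ↥U, g * (u : G) * g⁻¹ = ((φ u : ↥U) : G) := by
  refine ⟨?_, ?_, ?_, ?_⟩
  · refine le_iInf₂ (fun u hu => ?_)
    intro v hv
    have hu1 : u ∈ U := hu.1
    have hune : u ≠ 1 := fun h => hu.2 (by rw [h]; exact Set.mem_singleton 1)
    by_cases hv1 : v = 1
    · rw [hv1]
      exact Subgroup.one_mem _
    · exact hO u hu1 v hv hune hv1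
  · have hlt : 1 < Nat.card ↥U := by
      rw [hcard]
      exact Nat.one_lt_two_pow (by omega)
    haveI : Nontrivial ↥U := Finite.one_lt_card_iff_nontrivial.mp hlt
    obtain ⟨u0, hu0⟩ := exists_ne (1 : ↥U)
    have hu0S : (u0 : G) ∈ (U : Set G) \ {1} :=
      ⟨u0.2, fun h => hu0 (Subtype.ext (Set.mem_singleton_iff.mp h))⟩
    exact (iInf₂_le (f := fun u (_ : u ∈ (U : Set G) \ {1}) => QQ u) (u0 : G) hu0S).trans
      (le_iSup₂ (f := fun u (_ : u ∈ (U : Set G) \ {1}) => QQ u) (u0 : G) hu0S)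
  · intro g hg
    rw [Subgroup.mem_normalizer_iff]
    intro h
    constructor
    · intro hh
      exact (LU_acts z hz hE hC U hS hO g hg).1 h hh
    · intro hh
      have h1 := (LU_acts z hz hE hC U hS hO g⁻¹ (Subgroup.inv_mem _ hg)).1 _ hh
      have e : g⁻¹ * (g * h * g⁻¹) * g⁻¹⁻¹ = h := by group
      rw [e] at h1
      exact h1
  · intro φ
    have hinj : Function.Injective (U.subtype.comp φ.toMonoidHom) := by
      intro v w hvw
      apply φ.injective
      exact Subtype.ext hvw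
    obtain ⟨g, hg, hgv⟩ := induce z hz hE hC U hU2 hS hO _
      (U.subtype.comp φ.toMonoidHom) hinj (fun v => (φ v).2) rfl
    exact ⟨g, hg, fun u => by rw [hgv u]; rfl⟩

end Cfsg.Agent.Lead.XS
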